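import Cfsg.Agent.H22.OddPG13
import Cfsg.Agent.OOT.RankTwo4

set_option autoImplicit false
set_option linter.all false

/-! Bender-Glauberman 5.6, 5.7: odd order solvable groups with narrow Sylow `p`-subgroup. -/

namespace Cfsg.Agent.H22

open Subgroup commutatorElement

section
universe u
variable {G : Type u} [Group G] [Finite G] {p : ℕ} [hpf : Fact p.Prime]

theorem MaxEA2.mapf {K : Type*} [Group K] [Finite K] (f : G →* K) {S E : Subgroup G}
    (hinj : ∀ x ∈ S, f x = 1 → x = 1) (hE : MaxEA2 p S E) : MaxEA2 p (S.map f) (E.map f) := by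
  have hinj2 : ∀ x ∈ S, ∀ y ∈ S, f x = f y → x = y := by
    intro x hx y hy h
    have h1 := hinj (x * y⁻¹) (mul_mem hx (inv_mem hy)) (by rw [map_mul, map_inv, h, mul_inv_cancel])
    rwa [mul_inv_eq_one] at h1
  refine ⟨map_mono hE.le, H10.elab_map f hE.ea, ?_, ?_⟩
  · rw [← hE.card]
    refine Nat.card_congr (Equiv.ofBijective (fun x : E => (⟨f x, mem_map_of_mem f x.2⟩ : E.map f)) ⟨?_, ?_⟩).symm
    · intro x y h
      exact Subtype.ext (hinj2 _ (hE.le x.2) _ (hE.le y.2) (congrArg Subtype.val h))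
    · rintro ⟨_, x, hx, rfl⟩
      exact ⟨⟨x, hx⟩, rfl⟩
  · intro B hB hBea hEB
    have hBS : ∀ b ∈ B, ∃ x ∈ S ⊓ B.comap f, f x = b := by
      intro b hb
      obtain ⟨x, hx, rfl⟩ := hB hb
      exact ⟨x, ⟨hx, hb⟩, rfl⟩
    have h1 : S ⊓ B.comap f = E := by
      apply hE.max _ inf_le_left
      · refine ⟨⟨⟨fun a b => Subtype.ext ?_⟩⟩, fun a ha => ?_⟩
        · show (a : G) * b = b * a
          apply hinj2 _ (mul_mem a.2.1 b.2.1) _ (mul_mem b.2.1 a.2.1)
          rw [map_mul, map_mul]
          exact ea_comm hBea a.2.2 b.2.2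
        · apply hinj _ (pow_mem ha.1 p)
          rw [map_pow]
          exact hBea.2 _ ha.2
      · exact le_inf hE.le (map_le_iff_le_comap.mp hEB)
    apply le_antisymm _ hEB
    intro b hb
    obtain ⟨x, hx, rfl⟩ := hBS b hb
    rw [h1] at hx
    exact mem_map_of_mem f hx

theorem narrow_core {K : Type u} [Group K] [Finite K] (hs : Group.IsSolvable K)
    (hodd : Odd (Nat.card K)) (hp2 : p ≠ 2) (hr : ¬ PRankLE p 2 (pCore p K))
    {E : Subgroup K} (hE : MaxEA2 p (pCore p K) E) (h1 : pPrimeCore p K = ⊥) :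
    commutator K ≤ pCore p K ∧ ((pCore p K).index).Coprime p ∧
      ∀ q : ℕ, q.Prime → q ∣ Nat.card K → q ≤ p := by
  have hC := H1.centralizer_pCore_le hs p h1
  have hR : IsPGroup p (pCore p K) := H1.pCore_isPGroup p K
  haveI hRn : (pCore p K).Normal := H1.pCore_normal p K
  have htriv : ∀ Q : Subgroup K, (Nat.card Q).Coprime p → pCore p K ≤ centralizer (Q : Set K) →
      Q = ⊥ := by
    intro Q hQ hc
    have h2 : Q ≤ pCore p K := ((Subgroup.le_centralizer_iff).1 hc).trans hC
    have h3 := hR.to_le h2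
    obtain ⟨n, hn⟩ := IsPGroup.iff_card.1 h3
    rw [hn] at hQ
    rcases Nat.eq_zero_or_pos n with rfl | hn0
    · exact Subgroup.card_eq_one.1 (by simpa using hn)
    · exact absurd (Nat.Coprime.eq_one_of_dvd hQ.symm (dvd_pow_self p hn0.ne')) hpf.out.one_lt.ne'
  have hcomm : IsPGroup p (commutator K) := by
    apply isPGroup_of_trivial
    intro Q hQ hcop
    exact htriv Q hcop (narrow_derived hp2 hR hr hE hcop hQ)
  obtain ⟨h2, h3⟩ := pCore_of_derived hcomm
  refine ⟨h2, h3, ?_⟩
  intro q hq hqd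
  by_contra hlt
  haveI : Fact q.Prime := ⟨hq⟩
  obtain ⟨x, hx⟩ := exists_prime_orderOf_dvd_card' q hqd
  have hqp : q ≠ p := by rintro rfl; exact hlt le_rfl
  have hcop : q.Coprime p := (Nat.coprime_primes hq hpf.out).2 hqp
  have h4 := narrow_exponent hp2 hR hr hE (a := x) (by rw [hx]; exact hcop)
  have h5 : zpowers (x ^ (p - 1)) = ⊥ := by
    apply htriv
    · rw [Nat.card_zpowers]
      exact Nat.Coprime.of_dvd_left (orderOf_pow_dvd _) (by rw [hx]; exact hcop)
    · rw [Subgroup.le_centralizer_iff, zpowers_le]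
      exact h4
  rw [zpowers_eq_bot] at h5
  have h6 : q ∣ p - 1 := by
    rw [← hx]; exact orderOf_dvd_of_pow_eq_one h5
  have hp1 := hpf.out.one_lt
  have := Nat.le_of_dvd (by omega) h6
  omega

/-- from the structure of `G / O_{p'}(G)` to the structure of `G`. -/
theorem structure_of_core (hodd : Odd (Nat.card G))
    (hcore : commutator (G ⧸ pPrimeCore p G) ≤ pCore p (G ⧸ pPrimeCore p G) ∧ ((pCore p (G ⧸ pPrimeCore p G)).index).Coprime p ∧
      ∀ q : ℕ, q.Prime → q ∣ Nat.card (G ⧸ pPrimeCore p G) → q ≤ p) :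
    (∀ q : ℕ, q.Prime → q ∣ (pPrimeCore p G).index → q ≤ p) ∧
      ((p = 3 ∨ ∀ q : ℕ, q.Prime → q ∣ Nat.card G → p ≤ q) → HasNormalPComplement p G) ∧
      HasNormalPComplement p ↥(commutator G) ∧
      (∀ L : Subgroup ↥(commutator G), (Nat.card L).Coprime p → L ≤ pPrimeCore p ↥(commutator G)) ∧
      commutator G ≤ pPrimePCore p G ∧ ((pPrimePCore p G).index).Coprime p := by
  have hp := hpf
  haveI hNn : (pPrimeCore p G).Normal := H1.pPrimeCore_normal p G
  have hNc : (Nat.card (pPrimeCore p G)).Coprime p := H1.pPrimeCore_coprime p G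
  have hNd : ¬ p ∣ Nat.card (pPrimeCore p G) := (Nat.Prime.coprime_iff_not_dvd hp.out).1 hNc.symm
  set N := pPrimeCore p G with hN
  obtain ⟨h1, h2, h3⟩ := hcore
  have ha : ∀ q : ℕ, q.Prime → q ∣ N.index → q ≤ p := fun q hq hqd => h3 q hq hqd
  have hmapc : (commutator G).map (QuotientGroup.mk' N) = commutator (G ⧸ N) := by
    rw [_root_.commutator_def, Subgroup.map_commutator, _root_.commutator_def]
    rw [Subgroup.map_top_of_surjective _ (QuotientGroup.mk'_surjective N)]
  have hcp : IsPGroup p (commutator (G ⧸ N)) := (H1.pCore_isPGroup p _).to_le h1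
  have hN'p : ∃ k, (N.subgroupOf (commutator G)).index = p ^ k := by
    have e := Subgroup.relIndex_ker (QuotientGroup.mk' N) (K := commutator G)
    rw [QuotientGroup.ker_mk', hmapc] at e
    obtain ⟨k, hk⟩ := IsPGroup.iff_card.1 hcp
    exact ⟨k, by rw [← hk, ← e]; rfl⟩
  have hN'c : ¬ p ∣ Nat.card (N.subgroupOf (commutator G)) := by
    intro hd
    apply hNd
    refine hd.trans ?_
    have : Nat.card (N.subgroupOf (commutator G)) =
        Nat.card (N ⊓ commutator G : Subgroup G) := by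
      rw [← Subgroup.subgroupOf_map_subtype, Subgroup.card_map_of_injective (commutator G).subtype_injective]
    rw [this]
    exact Subgroup.card_dvd_of_le inf_le_left
  haveI hN'n : (N.subgroupOf (commutator G)).Normal := inferInstance
  refine ⟨ha, ?_, ?_, ?_, ?_, ?_⟩
  · intro h
    rw [H2.hasNormalPComplement_iff]
    refine ⟨N, hNn, hNd, N.index.primeFactorsList.length,
      Nat.eq_prime_pow_of_unique_prime_dvd N.index_ne_zero_of_finite ?_⟩
    intro q hq hqd
    have hqp := ha q hq hqd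
    have hqG : q ∣ Nat.card G := hqd.trans N.index_dvd_card
    rcases h with rfl | h
    · have hq2 : q ≠ 2 := by
        rintro rfl
        exact (Nat.not_even_iff_odd.2 hodd) (even_iff_two_dvd.2 hqG)
      have := hq.two_le
      omega
    · exact le_antisymm hqp (h q hq hqG)
  · rw [H2.hasNormalPComplement_iff]
    exact ⟨_, hN'n, hN'c, hN'p⟩
  · intro L hL
    obtain ⟨k, hk⟩ := hN'p
    have h4 : L ≤ N.subgroupOf (commutator G) := by
      intro x hx
      rw [H2.mem_normal_complement_iff hN'c hk]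
      have h1 : orderOf x ∣ Nat.card L := by
        have := orderOf_dvd_natCard (⟨x, hx⟩ : L)
        rwa [Subgroup.orderOf_mk] at this
      exact Nat.Coprime.coprime_dvd_left h1 hL
    exact h4.trans (H1.le_pPrimeCore hN'n ((Nat.Prime.coprime_iff_not_dvd hp.out).2 hN'c).symm)
  · rw [pPrimePCore, ← Subgroup.map_le_iff_le_comap]
    show (commutator G).map (QuotientGroup.mk' N) ≤ _
    rw [hmapc]
    exact h1
  · rw [pPrimePCore, Subgroup.index_comap_of_surjective _ (QuotientGroup.mk'_surjective _)]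
    exact h2

theorem structure_narrow (hs : Group.IsSolvable G) (hodd : Odd (Nat.card G)) (hp2 : p ≠ 2) (S : Sylow p G)
    (hr : ¬ PRankLE p 2 (S : Subgroup G)) {E : Subgroup G} (hE : MaxEA2 p (S : Subgroup G) E)
    (hpl : PLengthLE p 1 G) :
    (∀ q : ℕ, q.Prime → q ∣ (pPrimeCore p G).index → q ≤ p) ∧
      ((p = 3 ∨ ∀ q : ℕ, q.Prime → q ∣ Nat.card G → p ≤ q) → HasNormalPComplement p G) ∧
      HasNormalPComplement p ↥(commutator G) ∧
      (∀ L : Subgroup ↥(commutator G), (Nat.card L).Coprime p → L ≤ pPrimeCore p ↥(commutator G)) ∧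
      commutator G ≤ pPrimePCore p G ∧ ((pPrimePCore p G).index).Coprime p := by
  apply structure_of_core hodd
  haveI hNn : (pPrimeCore p G).Normal := H1.pPrimeCore_normal p G
  have hNc : (Nat.card (pPrimeCore p G)).Coprime p := H1.pPrimeCore_coprime p G
  have hodd' : Odd (Nat.card (G ⧸ pPrimeCore p G)) := hodd.of_dvd_nat (Subgroup.card_quotient_dvd_card _)
  rw [OOT.plength_one_iff] at hpl
  rw [pPrimePCore, Subgroup.index_comap_of_surjective _ (QuotientGroup.mk'_surjective _)] at hpl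
  set f := QuotientGroup.mk' (pPrimeCore p G) with hf
  have hinj : ∀ x ∈ (S : Subgroup G), f x = 1 → x = 1 := by
    intro x hx h
    have h1 : x ∈ pPrimeCore p G := (QuotientGroup.eq_one_iff _).mp h
    have h2 : x ∈ (S : Subgroup G) ⊓ pPrimeCore p G := ⟨hx, h1⟩
    rw [Subgroup.inf_eq_bot_of_coprime, mem_bot] at h2
    · exact h2
    · obtain ⟨n, hn⟩ := IsPGroup.iff_card.1 S.isPGroup'
      rw [hn]
      exact Nat.Coprime.pow_left n hNc.symm
  -- the image of `S` is `O_p`
  have hSe : (S : Subgroup G).map f = pCore p (G ⧸ pPrimeCore p G) := by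
    have hT : ((S : Subgroup G).map f) = ((S.mapSurjective (QuotientGroup.mk'_surjective (pPrimeCore p G))) : Subgroup (G ⧸ pPrimeCore p G)) := rfl
    have h1 : pCore p (G ⧸ pPrimeCore p G) ≤ (S : Subgroup G).map f := by
      rw [hT]
      exact H1.pCore_le_sylow _
    have h2 : ((pCore p (G ⧸ pPrimeCore p G)).relIndex ((S : Subgroup G).map f)).Coprime p :=
      Nat.Coprime.coprime_dvd_left (Subgroup.relIndex_dvd_index_of_normal _ _) hpl
    have h3 : IsPGroup p ((S : Subgroup G).map f) := S.isPGroup'.map f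
    obtain ⟨n, hn⟩ := IsPGroup.iff_card.1 h3
    have h4 : (pCore p (G ⧸ pPrimeCore p G)).relIndex ((S : Subgroup G).map f) ∣ p ^ n := hn ▸ Subgroup.relIndex_dvd_card _ _
    have h5 := Nat.eq_one_of_dvd_coprimes (Nat.Coprime.pow_right n h2) dvd_rfl h4
    exact le_antisymm (Subgroup.relIndex_eq_one.mp h5) h1
  have hE' := hE.mapf f hinj
  rw [hSe] at hE'
  have hr' : ¬ PRankLE p 2 (pCore p (G ⧸ pPrimeCore p G)) := by
    intro h
    apply hr
    rw [← hSe] at h
    refine H10.pRankLE_of_injective (f := (f.subgroupMap (S : Subgroup G))) ?_ h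
    intro x y hxy
    have h1 : f x = f y := congrArg Subtype.val hxy
    have h2 := hinj (x * (y : G)⁻¹) (mul_mem x.2 (inv_mem y.2)) (by rw [map_mul, map_inv, h1, mul_inv_cancel])
    exact Subtype.ext (mul_inv_eq_one.mp h2)
  exact narrow_core (by haveI := hs; infer_instance) hodd' hp2 hr' hE' (H1.pPrimeCore_quotient_eq_bot p)

end

end Cfsg.Agent.H22
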