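import Mathlib

set_option autoImplicit false
set_option linter.all false

/-!
# Natural modules of GL and SL2; trace of elements with fixed vectors (seat helper22)
-/

namespace Cfsg.Agent.H22

open scoped Matrix MatrixGroups

/-- the linear action of `GL` on column vectors -/
def glHom (n : ℕ) (F : Type*) [Field F] : GL (Fin n) F →* AddMonoid.End (Fin n → F) where
  toFun g := ((g : Matrix (Fin n) (Fin n) F).mulVecLin).toAddMonoidHom
  map_one' := by
    ext v i
    show ((1 : Matrix (Fin n) (Fin n) F) *ᵥ v) i = v i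
    rw [Matrix.one_mulVec]
  map_mul' g h := by
    ext v i
    show (((g : Matrix (Fin n) (Fin n) F) * (h : Matrix (Fin n) (Fin n) F)) *ᵥ v) i =
      ((g : Matrix (Fin n) (Fin n) F) *ᵥ ((h : Matrix (Fin n) (Fin n) F) *ᵥ v)) i
    rw [Matrix.mulVec_mulVec]

theorem glHom_apply {F : Type*} [Field F] (n : ℕ) (g : GL (Fin n) F) (v : Fin n → F) :
    glHom n F g v = (g : Matrix (Fin n) (Fin n) F) *ᵥ v := rfl

/-- the natural action of `SL` on column vectors -/
def slHom (n : ℕ) (F : Type*) [Field F] : Matrix.SpecialLinearGroup (Fin n) F →* AddMonoid.End (Fin n → F) where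
  toFun g := ((g : Matrix (Fin n) (Fin n) F).mulVecLin).toAddMonoidHom
  map_one' := by
    ext v i
    show ((1 : Matrix (Fin n) (Fin n) F) *ᵥ v) i = v i
    rw [Matrix.one_mulVec]
  map_mul' g h := by
    ext v i
    show (((g : Matrix (Fin n) (Fin n) F) * (h : Matrix (Fin n) (Fin n) F)) *ᵥ v) i =
      ((g : Matrix (Fin n) (Fin n) F) *ᵥ ((h : Matrix (Fin n) (Fin n) F) *ᵥ v)) i
    rw [Matrix.mulVec_mulVec]

theorem slHom_apply {F : Type*} [Field F] (n : ℕ) (g : Matrix.SpecialLinearGroup (Fin n) F) (v : Fin n → F) :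
    slHom n F g v = (g : Matrix (Fin n) (Fin n) F) *ᵥ v := rfl

/-- an element of SL2 fixing a nonzero vector has trace 2 -/
theorem sl2_fixed_trace {F : Type*} [Field F] (g : Matrix.SpecialLinearGroup (Fin 2) F) (v : Fin 2 → F) (hv : v ≠ 0)
    (h : (g : Matrix (Fin 2) (Fin 2) F) *ᵥ v = v) : (g : Matrix (Fin 2) (Fin 2) F).trace = 2 := by
  have hz : ((g : Matrix (Fin 2) (Fin 2) F) - 1) *ᵥ v = 0 := by
    rw [Matrix.sub_mulVec, h, Matrix.one_mulVec, sub_self]
  have hd := Matrix.exists_mulVec_eq_zero_iff.1 ⟨v, hv, hz⟩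
  have hg := g.2
  rw [Matrix.det_fin_two] at hd hg
  simp at hd
  rw [Matrix.trace_fin_two]
  linear_combination hg - hd

/-- Cayley-Hamilton in SL2 -/
theorem sl2_sq_eq {F : Type*} [Field F] (g : Matrix.SpecialLinearGroup (Fin 2) F) :
    (g : Matrix (Fin 2) (Fin 2) F) * (g : Matrix (Fin 2) (Fin 2) F) =
      (g : Matrix (Fin 2) (Fin 2) F).trace • (g : Matrix (Fin 2) (Fin 2) F) - 1 := by
  have hg := g.2
  rw [Matrix.det_fin_two] at hg
  ext i j
  rw [Matrix.trace_fin_two]
  fin_cases i <;> fin_cases j <;> simp [Matrix.mul_apply, Fin.sum_univ_two]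
  · linear_combination -hg
  · ring
  · ring
  · linear_combination -hg

/-- `ff t k` with `g ^ (k+1) = ff t (k+1) g - ff t k` : Chebyshev-like sequence -/
def ff {F : Type*} [Field F] (t : F) : ℕ → F
  | 0 => 0
  | 1 => 1
  | (k + 2) => t * ff t (k + 1) - ff t k

theorem sl2_pow_eq {F : Type*} [Field F] (g : Matrix.SpecialLinearGroup (Fin 2) F) (k : ℕ) :
    (g : Matrix (Fin 2) (Fin 2) F) ^ (k + 1) =
      ff (g : Matrix (Fin 2) (Fin 2) F).trace (k + 1) • (g : Matrix (Fin 2) (Fin 2) F)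
        - ff (g : Matrix (Fin 2) (Fin 2) F).trace k • (1 : Matrix (Fin 2) (Fin 2) F) := by
  induction k with
  | zero => simp [ff]
  | succ k ih =>
    rw [pow_succ, ih, sub_mul, smul_mul_assoc, sl2_sq_eq, smul_mul_assoc, one_mul]
    show _ = (_ * ff _ (k + 1) - ff _ k) • _ - _
    rw [smul_sub, sub_smul, smul_smul, mul_comm]
    abel

/-- in characteristic 2 the centre of SL2 is trivial -/
theorem sl2_center_eq_bot {F : Type*} [Field F] [CharP F 2] :
    Subgroup.center (Matrix.SpecialLinearGroup (Fin 2) F) = ⊥ := by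
  rw [eq_bot_iff]
  intro A hA
  obtain ⟨r, hr, hA'⟩ := Matrix.SpecialLinearGroup.mem_center_iff.1 hA
  rw [Fintype.card_fin] at hr
  have h2 : (2 : F) = 0 := CharTwo.two_eq_zero
  have h3 : (r - 1) ^ 2 = 0 := by linear_combination hr + (1 - r) * h2
  have h4 : r = 1 := by
    have := pow_eq_zero_iff (two_ne_zero) |>.1 h3
    linear_combination this
  rw [Subgroup.mem_bot]
  apply Subtype.ext
  rw [← hA', h4]
  simp

/-- `g` is central in SL2 iff it is `±1` -/
theorem sl2_mem_center_iff {F : Type*} [Field F] (g : Matrix.SpecialLinearGroup (Fin 2) F) :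
    g ∈ Subgroup.center (Matrix.SpecialLinearGroup (Fin 2) F) ↔
      (g : Matrix (Fin 2) (Fin 2) F) = 1 ∨ (g : Matrix (Fin 2) (Fin 2) F) = -1 := by
  rw [Matrix.SpecialLinearGroup.mem_center_iff, Fintype.card_fin]
  constructor
  · rintro ⟨r, hr, hg⟩
    have h1 : (r - 1) * (r + 1) = 0 := by linear_combination hr
    rcases mul_eq_zero.1 h1 with h | h
    · left; rw [← hg, sub_eq_zero.1 h]; simp
    · right
      rw [← hg, eq_neg_of_add_eq_zero_left h]
      ext i j
      fin_cases i <;> fin_cases j <;> simp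
  · rintro (h | h)
    · exact ⟨1, by ring, by rw [h]; simp⟩
    · refine ⟨-1, by ring, ?_⟩
      rw [h]
      ext i j
      fin_cases i <;> fin_cases j <;> simp

end Cfsg.Agent.H22
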