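import Cfsg.Agent.H22.ChevPar

set_option autoImplicit false
set_option linter.unusedSectionVars false
set_option maxHeartbeats 400000

/-!
# Levi decomposition: `U_J ∩ L_J = 1` by grading (seat helper22)
-/

namespace Cfsg.Agent.H22

open Cfsg.Agent.H6 Cfsg.Lie
open scoped Matrix

section
variable {D : ChevalleyDatum} {N : ℕ} {η : ℕ → ℕ → ℤ} {rc : ℕ → ℕ → ℤ} {F : Type*} [Field F]

open Classical in
/-- the height of a root outside `J` -/
noncomputable def grr (D : ChevalleyDatum) (rc : ℕ → ℕ → ℤ) (J : Set ℕ) (r : ℕ) : ℤ :=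
  ∑ i ∈ Finset.range D.rank, if i ∈ J then 0 else rc r i

/-- grading of the basis -/
noncomputable def gra (D : ChevalleyDatum) (rc : ℕ → ℕ → ℤ) (J : Set ℕ) : D.Idx → ℤ
  | Sum.inl _ => 0
  | Sum.inr s => grr D rc J s

theorem grr_lin {J : Set ℕ} {c r s : ℕ} {k : ℤ} (h : ∀ i < D.rank, rc c i = rc s i + k * rc r i) :
    grr D rc J c = grr D rc J s + k * grr D rc J r := by
  classical
  unfold grr
  rw [Finset.mul_sum, ← Finset.sum_add_distrib]
  apply Finset.sum_congr rfl
  intro i hi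
  rw [Finset.mem_range] at hi
  split_ifs
  · ring
  · exact h i hi

variable (hG : Good D N η rc) (hE : Ext D rc)
include hG

theorem grr_neg {J : Set ℕ} {r : ℕ} (hr : r < D.nroots) : grr D rc J (D.neg r) = - grr D rc J r := by
  classical
  unfold grr
  rw [← Finset.sum_neg_distrib]
  apply Finset.sum_congr rfl
  intro i hi
  rw [Finset.mem_range] at hi
  rw [hG.rc_neg i hi r hr]
  split_ifs
  · rfl
  · rfl

theorem grr_phi {J : Set ℕ} {r : ℕ} (hr : r ∈ Phi D rc J) : grr D rc J r = 0 := by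
  classical
  unfold grr
  apply Finset.sum_eq_zero
  intro i hi
  rw [Finset.mem_range] at hi
  split_ifs with h
  · rfl
  · exact hr.2 i hi h

theorem grr_rad {J : Set ℕ} {r : ℕ} (hr : r ∈ posS D N \ Phi D rc J) : 0 < grr D rc J r := by
  classical
  obtain ⟨i, hi, hiJ, hpos⟩ := exists_coef hG hr
  unfold grr
  apply Finset.sum_pos'
  · intro j hj
    rw [Finset.mem_range] at hj
    split_ifs
    · exact le_refl _
    · exact hG.rc_pos r hr.1.2 hr.1.1 j hj
  · refine ⟨i, Finset.mem_range.2 hi, ?_⟩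
    rw [if_neg hiJ]; exact hpos

theorem x_graded {J : Set ℕ} {r : ℕ} (hr : r < D.nroots) (t : F) :
    ∀ b : D.Idx, ∃ w : D.Idx → F, D.x F r t *ᵥ Pi.single b 1 = Pi.single b 1 + w ∧
      ∀ a, w a ≠ 0 → ∃ k : ℤ, 1 ≤ k ∧ gra D rc J a = gra D rc J b + k * grr D rc J r := by
  rintro (i | s)
  · have h1 := x_bh (F := F) hr i.2 t
    rw [bh_of_lt i.2] at h1
    refine ⟨_, h1, ?_⟩
    intro a ha
    rw [Pi.smul_apply] at ha
    obtain ⟨s, rfl, hs⟩ := coe_be r a (right_ne_zero_of_smul ha)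
    refine ⟨1, le_refl _, ?_⟩
    change grr D rc J s = 0 + 1 * grr D rc J r
    rw [hs]; ring
  · by_cases h1 : (s : ℕ) = r
    · refine ⟨0, ?_, fun a ha => absurd rfl ha⟩
      have := x_be_self (F := F) hr t
      rw [be_of_lt hr] at this
      have e : s = ⟨r, hr⟩ := Fin.ext h1
      rw [e, this, add_zero]
    · by_cases h2 : (s : ℕ) = D.neg r
      · have h3 := x_be_neg (F := F) hr (hG.neg_lt' hr) (hG.toSem.neg_ne hr) t
        rw [be_of_lt (hG.neg_lt' hr), add_assoc] at h3
        have e : s = ⟨D.neg r, hG.neg_lt' hr⟩ := Fin.ext h2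
        rw [e]
        refine ⟨_, h3, ?_⟩
        intro a ha
        rcases a with a | a
        · refine ⟨1, le_refl _, ?_⟩
          change (0 : ℤ) = grr D rc J (D.neg r) + 1 * grr D rc J r
          rw [grr_neg hG hr]; ring
        · rw [Pi.add_apply, Pi.smul_apply, hvec_inr, smul_zero, zero_add, Pi.smul_apply] at ha
          obtain ⟨s', e', hs'⟩ := coe_be r _ (right_ne_zero_of_smul ha)
          refine ⟨2, by norm_num, ?_⟩
          rw [e']
          change grr D rc J s' = grr D rc J (D.neg r) + 2 * grr D rc J r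
          rw [hs', grr_neg hG hr]; ring
      · have h3 := x_be (F := F) hr s.2 (hG.keys r) h1 h2 t
        rw [be_of_lt s.2] at h3
        refine ⟨_, h3, ?_⟩
        intro a ha
        obtain ⟨u, rfl, e, he, hu⟩ := chainVec_ne _ _ a ha
        obtain ⟨k, hk, rfl⟩ := List.getElem_of_mem he
        have h5 := (Good.addC_get hG 1 (hG.add_rc r hr s s.2) k hk).2.2
        rw [hu] at h5
        refine ⟨((1 + k : ℕ) : ℤ), by push_cast; omega, ?_⟩
        exact grr_lin h5

theorem x_col (r : ℕ) (t : F) (a b : D.Idx) : D.x F r t a b = (D.x F r t *ᵥ Pi.single b 1) a := by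
  rw [Matrix.mulVec_single_one]; rfl

/-- elements of `Φ_J` root subgroups preserve the grading -/
theorem x_levi {J : Set ℕ} {r : ℕ} (hr : r ∈ Phi D rc J) (t : F) {a b : D.Idx} (h : D.x F r t a b ≠ 0) :
    gra D rc J a = gra D rc J b := by
  obtain ⟨w, h1, h2⟩ := x_graded hG (J := J) hr.1 t b
  rw [x_col hG, h1, Pi.add_apply] at h
  by_cases hab : a = b
  · rw [hab]
  · rw [Pi.single_eq_of_ne hab, zero_add] at h
    obtain ⟨k, _, hk⟩ := h2 a h
    rw [hk, grr_phi hG hr]; ring

theorem x_rad {J : Set ℕ} {r : ℕ} (hr : r ∈ posS D N \ Phi D rc J) (t : F) :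
    Uni (fun a b => gra D rc J b < gra D rc J a) (D.x F r t) := by
  have hpos := grr_rad hG hr
  have hw : ∀ b : D.Idx, ∃ w : D.Idx → F, D.x F r t *ᵥ Pi.single b 1 = Pi.single b 1 + w ∧
      ∀ a, w a ≠ 0 → gra D rc J b < gra D rc J a := by
    intro b
    obtain ⟨w, h1, h2⟩ := x_graded hG (J := J) hr.1.2 t b
    refine ⟨w, h1, fun a ha => ?_⟩
    obtain ⟨k, hk, h3⟩ := h2 a ha
    rw [h3]
    nlinarith
  constructor
  · intro a b hab hne
    obtain ⟨w, h1, h2⟩ := hw b
    rw [x_col hG, h1, Pi.add_apply, Pi.single_eq_of_ne hab, zero_add] at hne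
    exact h2 a hne
  · intro a
    obtain ⟨w, h1, h2⟩ := hw a
    rw [x_col hG, h1, Pi.add_apply, Pi.single_eq_same]
    have : w a = 0 := by
      by_contra h
      exact absurd (h2 a h) (lt_irrefl _)
    rw [this, add_zero]

theorem rad_uni {J : Set ℕ} {g : GL D.Idx F} (hg : g ∈ US (xg D F) (posS D N \ Phi D rc J)) :
    Uni (fun a b => gra D rc J b < gra D rc J a) (g : Matrix D.Idx D.Idx F) := by
  have h : US (xg D F) (posS D N \ Phi D rc J) ≤ UniS (fun a b => gra D rc J b < gra D rc J a)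
      (fun a b c h1 h2 => lt_trans h2 h1) (fun a b h1 h2 => absurd h1 (lt_asymm h2)) := by
    rw [US_le]
    intro r hr t
    refine ⟨?_, ?_⟩
    · rw [hG.coe_xg]; exact x_rad hG hr t
    · rw [← hG.xg_neg, hG.coe_xg]; exact x_rad hG hr _
  exact (h hg).1

/-- the subgroup of graded matrices -/
noncomputable def GrS (D : ChevalleyDatum) (rc : ℕ → ℕ → ℤ) (J : Set ℕ) (F : Type*) [Field F] : Subgroup (GL D.Idx F) where
  carrier := {g | (∀ a b, (g : Matrix D.Idx D.Idx F) a b ≠ 0 → gra D rc J a = gra D rc J b) ∧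
    ∀ a b, ((g⁻¹ : GL D.Idx F) : Matrix D.Idx D.Idx F) a b ≠ 0 → gra D rc J a = gra D rc J b}
  mul_mem' := by
    rintro g h ⟨h1, h2⟩ ⟨h3, h4⟩
    refine ⟨fun a b hab => ?_, fun a b hab => ?_⟩
    · rw [Units.val_mul, Matrix.mul_apply] at hab
      obtain ⟨c, -, hc⟩ := Finset.exists_ne_zero_of_sum_ne_zero hab
      exact (h1 a c (left_ne_zero_of_mul hc)).trans (h3 c b (right_ne_zero_of_mul hc))
    · rw [mul_inv_rev, Units.val_mul, Matrix.mul_apply] at hab
      obtain ⟨c, -, hc⟩ := Finset.exists_ne_zero_of_sum_ne_zero hab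
      exact (h4 a c (left_ne_zero_of_mul hc)).trans (h2 c b (right_ne_zero_of_mul hc))
  one_mem' := by
    have : ∀ a b : D.Idx, (1 : Matrix D.Idx D.Idx F) a b ≠ 0 → gra D rc J a = gra D rc J b := by
      intro a b hab
      by_cases h : a = b
      · rw [h]
      · exact absurd (Matrix.one_apply_ne h) hab
    refine ⟨fun a b hab => this a b hab, fun a b hab => this a b ?_⟩
    rwa [inv_one] at hab
  inv_mem' := by
    rintro g ⟨h1, h2⟩
    exact ⟨h2, by rw [inv_inv]; exact h1⟩

theorem levi_le (hE : Ext D rc) (J : Set ℕ) : D.leviSubgroup F J ≤ GrS D rc J F := by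
  rw [levi_eq hG hE]
  refine sup_le ?_ ?_
  · intro g hg
    have key : ∀ g ∈ D.diagonalSubgroup F, ∀ a b, (g : Matrix D.Idx D.Idx F) a b ≠ 0 → gra D rc J a = gra D rc J b := by
      intro g hg a b hab
      by_cases h : a = b
      · rw [h]
      · exact absurd (hG.diag_apply hg h) hab
    exact ⟨key g hg, key _ (inv_mem hg)⟩
  · rw [US_le]
    intro r hr t
    refine ⟨fun a b hab => ?_, fun a b hab => ?_⟩
    · rw [hG.coe_xg] at hab
      exact x_levi hG hr t hab
    · rw [← hG.xg_neg, hG.coe_xg] at hab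
      exact x_levi hG hr _ hab

theorem rad_inf_levi (hE : Ext D rc) (J : Set ℕ) : D.unipotentRadical F J ⊓ D.leviSubgroup F J = ⊥ := by
  rw [eq_bot_iff]
  rintro g ⟨h1, h2⟩
  rw [SetLike.mem_coe, radical_eq hG hE] at h1
  have h3 := rad_uni hG h1
  have h4 := (levi_le hG hE J h2).1
  rw [Subgroup.mem_bot]
  apply Units.ext
  ext a b
  rw [Units.val_one]
  by_cases hab : a = b
  · subst hab
    rw [h3.2, Matrix.one_apply_eq]
  · rw [Matrix.one_apply_ne hab]
    by_contra hne
    have h5 : gra D rc J b < gra D rc J a := h3.1 a b hab hne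
    have h6 := h4 a b hne
    rw [h6] at h5
    exact lt_irrefl _ h5

end

end Cfsg.Agent.H22
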