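import Cfsg.Agent.H22.OddPG14

set_option autoImplicit false
set_option linter.all false

/-! Bender-Glauberman 5.8: `G' ≤ F(G)` when the rank of `F(G) ∩ C(E)` is at most two. -/

namespace Cfsg.Agent.H22

open Subgroup commutatorElement
open Cfsg.Agent.L (cj nz SylIn)

section
universe u
variable {G : Type u} [Group G] [Finite G]

/-- `G' ≤ F(G)` from the action on the `O_p(G)` -/
theorem derived_le_fitting_of (hs : Group.IsSolvable G)
    (key : ∀ {p q : ℕ} [hp : Fact p.Prime] [hq : Fact q.Prime] (h : q ≠ p)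
      {Q : Subgroup G} (hQ : IsPGroup q Q) (hQG : Q ≤ commutator G), pCore p G ≤ centralizer (Q : Set G)) :
    commutator G ≤ fittingSubgroup G := by
  apply OOT.le_of_sylIn_le
  intro q hq hqd
  haveI : Fact q.Prime := ⟨hq⟩
  obtain ⟨Q, hQ⟩ := L.exists_sylIn (p := q) (commutator G)
  refine ⟨Q, hQ, ?_⟩
  let K : Subgroup G := commutator G ⊓
    ⨅ r : {r : Nat.Primes // (r : ℕ) ≠ q}, centralizer ((pCore (r : ℕ) G : Subgroup G) : Set G)
  have hKn : K.Normal := by
    haveI : (⨅ r : {r : Nat.Primes // (r : ℕ) ≠ q},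
        centralizer ((pCore (r : ℕ) G : Subgroup G) : Set G)).Normal :=
      Subgroup.normal_iInf_normal (fun r => inferInstance)
    exact inferInstance
  have hKr : ∀ r : ℕ, r.Prime → r ≠ q → K ≤ centralizer ((pCore r G : Subgroup G) : Set G) :=
    fun r hr hrq => inf_le_right.trans (iInf_le (fun r : {r : Nat.Primes // (r : ℕ) ≠ q} =>
      centralizer ((pCore (r : ℕ) G : Subgroup G) : Set G)) ⟨⟨r, hr⟩, hrq⟩)
  have hQK : Q ≤ K := by
    refine le_inf hQ.le (le_iInf ?_)
    rintro ⟨⟨r, hr'⟩, hrq⟩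
    haveI : Fact r.Prime := ⟨hr'⟩
    exact (Subgroup.le_centralizer_iff).1
      (key (Ne.symm hrq) hQ.isPGroup hQ.le)
  let H : Subgroup G := K ⊓ pPrimeCore q G ⊓ fittingSubgroup G
  have hHK : H ≤ K := inf_le_left.trans inf_le_left
  have hRH : ∀ r : ℕ, ∀ _ : Fact r.Prime, r ≠ q → ∀ R : Subgroup G, IsPGroup r R → R ≤ K →
      R ≤ H := by
    intro r hr' hrq R hR hRK
    have h1 : fittingSubgroup G ≤ centralizer (R : Set G) := by
      rw [H1.fitting_eq_iSup_pCore]
      refine iSup_le fun s => ?_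
      haveI : Fact (s : ℕ).Prime := ⟨s.2⟩
      by_cases hsr : (s : ℕ) = q
      · exact key (by rw [hsr]; exact hrq) hR
          (hRK.trans inf_le_left)
      · exact (Subgroup.le_centralizer_iff).1 (hRK.trans (hKr s s.2 hsr))
    have h2 : R ≤ fittingSubgroup G :=
      ((Subgroup.le_centralizer_iff).1 h1).trans (H1.centralizer_fitting_le hs)
    exact le_inf (le_inf hRK ((OOT.le_pCore_of_le_fitting hR h2).trans
      (H1.pCore_le_pPrimeCore_of_ne hrq.symm))) h2
  have hHq : (Nat.card H).Coprime q :=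
    Nat.Coprime.coprime_dvd_left (Subgroup.card_dvd_of_le (inf_le_left.trans inf_le_right))
      (H1.pPrimeCore_coprime q G)
  have hHc : H ≤ centralizer (K : Set G) := by
    apply OOT.le_of_sylIn_le
    intro r hr' hrd
    haveI : Fact r.Prime := ⟨hr'⟩
    have hrq : r ≠ q := by
      rintro rfl
      exact (Nat.Prime.coprime_iff_not_dvd hr').1 hHq.symm hrd
    obtain ⟨R, hR⟩ := L.exists_sylIn (p := r) H
    exact ⟨R, hR, (OOT.le_pCore_of_le_fitting hR.isPGroup (hR.le.trans inf_le_right)).trans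
      ((Subgroup.le_centralizer_iff).1 (hKr r hr' hrq))⟩
  have hHn : H.Normal := by
    haveI := hKn
    haveI := H1.pPrimeCore_normal q G
    haveI := H1.fitting_normal G
    exact inferInstance
  have hKnil : Group.IsNilpotent K := by
    have hidx : IsPGroup q (K ⧸ H.subgroupOf K) := by
      have h0 : (H.subgroupOf K).index ≠ 0 := Subgroup.index_ne_zero_of_finite
      refine IsPGroup.of_card (n := (H.subgroupOf K).index.primeFactorsList.length)
        (Nat.eq_prime_pow_of_unique_prime_dvd h0 ?_)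
      intro r hr' hrd
      by_contra hrq
      haveI : Fact r.Prime := ⟨hr'⟩
      obtain ⟨R, hR⟩ := L.exists_sylIn (p := r) K
      have h1 := hRH r ‹_› hrq R hR.isPGroup hR.le
      apply hR.not_dvd
      refine hrd.trans ?_
      exact Subgroup.relIndex_dvd_of_le_left K h1
    haveI : Group.IsNilpotent (K ⧸ H.subgroupOf K) := hidx.isNilpotent
    refine Subgroup.isNilpotent_of_ker_le_center (QuotientGroup.mk' (H.subgroupOf K)) ?_
    rw [QuotientGroup.ker_mk']
    intro x hx
    rw [Subgroup.mem_center_iff]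
    intro y
    exact Subtype.ext (Subgroup.mem_centralizer_iff.1 (hHc (Subgroup.mem_subgroupOf.1 hx)) y y.2)
  exact hQK.trans (H1.le_fitting hKn hKnil)

theorem derived_le_fitting_of_rank (hs : Group.IsSolvable G) (hodd : Odd (Nat.card G)) {p : ℕ} [hpf : Fact p.Prime]
    {E : Subgroup G} (hE : E ≤ fittingSubgroup G) (hEe : IsElementaryAbelian p E)
    (hr : RankLE 2 ↥(fittingSubgroup G ⊓ centralizer (E : Set G))) : commutator G ≤ fittingSubgroup G := by
  apply derived_le_fitting_of hs
  intro r q hrp hq hqr Q hQ hQG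
  by_cases hr2 : r = 2
  · subst hr2
    rw [OOT.pCore_two_eq_bot hodd]
    exact bot_le
  have hEc : E ≤ pCore p G := OOT.le_pCore_of_le_fitting (OOT.isEA_isPGroup hEe) hE
  refine derived_cent (A := ⊤) hr2 (H1.pCore_isPGroup r G) ?_ ?_ (by haveI := hs; infer_instance)
    (by rw [Subgroup.card_top]; exact hodd) (H1.isPGroup_card_coprime_of_ne hqr.symm hQ) hQG
  · intro hrk
    by_cases hrp' : r = p
    · subst hrp'
      refine exists_maxEA2 (X := E) (H1.pCore_isPGroup r G) hrk hEc hEe ?_
      exact H10.pRankLE_mono (inf_le_inf_right _ (H1.pCore_le_fitting r)) (hr r hrp.out)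
    · exfalso
      apply hrk
      refine H10.pRankLE_mono (le_inf (H1.pCore_le_fitting r) ?_) (hr r hrp.out)
      exact (OOT.pCore_commute hrp').trans (Subgroup.centralizer_le hEc)
  · rw [Subgroup.normalizer_eq_top]

end

end Cfsg.Agent.H22
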