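import Mathlib

set_option autoImplicit false
set_option linter.unusedSectionVars false
set_option linter.unusedSimpArgs false

/-! Three-cycles and automorphisms of alternating groups. -/

namespace Cfsg.Agent.H22.AutAlt

open Equiv Equiv.Perm

variable {α : Type*} [Fintype α] [DecidableEq α]

/-- the three-cycle `a → b → c → a` -/
def cyc (a b c : α) : Perm α := swap a b * swap b c

theorem cyc_three {a b c : α} (hab : a ≠ b) (hac : a ≠ c) (hbc : b ≠ c) : (cyc a b c).IsThreeCycle := by
  unfold cyc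
  rw [swap_comm a b]
  exact isThreeCycle_swap_mul_swap_same hab.symm hbc hac

theorem cyc_fst {a b c : α} (hab : a ≠ b) (hac : a ≠ c) : cyc a b c a = b := by
  rw [cyc, mul_apply, swap_apply_of_ne_of_ne hab hac, swap_apply_left]

theorem cyc_snd {a b c : α} (hac : a ≠ c) (hbc : b ≠ c) : cyc a b c b = c := by
  rw [cyc, mul_apply, swap_apply_left, swap_apply_of_ne_of_ne hac.symm hbc.symm]

theorem cyc_trd {a b c : α} : cyc a b c c = a := by
  rw [cyc, mul_apply, swap_apply_right, swap_apply_right]

theorem cyc_other {a b c x : α} (ha : x ≠ a) (hb : x ≠ b) (hc : x ≠ c) : cyc a b c x = x := by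
  rw [cyc, mul_apply, swap_apply_of_ne_of_ne hb hc, swap_apply_of_ne_of_ne ha hb]

theorem conj_cyc (f : Perm α) (a b c : α) : f * cyc a b c * f⁻¹ = cyc (f a) (f b) (f c) := by
  rw [cyc, cyc, swap_apply_apply, swap_apply_apply]; group

theorem three_apply {y : Perm α} (hy : y.IsThreeCycle) (x : α) : y (y (y x)) = x := by
  have h1 : y ^ 3 = 1 := by rw [← hy.orderOf]; exact pow_orderOf_eq_one y
  have h2 := congrArg (fun f : Perm α => f x) h1
  simpa [pow_succ] using h2

theorem three_ne {y : Perm α} (hy : y.IsThreeCycle) {a : α} (ha : y a ≠ a) : y (y a) ≠ y a ∧ y (y a) ≠ a := by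
  refine ⟨fun h => ha (y.injective h), fun h => ?_⟩
  have h1 := three_apply hy a
  rw [h] at h1
  exact ha h1

theorem three_support {y : Perm α} (hy : y.IsThreeCycle) {a z : α} (ha : y a ≠ a) (hz : y z ≠ z) :
    z = a ∨ z = y a ∨ z = y (y a) := by
  obtain ⟨h1, h2⟩ := three_ne hy ha
  have h3 : ({a, y a, y (y a)} : Finset α) ⊆ y.support := by
    intro x hx
    simp only [Finset.mem_insert, Finset.mem_singleton] at hx
    rw [mem_support]
    rcases hx with rfl | rfl | rfl
    · exact ha
    · exact h1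
    · intro h4
      exact h1 (y.injective h4)
  have h4 : ({a, y a, y (y a)} : Finset α).card = 3 := Finset.card_eq_three.2
    ⟨a, y a, y (y a), ha.symm, h2.symm, h1.symm, rfl⟩
  have h5 := Finset.eq_of_subset_of_card_le h3 (by rw [hy.card_support, h4])
  have h6 : z ∈ y.support := mem_support.2 hz
  rw [← h5] at h6
  simpa using h6

theorem ext_three {y y' : Perm α} (hy : y.IsThreeCycle) (hy' : y'.IsThreeCycle) {a : α} (ha : y a ≠ a)
    (h1 : y' a = y a) (h2 : y' (y a) = y (y a)) : y' = y := by
  have ha' : y' a ≠ a := by rw [h1]; exact ha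
  have h3 : y' (y (y a)) = a := by
    have := three_apply hy' a
    rwa [h1, h2] at this
  apply Equiv.ext
  intro x
  by_cases hx : y x = x
  · by_cases hx' : y' x = x
    · rw [hx, hx']
    · exfalso
      rcases three_support hy' ha' hx' with h | h | h
      · rw [h] at hx; exact ha hx
      · rw [h, h1] at hx; exact (three_ne hy ha).1 hx
      · rw [h, h1, h2] at hx
        rw [three_apply hy] at hx
        exact (three_ne hy ha).2 hx.symm
  · rcases three_support hy ha hx with h | h | h
    · rw [h, h1]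
    · rw [h, h2]
    · rw [h, h3, three_apply hy]

theorem eq_cyc {y : Perm α} (hy : y.IsThreeCycle) {a : α} (ha : y a ≠ a) : y = cyc a (y a) (y (y a)) := by
  obtain ⟨h1, h2⟩ := three_ne hy ha
  have h3 := cyc_three ha.symm h2.symm h1.symm
  have e1 := cyc_fst (a := a) (b := y a) (c := y (y a)) ha.symm h2.symm
  apply ext_three h3 hy (a := a)
  · rw [e1]; exact ha
  · exact e1.symm
  · rw [e1, cyc_snd h2.symm h1.symm]

theorem share {y y' : Perm α} (hy : y.IsThreeCycle) (hy' : y'.IsThreeCycle) (hne : y * y' ≠ 1)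
    (hsq : (y * y') ^ 2 = 1) : ∃ a, y a ≠ a ∧ y' a = y a := by
  have hs : ∀ x, y (y' (y (y' x))) = x := by
    intro x
    have h2 := congrArg (fun f : Perm α => f x) hsq
    simpa [pow_two] using h2
  have F1 : ∀ x, y x ≠ x → y' x = x → y' (y x) = y x → False := by
    intro x h1 h2 h3
    have h4 := hs x
    rw [h2, h3] at h4
    exact (three_ne hy h1).2 h4
  obtain ⟨a0, ha0⟩ : ∃ a, y a ≠ a := by
    by_contra hc
    push Not at hc
    exact hy.ne_one (Equiv.ext hc)
  obtain ⟨n1, n2⟩ := three_ne hy ha0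
  have h3 := three_apply hy a0
  have hedge : ∃ a, y a ≠ a ∧ y' a ≠ a ∧ y' (y a) ≠ y a := by
    by_cases h1 : y' a0 = a0
    · refine ⟨y a0, n1, fun h => F1 a0 ha0 h1 h, fun h => ?_⟩
      exact F1 (y (y a0)) (by rw [h3]; exact n2.symm) h (by rw [h3]; exact h1)
    · by_cases h2 : y' (y a0) = y a0
      · refine ⟨y (y a0), by rw [h3]; exact n2.symm, fun h => F1 (y a0) n1 h2 h, by rw [h3]; exact h1⟩
      · exact ⟨a0, ha0, h1, h2⟩
  obtain ⟨a, ha, ha', hb'⟩ := hedge
  obtain ⟨m1, m2⟩ := three_ne hy ha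
  rcases three_support hy' ha' hb' with h | h | h
  · exact absurd h ha
  · exact ⟨a, ha, h.symm⟩
  · -- y a = y' (y' a)
    have hb : y' (y a) = a := by rw [h, three_apply hy']
    by_cases hd : y (y' a) = y' a
    · exfalso
      have h4 := hs a
      rw [hd, ← h] at h4
      exact m2 h4
    · rcases three_support hy ha hd with h5 | h5 | h5
      · exact absurd h5 ha'
      · exact ⟨a, ha, h5⟩
      · exfalso
        apply hne
        have h6 : y' = y⁻¹ := by
          have e1 : y⁻¹ a = y (y a) := by rw [Perm.inv_eq_iff_eq, three_apply hy]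
          apply ext_three hy.inv hy' (a := a)
          · rw [e1]; exact m2
          · rw [e1]; exact h5
          · rw [e1, Perm.eq_inv_iff_eq, ← h5, ← h]; exact h5.symm
        rw [h6, mul_inv_cancel]

theorem two_share {y3 y4 y5 : Perm α} (h3 : y3.IsThreeCycle) (h4 : y4.IsThreeCycle) (h5 : y5.IsThreeCycle)
    {a : α} (ha : y3 a ≠ a) (ha4 : y4 a = y3 a) (hne : y4 ≠ y3)
    (hs3 : ∃ x, y3 x ≠ x ∧ y5 x = y3 x) (hs4 : ∃ x, y4 x ≠ x ∧ y5 x = y4 x) : y5 a = y3 a := by
  obtain ⟨m1, m2⟩ := three_ne h3 ha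
  have ha4' : y4 a ≠ a := by rw [ha4]; exact ha
  obtain ⟨k1, k2⟩ := three_ne h4 ha4'
  rw [ha4] at k1 k2
  have t3 := three_apply h3 a
  have t4 := three_apply h4 a
  rw [ha4] at t4
  have hcd : y4 (y3 a) ≠ y3 (y3 a) := fun h => hne (ext_three h3 h4 ha ha4 h)
  obtain ⟨x, hx, hx5⟩ := hs3
  obtain ⟨x', hx', hx5'⟩ := hs4
  have c3 := three_support h3 ha hx
  have c4 := three_support h4 ha4' hx'
  rw [ha4] at c4
  rcases c3 with rfl | rfl | rfl
  · exact hx5
  · rcases c4 with rfl | rfl | rfl
    · rw [hx5', ha4]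
    · exfalso
      rw [hx5] at hx5'
      exact hcd hx5'.symm
    · exfalso
      rw [t4] at hx5'
      -- y5 b = c, y5 d = a
      have hb : y5 (y3 a) ≠ y3 a := by rw [hx5]; exact m1
      have hd : y5 (y4 (y3 a)) ≠ y4 (y3 a) := by rw [hx5']; exact k2.symm
      rcases three_support h5 hb hd with h | h | h
      · exact k1 h
      · rw [hx5] at h; exact hcd h
      · rw [h, three_apply h5] at hx5'
        exact ha hx5'
  · rcases c4 with rfl | rfl | rfl
    · rw [hx5', ha4]
    · rw [t3] at hx5
      have hc : y5 (y3 (y3 a)) ≠ y3 (y3 a) := by rw [hx5]; exact m2.symm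
      have hb : y5 (y3 a) ≠ y3 a := by rw [hx5']; exact k1
      rcases three_support h5 hc hb with h | h | h
      · exact absurd h.symm m1
      · rw [hx5] at h; exact absurd h ha
      · rw [hx5] at h; exact h.symm
    · exfalso
      rw [t3] at hx5
      rw [t4] at hx5'
      exact hcd (y5.injective (hx5'.trans hx5.symm))

theorem cyc_rot {a b c : α} (hab : a ≠ b) (hac : a ≠ c) (hbc : b ≠ c) : cyc a b c = cyc b c a := by
  apply ext_three (cyc_three hbc hab.symm hac.symm) (cyc_three hab hac hbc) (a := b)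
  · rw [cyc_fst hbc hab.symm]; exact hbc.symm
  · rw [cyc_fst hbc hab.symm, cyc_snd hac hbc]
  · rw [cyc_fst hbc hab.symm, cyc_trd, cyc_snd hab.symm hac.symm]

theorem cyc_inv {a b c : α} (hab : a ≠ b) (hac : a ≠ c) (hbc : b ≠ c) : (cyc a b c)⁻¹ = cyc a c b := by
  apply ext_three (cyc_three hac hab hbc.symm) (cyc_three hab hac hbc).inv (a := a)
  · rw [cyc_fst hac hab]; exact hac.symm
  · rw [cyc_fst hac hab, Perm.inv_eq_iff_eq, cyc_trd]
  · rw [cyc_fst hac hab, cyc_snd hab hbc.symm, Perm.inv_eq_iff_eq, cyc_snd hac hbc]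

/-- the three-cycles `(u v i)` generate -/
theorem gen {K : Subgroup (Perm α)} {u v : α} (huv : u ≠ v)
    (hK : ∀ i, i ≠ u → i ≠ v → cyc u v i ∈ K) {y : Perm α} (hy : y.IsThreeCycle) : y ∈ K := by
  have h2 : ∀ i j, i ≠ u → i ≠ v → j ≠ u → j ≠ v → i ≠ j → cyc v j i ∈ K := by
    intro i j hiu hiv hju hjv hij
    have := conj_cyc (cyc u v j) u v i
    rw [cyc_fst huv hju.symm, cyc_snd hju.symm hjv.symm, cyc_other hiu hiv hij] at this
    rw [← this]
    exact mul_mem (mul_mem (hK j hju hjv) (hK i hiu hiv)) (inv_mem (hK j hju hjv))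
  have h3 : ∀ i j, i ≠ u → i ≠ v → j ≠ u → j ≠ v → i ≠ j → cyc u i j ∈ K := by
    intro i j hiu hiv hju hjv hij
    have := conj_cyc (cyc u j v) u v i
    rw [cyc_fst hju.symm huv, cyc_trd, cyc_other hiu hij hiv] at this
    have h4 : cyc u j v ∈ K := by
      rw [← cyc_inv huv hju.symm hjv.symm]; exact inv_mem (hK j hju hjv)
    rw [cyc_rot hiu.symm hju.symm hij, cyc_rot hij hiu hju, ← this]
    exact mul_mem (mul_mem h4 (hK i hiu hiv)) (inv_mem h4)
  have h4 : ∀ i j k, i ≠ u → i ≠ v → j ≠ u → j ≠ v → k ≠ u → k ≠ v → i ≠ j → i ≠ k → j ≠ k → cyc i j k ∈ K := by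
    intro i j k hiu hiv hju hjv hku hkv hij hik hjk
    have := conj_cyc (cyc u i v) u j k
    rw [cyc_fst hiu.symm huv, cyc_other hju hij.symm hjv, cyc_other hku hik.symm hkv] at this
    have h4 : cyc u i v ∈ K := by
      rw [← cyc_inv huv hiu.symm hiv.symm]; exact inv_mem (hK i hiu hiv)
    rw [← this]
    exact mul_mem (mul_mem h4 (h3 j k hju hjv hku hkv hjk)) (inv_mem h4)
  by_cases hu : y u = u
  · have hnu : ∀ x, x ≠ u → y x ≠ u := by
      intro x hx h
      apply hx
      apply y.injective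
      rw [h, hu]
    by_cases hv : y v = v
    · have hnv : ∀ x, x ≠ v → y x ≠ v := by
        intro x hx h
        apply hx
        apply y.injective
        rw [h, hv]
      obtain ⟨a, ha⟩ : ∃ a, y a ≠ a := by
        by_contra hc
        push Not at hc
        exact hy.ne_one (Equiv.ext hc)
      obtain ⟨n1, n2⟩ := three_ne hy ha
      have hau : a ≠ u := fun h => ha (by rw [h, hu])
      have hav : a ≠ v := fun h => ha (by rw [h, hv])
      rw [eq_cyc hy ha]
      exact h4 _ _ _ hau hav (hnu a hau) (hnv a hav) (hnu _ (hnu a hau)) (hnv _ (hnv a hav)) ha.symm n2.symm n1.symm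
    · obtain ⟨n1, n2⟩ := three_ne hy hv
      rw [eq_cyc hy hv]
      exact h2 _ _ (hnu _ (hnu _ huv.symm)) n2 (hnu _ huv.symm) hv n1
  · obtain ⟨n1, n2⟩ := three_ne hy hu
    rw [eq_cyc hy hu]
    by_cases hb : y u = v
    · rw [hb]
      rw [hb] at n1 n2
      exact hK _ n2 n1
    · by_cases hc : y (y u) = v
      · rw [hc, ← cyc_inv huv (Ne.symm hu) (Ne.symm hb)]
        exact inv_mem (hK _ hu hb)
      · exact h3 _ _ hu hb n2 hc n1.symm

/-- an automorphism preserving three-cycles is conjugation by a permutation -/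
theorem conj_of_three {u v w t : α} (huv : u ≠ v) (huw : u ≠ w) (hut : u ≠ t) (hvw : v ≠ w) (hvt : v ≠ t)
    (hwt : w ≠ t) (f : alternatingGroup α →* Perm α) (hf : Function.Injective f)
    (h3 : ∀ x : alternatingGroup α, (x : Perm α).IsThreeCycle → (f x).IsThreeCycle) :
    ∃ σ : Perm α, ∀ x : alternatingGroup α, f x = σ * x * σ⁻¹ := by
  have hmem : ∀ i, i ≠ u → i ≠ v → cyc u v i ∈ alternatingGroup α := fun i hu hv =>
    (cyc_three huv hu.symm hv.symm).mem_alternatingGroup
  obtain ⟨ξ, hξ⟩ : ∃ ξ : α → alternatingGroup α, ∀ i, i ≠ u → i ≠ v → (ξ i : Perm α) = cyc u v i := by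
    refine ⟨fun i => if h : i ≠ u ∧ i ≠ v then ⟨cyc u v i, hmem i h.1 h.2⟩ else 1, ?_⟩
    intro i hu hv
    simp only [dif_pos (show i ≠ u ∧ i ≠ v from ⟨hu, hv⟩)]
  have hξ3 : ∀ i, i ≠ u → i ≠ v → (f (ξ i)).IsThreeCycle := by
    intro i hu hv
    apply h3
    rw [hξ i hu hv]; exact cyc_three huv hu.symm hv.symm
  have hξinj : ∀ i j, i ≠ u → i ≠ v → j ≠ u → j ≠ v → f (ξ i) = f (ξ j) → i = j := by
    intro i j hiu hiv hju hjv h
    have h1 := congrArg Subtype.val (hf h)
    rw [hξ i hiu hiv, hξ j hju hjv] at h1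
    have h2 := congrArg (fun g : Perm α => g v) h1
    simp only [cyc_snd hiu.symm hiv.symm, cyc_snd hju.symm hjv.symm] at h2
    exact h2
  have hshare : ∀ i j, i ≠ u → i ≠ v → j ≠ u → j ≠ v → i ≠ j →
      ∃ a, f (ξ i) a ≠ a ∧ f (ξ j) a = f (ξ i) a := by
    intro i j hiu hiv hju hjv hij
    have hmul : (ξ i * ξ j) ^ 2 = 1 := by
      apply Subtype.ext
      rw [Subgroup.coe_pow, Subgroup.coe_mul, hξ i hiu hiv, hξ j hju hjv, Subgroup.coe_one]
      apply Equiv.ext
      intro x
      rw [pow_two, mul_apply, mul_apply, mul_apply, one_apply]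
      by_cases hxu : x = u
      · subst hxu
        rw [cyc_fst huv hju.symm, cyc_snd hiu.symm hiv.symm, cyc_other hiu hiv hij, cyc_trd]
      by_cases hxv : x = v
      · subst hxv
        rw [cyc_snd hju.symm hjv.symm, cyc_other hju hjv hij.symm, cyc_trd, cyc_fst huv hiu.symm]
      by_cases hxi : x = i
      · subst hxi
        rw [cyc_other hiu hiv hij, cyc_trd, cyc_fst huv hju.symm, cyc_snd hiu.symm hiv.symm]
      by_cases hxj : x = j
      · subst hxj
        rw [cyc_trd, cyc_fst huv hiu.symm, cyc_snd hju.symm hjv.symm, cyc_other hju hjv hij.symm]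
      rw [cyc_other hxu hxv hxj, cyc_other hxu hxv hxi, cyc_other hxu hxv hxj, cyc_other hxu hxv hxi]
    have hne : ξ i * ξ j ≠ 1 := by
      intro h
      have h1 := congrArg (fun g : alternatingGroup α => (g : Perm α) u) h
      simp only [Subgroup.coe_mul, hξ i hiu hiv, hξ j hju hjv, Subgroup.coe_one, mul_apply, one_apply,
        cyc_fst huv hju.symm, cyc_snd hiu.symm hiv.symm] at h1
      exact hiu h1
    apply share (hξ3 i hiu hiv) (hξ3 j hju hjv)
    · rw [← map_mul]
      intro h
      exact hne (hf (by rw [h, map_one]))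
    · rw [← map_mul, ← map_pow, hmul, map_one]
  obtain ⟨a, ha, ha'⟩ := hshare w t huw.symm hvw.symm hut.symm hvt.symm hwt
  obtain ⟨b, hb⟩ : ∃ b, b = f (ξ w) a := ⟨_, rfl⟩
  rw [← hb] at ha ha'
  have hall : ∀ i, i ≠ u → i ≠ v → f (ξ i) a = b := by
    intro i hiu hiv
    by_cases hiw : i = w
    · rw [hiw, hb]
    by_cases hit : i = t
    · rw [hit, ha']
    rw [hb]
    apply two_share (hξ3 w huw.symm hvw.symm) (hξ3 t hut.symm hvt.symm) (hξ3 i hiu hiv)
      (by rw [← hb]; exact ha) (by rw [← hb]; exact ha')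
      (fun h => hwt (hξinj t w hut.symm hvt.symm huw.symm hvw.symm h).symm)
      (hshare w i huw.symm hvw.symm hiu hiv (Ne.symm hiw))
      (hshare t i hut.symm hvt.symm hiu hiv (Ne.symm hit))
  -- the permutation
  have hcb : ∀ i, i ≠ u → i ≠ v → f (ξ i) b ≠ b ∧ f (ξ i) b ≠ a := by
    intro i hiu hiv
    have h1 := three_ne (hξ3 i hiu hiv) (a := a) (by rw [hall i hiu hiv]; exact ha)
    rw [hall i hiu hiv] at h1
    exact h1
  have hcinj : ∀ i j, i ≠ u → i ≠ v → j ≠ u → j ≠ v → f (ξ i) b = f (ξ j) b → i = j := by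
    intro i j hiu hiv hju hjv h
    apply hξinj i j hiu hiv hju hjv
    apply ext_three (hξ3 j hju hjv) (hξ3 i hiu hiv) (a := a)
    · rw [hall j hju hjv]; exact ha
    · rw [hall j hju hjv, hall i hiu hiv]
    · rw [hall j hju hjv, h]
  obtain ⟨s, hs⟩ : ∃ s : α → α, s = fun x => if x = u then a else if x = v then b else f (ξ x) b := ⟨_, rfl⟩
  have hsu : s u = a := by rw [hs]; simp
  have hsv : s v = b := by rw [hs]; simp [huv.symm]
  have hsi : ∀ i, i ≠ u → i ≠ v → s i = f (ξ i) b := by
    intro i hiu hiv; rw [hs]; simp [hiu, hiv]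
  have hsinj : Function.Injective s := by
    intro x y hxy
    by_cases hxu : x = u
    · by_cases hyu : y = u
      · rw [hxu, hyu]
      by_cases hyv : y = v
      · rw [hxu, hyv, hsu, hsv] at hxy
        exact absurd hxy.symm ha
      · rw [hxu, hsu, hsi y hyu hyv] at hxy
        exact absurd hxy.symm (hcb y hyu hyv).2
    by_cases hxv : x = v
    · by_cases hyu : y = u
      · rw [hxv, hyu, hsu, hsv] at hxy
        exact absurd hxy ha
      by_cases hyv : y = v
      · rw [hxv, hyv]
      · rw [hxv, hsv, hsi y hyu hyv] at hxy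
        exact absurd hxy.symm (hcb y hyu hyv).1
    by_cases hyu : y = u
    · rw [hyu, hsu, hsi x hxu hxv] at hxy
      exact absurd hxy (hcb x hxu hxv).2
    by_cases hyv : y = v
    · rw [hyv, hsv, hsi x hxu hxv] at hxy
      exact absurd hxy (hcb x hxu hxv).1
    · rw [hsi x hxu hxv, hsi y hyu hyv] at hxy
      exact hcinj x y hxu hxv hyu hyv hxy
  let σ : Perm α := Equiv.ofBijective s (Finite.injective_iff_bijective.1 hsinj)
  have hσ : ∀ x, σ x = s x := fun x => rfl
  refine ⟨σ, ?_⟩
  -- agreement on the generators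
  have hgen : ∀ i, i ≠ u → i ≠ v → f (ξ i) = σ * (ξ i : Perm α) * σ⁻¹ := by
    intro i hiu hiv
    rw [hξ i hiu hiv, conj_cyc, hσ, hσ, hσ, hsu, hsv, hsi i hiu hiv]
    obtain ⟨m1, m2⟩ := hcb i hiu hiv
    apply ext_three (cyc_three ha.symm m2.symm m1.symm) (hξ3 i hiu hiv) (a := a)
    · rw [cyc_fst ha.symm m2.symm]; exact ha
    · rw [cyc_fst ha.symm m2.symm, hall i hiu hiv]
    · rw [cyc_fst ha.symm m2.symm, cyc_snd m2.symm m1.symm]
  let g : alternatingGroup α →* Perm α := (MulAut.conj σ).toMonoidHom.comp (alternatingGroup α).subtype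
  have hg : ∀ x, g x = σ * (x : Perm α) * σ⁻¹ := fun x => rfl
  have hK : ∀ y : Perm α, y.IsThreeCycle → y ∈ (f.eqLocus g).map (alternatingGroup α).subtype := by
    intro y hy
    apply gen huv _ hy
    intro i hiu hiv
    refine ⟨ξ i, ?_, hξ i hiu hiv⟩
    show f (ξ i) = g (ξ i)
    rw [hgen i hiu hiv, hg]
  have htop : alternatingGroup α ≤ (f.eqLocus g).map (alternatingGroup α).subtype := by
    have h1 : Subgroup.closure {σ : Perm α | IsThreeCycle σ} ≤
        (f.eqLocus g).map (alternatingGroup α).subtype := (Subgroup.closure_le _).2 hK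
    exact (closure_three_cycles_eq_alternating (α := α)).symm.le.trans h1
  intro x
  obtain ⟨x', hx', hxx⟩ := htop x.2
  have : x' = x := Subtype.ext hxx
  rw [this] at hx'
  exact hx'

theorem ineq (m : ℕ) : ∀ j : ℕ, 1 ≤ j → ¬ (m = 0 ∧ j = 1) →
    2 * m.factorial * (3 ^ j * (j + 1).factorial) < (m + 3 * j).factorial := by
  have step : ∀ j, 1 ≤ j → 2 * m.factorial * (3 ^ j * (j + 1).factorial) < (m + 3 * j).factorial →
      2 * m.factorial * (3 ^ (j + 1) * (j + 1 + 1).factorial) < (m + 3 * (j + 1)).factorial := by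
    intro j hj h
    have e1 : 2 * m.factorial * (3 ^ (j + 1) * (j + 1 + 1).factorial) =
        (3 * (j + 2)) * (2 * m.factorial * (3 ^ j * (j + 1).factorial)) := by
      rw [Nat.factorial_succ (j + 1), pow_succ]; ring
    have e2 : (m + 3 * (j + 1)).factorial =
        (m + 3 * j + 3) * ((m + 3 * j + 2) * ((m + 3 * j + 1) * (m + 3 * j).factorial)) := by
      have : m + 3 * (j + 1) = m + 3 * j + 1 + 1 + 1 := by ring
      rw [this, Nat.factorial_succ, Nat.factorial_succ, Nat.factorial_succ]
    rw [e1, e2]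
    calc (3 * (j + 2)) * (2 * m.factorial * (3 ^ j * (j + 1).factorial))
        < (3 * (j + 2)) * (m + 3 * j).factorial := (Nat.mul_lt_mul_left (by omega)).2 h
      _ ≤ ((m + 3 * j + 3) * ((m + 3 * j + 2) * (m + 3 * j + 1))) * (m + 3 * j).factorial := by
          apply Nat.mul_le_mul_right
          have h1 : 2 ≤ (m + 3 * j + 2) * (m + 3 * j + 1) := by nlinarith
          calc 3 * (j + 2) ≤ (m + 3 * j + 3) * 2 := by omega
            _ ≤ _ := Nat.mul_le_mul_left _ h1
      _ = _ := by ring
  intro j hj hm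
  by_cases hm0 : m = 0
  · subst hm0
    have hj2 : 2 ≤ j := by
      by_contra hc
      exact hm ⟨rfl, by omega⟩
    clear hm hj
    induction j, hj2 using Nat.le_induction with
    | base => norm_num [Nat.factorial]
    | succ n hn ih => exact step n (by omega) ih
  · clear hm
    induction j, hj using Nat.le_induction with
    | base =>
      have e2 : (m + 3 * 1).factorial = (m + 3) * ((m + 2) * ((m + 1) * m.factorial)) := by
        rw [mul_one, Nat.factorial_succ, Nat.factorial_succ, Nat.factorial_succ]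
      rw [e2]
      have h1 : 0 < m.factorial := Nat.factorial_pos m
      have h2 : 1 ≤ m := Nat.one_le_iff_ne_zero.2 hm0
      have e3 : 2 * m.factorial * (3 ^ 1 * (1 + 1).factorial) = 12 * m.factorial := by
        norm_num [Nat.factorial]; ring
      rw [e3]
      calc 12 * m.factorial < 24 * m.factorial := (Nat.mul_lt_mul_right h1).2 (by norm_num)
        _ ≤ ((m + 3) * ((m + 2) * (m + 1))) * m.factorial := by
            apply Nat.mul_le_mul_right
            nlinarith [Nat.mul_le_mul h2 h2, Nat.mul_le_mul (Nat.mul_le_mul h2 h2) h2]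
        _ = _ := by ring
    | succ n hn ih => exact step n hn ih

theorem card_cent_three {x : Perm α} (hx : x.IsThreeCycle) :
    Nat.card (Subgroup.centralizer {x}) = (Fintype.card α - 3).factorial * 3 := by
  rw [nat_card_centralizer, hx.cycleType]
  simp

theorem card_cent_rep {x : Perm α} {k : ℕ} (hx : x.cycleType = Multiset.replicate (k + 1) 3) :
    Nat.card (Subgroup.centralizer {x}) =
      (Fintype.card α - 3 * (k + 1)).factorial * 3 ^ (k + 1) * (k + 1).factorial := by
  rw [nat_card_centralizer, hx]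
  have h1 : (Multiset.replicate (k + 1) 3).toFinset = {3} := by
    ext a
    rw [Multiset.mem_toFinset, Multiset.mem_replicate, Finset.mem_singleton]
    exact ⟨fun h => h.2, fun h => ⟨by omega, h⟩⟩
  rw [h1, Finset.prod_singleton, Multiset.sum_replicate, Multiset.prod_replicate,
    Multiset.count_replicate_self, smul_eq_mul, mul_comm (k + 1) 3]

/-- automorphisms of `A_n` preserve three-cycles, `n ≠ 6` -/
theorem aut_three (h6 : Fintype.card α ≠ 6) (f : MulAut (alternatingGroup α)) {x : alternatingGroup α}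
    (hx : (x : Perm α).IsThreeCycle) : ((f x : alternatingGroup α) : Perm α).IsThreeCycle := by
  have ho : orderOf ((f x : alternatingGroup α) : Perm α) = 3 := by
    rw [Subgroup.orderOf_coe, MulEquiv.orderOf_eq f x, ← Subgroup.orderOf_coe, hx.orderOf]
  obtain ⟨k, hk⟩ := cycleType_prime_order (σ := ((f x : alternatingGroup α) : Perm α)) (by
    rw [ho]; exact Nat.prime_three)
  rw [ho] at hk
  by_cases hk0 : k = 0
  · subst hk0
    show cycleType _ = {3}
    rw [hk]; rfl
  exfalso
  -- compare centralizers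
  have hle : 3 * (k + 1) ≤ Fintype.card α := by
    have h1 := ((f x : alternatingGroup α) : Perm α).sum_cycleType
    rw [hk, Multiset.sum_replicate, smul_eq_mul] at h1
    have h2 := Finset.card_le_univ ((f x : alternatingGroup α) : Perm α).support
    omega
  -- the centralizer in the alternating group
  have hcard : ∀ y : alternatingGroup α, Nat.card (Subgroup.centralizer {y}) =
      Nat.card (Subgroup.centralizer {(y : Perm α)} ⊓ alternatingGroup α : Subgroup (Perm α)) := by
    intro y
    have h1 : (Subgroup.centralizer {y}).map (alternatingGroup α).subtype =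
        Subgroup.centralizer {(y : Perm α)} ⊓ alternatingGroup α := by
      ext z
      constructor
      · rintro ⟨z', hz', rfl⟩
        rw [Subgroup.mem_inf]
        refine ⟨?_, z'.2⟩
        rw [SetLike.mem_coe, Subgroup.mem_centralizer_singleton_iff] at hz'
        rw [Subgroup.mem_centralizer_singleton_iff]
        exact congrArg Subtype.val hz'
      · intro hz
        obtain ⟨hz, hzA⟩ := Subgroup.mem_inf.1 hz
        refine ⟨⟨z, hzA⟩, ?_, rfl⟩
        rw [Subgroup.mem_centralizer_singleton_iff] at hz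
        rw [SetLike.mem_coe, Subgroup.mem_centralizer_singleton_iff]
        exact Subtype.ext hz
    rw [← h1]
    exact (Nat.card_congr ((Subgroup.centralizer {y}).equivMapOfInjective _
      (Subgroup.subtype_injective _)).toEquiv)
  have heq : Nat.card (Subgroup.centralizer {x}) = Nat.card (Subgroup.centralizer {f x}) := by
    refine Nat.card_congr ⟨fun z => ⟨f z, ?_⟩, fun z => ⟨f.symm z, ?_⟩, ?_, ?_⟩
    · have := z.2
      rw [Subgroup.mem_centralizer_singleton_iff] at this ⊢
      rw [← map_mul, this, map_mul]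
    · have := z.2
      rw [Subgroup.mem_centralizer_singleton_iff] at this ⊢
      apply f.injective
      rw [map_mul, map_mul, f.apply_symm_apply, this]
    · intro z; exact Subtype.ext (f.symm_apply_apply _)
    · intro z; exact Subtype.ext (f.apply_symm_apply _)
  rw [hcard, hcard] at heq
  have h1 : Nat.card (Subgroup.centralizer {(x : Perm α)}) ≤
      2 * Nat.card (Subgroup.centralizer {(x : Perm α)} ⊓ alternatingGroup α : Subgroup (Perm α)) := by
    have h2 : (alternatingGroup α).relIndex (Subgroup.centralizer {(x : Perm α)}) ≤ 2 := by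
      have h3 := Subgroup.relIndex_dvd_index_of_normal (alternatingGroup α) (Subgroup.centralizer {(x : Perm α)})
      have h4 : (alternatingGroup α).index ∣ 2 := by
        rcases subsingleton_or_nontrivial α with hs | hn
        · have : alternatingGroup α = ⊤ := by
            rw [eq_top_iff]; intro y _
            have : y = 1 := Subsingleton.elim _ _
            rw [this]; exact one_mem _
          rw [this, Subgroup.index_top]; norm_num
        · rw [alternatingGroup.index_eq_two]
      exact Nat.le_of_dvd (by norm_num) (h3.trans h4)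
    have h5 := Subgroup.card_mul_index ((alternatingGroup α).subgroupOf (Subgroup.centralizer {(x : Perm α)}))
    have h6 : Nat.card ((alternatingGroup α).subgroupOf (Subgroup.centralizer {(x : Perm α)})) =
        Nat.card (Subgroup.centralizer {(x : Perm α)} ⊓ alternatingGroup α : Subgroup (Perm α)) := by
      rw [inf_comm, ← Subgroup.subgroupOf_map_subtype]
      exact (Nat.card_congr (((alternatingGroup α).subgroupOf _).equivMapOfInjective _
        (Subgroup.subtype_injective _)).toEquiv)
    rw [h6] at h5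
    rw [← h5, mul_comm 2]
    exact Nat.mul_le_mul_left _ h2
  have h7 : Nat.card (Subgroup.centralizer {((f x : alternatingGroup α) : Perm α)} ⊓ alternatingGroup α : Subgroup (Perm α)) ≤
      Nat.card (Subgroup.centralizer {((f x : alternatingGroup α) : Perm α)}) :=
    Subgroup.card_le_of_le inf_le_left
  rw [← heq, card_cent_rep hk] at h7
  rw [card_cent_three hx] at h1
  obtain ⟨m, hm⟩ : ∃ m, Fintype.card α = m + 3 * (k + 1) := ⟨Fintype.card α - 3 * (k + 1), by omega⟩
  have e1 : Fintype.card α - 3 = m + 3 * k := by omega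
  have e2 : Fintype.card α - 3 * (k + 1) = m := by omega
  rw [e1] at h1
  rw [e2] at h7
  have h8 := ineq m k (by omega) (by rintro ⟨h9, h10⟩; apply h6; rw [hm, h9, h10])
  have h9 : (m + 3 * k).factorial * 3 ≤ 2 * (m.factorial * 3 ^ (k + 1) * (k + 1).factorial) :=
    h1.trans (Nat.mul_le_mul_left 2 h7)
  have e3 : 2 * (m.factorial * 3 ^ (k + 1) * (k + 1).factorial) =
      (2 * m.factorial * (3 ^ k * (k + 1).factorial)) * 3 := by rw [pow_succ]; ring
  rw [e3] at h9
  have h10 := (Nat.mul_lt_mul_right (show 0 < 3 by norm_num)).2 h8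
  omega

end Cfsg.Agent.H22.AutAlt
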