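import Cfsg.Agent.H22.Matsumoto

set_option autoImplicit false

/-!
# The Coxeter presentation from the exchange condition (seat helper22)
-/

namespace Cfsg.Agent.H22

open Cfsg.Agent.H6

section
variable {W ι : Type*} [Group W] {s : ι → W} (hs : GenInv s) (hex : Exchange s)
  (hne : ∀ i, s i ≠ 1) (hinj : Function.Injective s)

/-- the Coxeter matrix of orders of products -/
noncomputable def coxMat (hs : GenInv s) (hinj : Function.Injective s) : CoxeterMatrix ι where
  M := Matrix.of fun i j => orderOf (s i * s j)
  isSymm := by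
    ext i j
    simp only [Matrix.transpose_apply, Matrix.of_apply]
    exact orderOf_mul_comm' _ _
  diagonal := by
    intro i
    simp [hs.sq]
  off_diagonal := by
    intro i j hij h
    simp only [Matrix.of_apply] at h
    rw [orderOf_eq_one_iff] at h
    apply hij
    apply hinj
    have h1 := hs.inv_eq j
    rw [← h1]
    exact eq_inv_of_mul_eq_one_left h

theorem coxMat_apply (i j : ι) : (coxMat hs hinj).M i j = orderOf (s i * s j) := rfl

/-- If a Coxeter matrix satisfies `M i j = orderOf (s i * s j)` then `(W, s)` is a Coxeter system for it. -/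
theorem exists_coxeterSystem' (hs : GenInv s) (hex : Exchange s) (hne : ∀ i, s i ≠ 1) (M : CoxeterMatrix ι)
    (hM : ∀ i j, i ≠ j → M i j = orderOf (s i * s j)) :
    ∃ φ : M.Group ≃* W, ∀ i, φ (M.simple i) = s i := by
  classical
  set cs := M.toCoxeterSystem with hcs
  have hlift : CoxeterMatrix.IsLiftable M s := by
    intro i j
    by_cases hij : i = j
    · subst hij
      rw [M.diagonal, pow_one, hs.sq]
    · rw [hM i j hij]
      exact pow_orderOf_eq_one _
  set φ : M.Group →* W := cs.lift ⟨s, hlift⟩ with hφ
  have hφs : ∀ i, φ (cs.simple i) = s i := fun i => cs.lift_apply_simple hlift i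
  have hφw : ∀ L : List ι, φ (L.map cs.simple).prod = wp s L := by
    intro L
    rw [map_list_prod, List.map_map]
    unfold wp
    congr 1
    apply List.map_congr_left
    intro i _
    exact hφs i
  have hsurj : Function.Surjective φ := by
    intro w
    obtain ⟨L, rfl⟩ := hs.exists_word w
    exact ⟨_, hφw L⟩
  have hinj' : Function.Injective φ := by
    rw [injective_iff_map_eq_one]
    intro x hx
    obtain ⟨L, rfl⟩ := cs.wordProd_surjective x
    have hx' : φ (L.map cs.simple).prod = 1 := hx
    rw [hφw] at hx'
    have hbr : ∀ i j, i ≠ j → 0 < orderOf (s i * s j) →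
        altp (cs.simple i) (cs.simple j) (orderOf (s i * s j)) = altp (cs.simple j) (cs.simple i) (orderOf (s i * s j)) := by
      intro i j hij _
      rw [altp_eq_iff _ _ (cs.simple_mul_simple_self i) (cs.simple_mul_simple_self j), ← hM i j hij]
      exact cs.simple_mul_simple_pow i j
    obtain ⟨L', h1, h2, h3⟩ := exists_red_word hs hex hne cs.simple cs.simple_mul_simple_self hbr L
    rw [hx'] at h2
    have h4 : L' = [] := by
      unfold IsRed at h1
      rw [h2, hs.len_one] at h1
      exact List.length_eq_zero_iff.1 h1.symm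
    subst h4
    exact h3.symm
  refine ⟨MulEquiv.ofBijective φ ⟨hinj', hsurj⟩, fun i => hφs i⟩

theorem exists_coxeterSystem (hs : GenInv s) (hex : Exchange s) (hne : ∀ i, s i ≠ 1) (M : CoxeterMatrix ι)
    (hM : ∀ i j, i ≠ j → M i j = orderOf (s i * s j)) :
    ∃ cs : CoxeterSystem M W, cs.simple = s := by
  obtain ⟨φ, hφ⟩ := exists_coxeterSystem' hs hex hne M hM
  exact ⟨⟨φ.symm⟩, funext fun i => hφ i⟩

end

end Cfsg.Agent.H22
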