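import Cfsg.Agent.H2.NComp
import Cfsg.Agent.H24.ClassSize

set_option autoImplicit false
set_option linter.all false

/-! Cyclic Sylow subgroups: a Burnside type criterion. -/

namespace Cfsg.Agent.H22

open Subgroup

theorem dvd_sub_one_of_pow {p a N : ℕ} (hp : p.Prime) (hN : ¬ p ∣ N) {r : ℤ}
    (hr : (p : ℤ) ∣ r - 1) (h : (p : ℤ) ^ a ∣ r ^ N - 1) : (p : ℤ) ^ a ∣ r - 1 := by
  have h1 : (∑ i ∈ Finset.range N, r ^ i) * (r - 1) = r ^ N - 1 := geom_sum_mul r N
  have h2 : (∑ i ∈ Finset.range N, r ^ i) ≡ N [ZMOD p] := by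
    have h3 : r ≡ 1 [ZMOD p] := (Int.modEq_iff_dvd.2 (by rw [← neg_sub]; exact (dvd_neg).2 hr))
    calc (∑ i ∈ Finset.range N, r ^ i) ≡ ∑ i ∈ Finset.range N, 1 ^ i [ZMOD p] :=
          Int.ModEq.sum fun i _ => h3.pow i
      _ = N := by simp
  have hp' : Prime (p : ℤ) := Nat.prime_iff_prime_int.1 hp
  have h4 : ¬ (p : ℤ) ∣ ∑ i ∈ Finset.range N, r ^ i := by
    intro h5
    apply hN
    have h6 : (p : ℤ) ∣ N := (Int.ModEq.dvd_iff h2).1 h5
    exact_mod_cast h6
  have h5 : IsCoprime ((p : ℤ) ^ a) (∑ i ∈ Finset.range N, r ^ i) :=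
    IsCoprime.pow_left ((Prime.coprime_iff_not_dvd hp').2 h4)
  rw [← h1] at h
  exact h5.dvd_of_dvd_mul_left h

variable {G : Type*} [Group G]

theorem conj_zpow_pow {x y : G} {r : ℤ} (h : x * y * x⁻¹ = y ^ r) (n : ℕ) :
    x ^ n * y * (x ^ n)⁻¹ = y ^ (r ^ n) := by
  induction n with
  | zero => simp
  | succ n ih =>
    have e : x ^ (n + 1) * y * (x ^ (n + 1))⁻¹ = x * (x ^ n * y * (x ^ n)⁻¹) * x⁻¹ := by
      rw [pow_succ']; group
    rw [e, ih, ← conj_zpow, h, ← zpow_mul]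
    congr 1
    rw [pow_succ']

/-- an automorphism of a cyclic `p`-group, trivial mod `p`, of order prime to `p`, is trivial -/
theorem comm_of_act {p a N : ℕ} (hp : p.Prime) {x y : G} (hy : orderOf y = p ^ a) {r : ℤ}
    (h : x * y * x⁻¹ = y ^ r) (hr : (p : ℤ) ∣ r - 1) (hN : ¬ p ∣ N)
    (hx : x ^ N * y = y * x ^ N) : x * y = y * x := by
  have h1 := conj_zpow_pow h N
  rw [hx, mul_inv_cancel_right] at h1
  have h2 : y ^ (r ^ N - 1) = 1 := by rw [zpow_sub, ← h1, zpow_one, mul_inv_cancel]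
  rw [← orderOf_dvd_iff_zpow_eq_one, hy] at h2
  have h3 := dvd_sub_one_of_pow hp hN hr (by exact_mod_cast h2)
  have h4 : y ^ (r - 1) = 1 := by
    rw [← orderOf_dvd_iff_zpow_eq_one, hy]; exact_mod_cast h3
  have h5 : y ^ r = y := by
    rw [show r = (r - 1) + 1 by ring, zpow_add, h4, one_mul, zpow_one]
  rw [h5] at h
  exact mul_inv_eq_iff_eq_mul.1 h

/-- A Burnside criterion for cyclic Sylow subgroups. -/
theorem npc_of_cyclic [Finite G] {p : ℕ} [hp : Fact p.Prime] (P : Sylow p G) {y : G}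
    (hy : zpowers y = (P : Subgroup G))
    (h : ∀ g ∈ normalizer ((P : Subgroup G) : Set G), ∃ r : ℤ, g * y * g⁻¹ = y ^ r ∧
      (p : ℤ) ∣ r - 1) : Cfsg.HasNormalPComplement p G := by
  obtain ⟨a, ha⟩ := IsPGroup.iff_card.1 P.2
  have hya : orderOf y = p ^ a := by rw [← ha, ← Nat.card_zpowers, hy]
  have hPc : ∀ x ∈ (P : Subgroup G), x * y = y * x := by
    intro x hx
    rw [← hy] at hx
    obtain ⟨k, rfl⟩ := mem_zpowers_iff.1 hx
    exact (Commute.zpow_self y k).eq
  have hle : normalizer ((P : Subgroup G) : Set G) ≤ centralizer ((P : Subgroup G) : Set G) := by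
    intro g hg
    have hn : ((P : Subgroup G).subgroupOf (normalizer ((P : Subgroup G) : Set G))).Normal :=
      Subgroup.normal_in_normalizer
    set N := ((P : Subgroup G).subgroupOf (normalizer ((P : Subgroup G) : Set G))).index with hNdef
    have hN : ¬ p ∣ N := by
      intro hd
      exact P.not_dvd_index (hd.trans (Subgroup.relIndex_dvd_index_of_le Subgroup.le_normalizer))
    have hgN : g ^ N ∈ (P : Subgroup G) := by
      have := Subgroup.pow_index_mem
        ((P : Subgroup G).subgroupOf (normalizer ((P : Subgroup G) : Set G))) ⟨g, hg⟩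
      exact this
    obtain ⟨r, hr, hr1⟩ := h g hg
    have hc := comm_of_act hp.out hya hr hr1 hN (hPc _ hgN)
    rw [mem_centralizer_iff]
    intro z hz
    rw [← hy] at hz
    obtain ⟨k, rfl⟩ := mem_zpowers_iff.1 hz
    exact ((Commute.zpow_left (show Commute y g from hc.symm) k)).eq
  exact H24.hasNormalPComplement_of_relIndex_eq_one P (Subgroup.relIndex_eq_one.2 hle)

end Cfsg.Agent.H22
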