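import Mathlib

set_option autoImplicit false
set_option linter.all false

/-!
# A Frobenius-type group acting on an abelian group: fixed points of the complement (seat helper22)
-/

namespace Cfsg.Agent.H22

/-- commuting nontrivial `p`- and `q`-elements give an element of order `p * q` -/
theorem exists_orderOf_mul {G : Type*} [Group G] {p q : ℕ} (hp : p.Prime) (hq : q.Prime) (hpq : p ≠ q)
    {x y : G} (hxy : x * y = y * x) (hx : x ≠ 1) (hy : y ≠ 1) {m n : ℕ} (hxm : x ^ p ^ m = 1)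
    (hyn : y ^ q ^ n = 1) : ∃ z : G, orderOf z = p * q := by
  have key : ∀ {r : ℕ} (hr : r.Prime) {w : G} (hw : w ≠ 1) {k : ℕ} (hk : w ^ r ^ k = 1),
      ∃ j : ℕ, orderOf (w ^ j) = r := by
    intro r hr w hw k hk
    have h1 : orderOf w ∣ r ^ k := orderOf_dvd_of_pow_eq_one hk
    obtain ⟨j, hj, hj'⟩ := (Nat.dvd_prime_pow hr).1 h1
    have hj0 : j ≠ 0 := by
      rintro rfl
      rw [pow_zero, orderOf_eq_one_iff] at hj'
      exact hw hj'
    refine ⟨r ^ (j - 1), ?_⟩
    have h2 : orderOf w = r ^ (j - 1) * r := by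
      rw [hj', ← pow_succ]; congr 1; omega
    have h3 : r ^ (j - 1) ∣ orderOf w := ⟨r, h2⟩
    rw [orderOf_pow_of_dvd (pow_pos hr.pos _).ne' h3, h2]
    exact Nat.mul_div_cancel_left r (pow_pos hr.pos _)
  obtain ⟨i, hi⟩ := key hp hx hxm
  obtain ⟨j, hj⟩ := key hq hy hyn
  refine ⟨x ^ i * y ^ j, ?_⟩
  have hc : Commute (x ^ i) (y ^ j) := (show Commute x y from hxy).pow_pow i j
  rw [hc.orderOf_mul_eq_mul_orderOf_of_coprime, hi, hj]
  rw [hi, hj]
  exact (Nat.coprime_primes hp hq).2 hpq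

/-- If `Q` acts without fixed points on `A` and `y` of prime order acts without fixed points on `Q`,
then `y` has nontrivial fixed points on `A` (unless `|Q|` kills something). -/
theorem frob_fixed {S A : Type*} [Group S] [CommGroup A] (ρ : S →* MulAut A) (Q : Subgroup S) [Finite Q]
    (y : S) {r : ℕ} (hr : r.Prime) (hy : y ^ r = 1) (hyQ : ∀ x ∈ Q, y * x * y⁻¹ ∈ Q)
    (h1 : ∀ a : A, (∀ x ∈ Q, ρ x a = a) → a = 1) (h2 : ∀ x ∈ Q, y * x = x * y → x = 1)
    (h3 : ∀ a : A, a ^ Nat.card Q = 1 → a = 1) (h4 : ∀ a : A, ρ y a = a → a = 1) (a : A) : a = 1 := by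
  classical
  haveI : Fintype Q := Fintype.ofFinite Q
  -- product over Q is trivial
  have hQ : ∀ b : A, ∏ x : Q, ρ (x : S) b = 1 := by
    intro b
    apply h1
    intro x hx
    rw [map_prod]
    rw [← Equiv.prod_comp (Equiv.mulLeft (⟨x, hx⟩ : Q)) (fun z : Q => ρ (z : S) b)]
    apply Finset.prod_congr rfl
    intro z _
    show ρ x (ρ z b) = ρ ((⟨x, hx⟩ : Q) * z : Q) b
    rw [Subgroup.coe_mul, map_mul]; rfl
  have hypow : ∀ i : ℕ, ∀ x ∈ Q, y ^ i * x * (y ^ i)⁻¹ ∈ Q := by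
    intro i
    induction i with
    | zero => intro x hx; simpa using hx
    | succ i ih =>
      intro x hx
      have := hyQ _ (ih x hx)
      have e : y ^ (i + 1) * x * (y ^ (i + 1))⁻¹ = y * (y ^ i * x * (y ^ i)⁻¹) * y⁻¹ := by
        rw [pow_succ']; group
      rw [e]; exact this
  -- the norm of y is trivial
  have hN : ∀ b : A, ∏ i ∈ Finset.range r, ρ (y ^ i) b = 1 := by
    intro b
    apply h4
    rw [map_prod]
    have e : ∀ i ∈ Finset.range r, ρ y (ρ (y ^ i) b) = ρ (y ^ (i + 1)) b := by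
      intro i _
      rw [pow_succ', map_mul]; rfl
    rw [Finset.prod_congr rfl e]
    have hr1 : r = (r - 1) + 1 := by have := hr.pos; omega
    rw [hr1, Finset.prod_range_succ, Finset.prod_range_succ' (fun i => ρ (y ^ i) b), ← hr1, hy, pow_zero]
  -- the elements x y^i, x in Q, are the conjugates of y^i
  have hconj : ∀ i ∈ Finset.Ico 1 r, ∏ x : Q, ρ ((x : S) * y ^ i * (x : S)⁻¹) a = 1 := by
    intro i hi
    rw [Finset.mem_Ico] at hi
    let f : Q → Q := fun x => ⟨x * (y ^ i * (x : S)⁻¹ * (y ^ i)⁻¹), Q.mul_mem x.2 (hypow i _ (Q.inv_mem x.2))⟩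
    have hinj : Function.Injective f := by
      intro u v huv
      have e : (u : S) * (y ^ i * (u : S)⁻¹ * (y ^ i)⁻¹) = v * (y ^ i * (v : S)⁻¹ * (y ^ i)⁻¹) := congrArg Subtype.val huv
      have e2 : y ^ i * ((u : S)⁻¹ * v) = ((u : S)⁻¹ * v) * y ^ i := by
        have e3 : (u : S) * y ^ i * (u : S)⁻¹ = v * y ^ i * (v : S)⁻¹ := by
          have := congrArg (fun t => t * y ^ i) e
          simpa [mul_assoc] using this
        calc y ^ i * ((u : S)⁻¹ * v) = (u : S)⁻¹ * ((u : S) * y ^ i * (u : S)⁻¹) * v := by group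
          _ = (u : S)⁻¹ * (v * y ^ i * (v : S)⁻¹) * v := by rw [e3]
          _ = _ := by group
      -- y is a power of y^i
      have hcop : Nat.Coprime i r := (Nat.coprime_of_lt_prime (by omega) hi.2 hr).symm
      have hyi : ∃ k : ℕ, (y ^ i) ^ k = y := by
        obtain ⟨k, -, hk⟩ := Nat.exists_mul_mod_eq_one_of_coprime hcop hr.one_lt
        refine ⟨k, ?_⟩
        rw [← pow_mul]
        conv_rhs => rw [← pow_one y]
        rw [← Nat.div_add_mod (i * k) r, pow_add, pow_mul, hy, one_pow, one_mul, hk]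
      obtain ⟨k, hk⟩ := hyi
      have e4 : y * ((u : S)⁻¹ * v) = ((u : S)⁻¹ * v) * y := by
        have : Commute (y ^ i) ((u : S)⁻¹ * v) := e2
        have h := this.pow_left k
        rw [hk] at h
        exact h
      have e5 := h2 _ (Q.mul_mem (Q.inv_mem u.2) v.2) e4
      apply Subtype.ext
      exact (inv_mul_eq_one.1 e5)
    have hbij : Function.Bijective f := Finite.injective_iff_bijective.1 hinj
    have e6 : ∏ x : Q, ρ ((x : S) * y ^ i * (x : S)⁻¹) a = ∏ x : Q, ρ ((f x : S)) (ρ (y ^ i) a) := by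
      apply Finset.prod_congr rfl
      intro x _
      have : (x : S) * y ^ i * (x : S)⁻¹ = (f x : S) * y ^ i := by
        show _ = x * (y ^ i * (x : S)⁻¹ * (y ^ i)⁻¹) * y ^ i
        group
      rw [this, map_mul]; rfl
    rw [e6]
    rw [hbij.prod_comp (fun x : Q => ρ (x : S) (ρ (y ^ i) a))]
    exact hQ _
  -- now combine
  have htot : ∏ x : Q, ∏ i ∈ Finset.Ico 1 r, ρ ((x : S) * y ^ i * (x : S)⁻¹) a = 1 := by
    rw [Finset.prod_comm]
    exact Finset.prod_eq_one hconj
  have hone : ∀ x : Q, ∏ i ∈ Finset.Ico 1 r, ρ ((x : S) * y ^ i * (x : S)⁻¹) a = a⁻¹ := by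
    intro x
    have e7 : ∏ i ∈ Finset.range r, ρ ((x : S) * y ^ i * (x : S)⁻¹) a = 1 := by
      have e8 : ∀ i ∈ Finset.range r, ρ ((x : S) * y ^ i * (x : S)⁻¹) a = ρ (x : S) (ρ (y ^ i) (ρ (x : S)⁻¹ a)) := by
        intro i _
        rw [map_mul, map_mul]; rfl
      rw [Finset.prod_congr rfl e8, ← map_prod, hN, map_one]
    rw [Finset.range_eq_Ico, Finset.prod_eq_prod_Ico_succ_bot hr.pos] at e7
    rw [pow_zero, mul_one, mul_inv_cancel, map_one] at e7
    exact eq_inv_of_mul_eq_one_right e7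
  rw [Finset.prod_congr rfl (fun x _ => hone x), Finset.prod_const, Finset.card_univ, ← Nat.card_eq_fintype_card,
    inv_pow, inv_eq_one] at htot
  exact h3 a htot

end Cfsg.Agent.H22
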