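import Cfsg.Agent.H22.SemiDir

set_option autoImplicit false
set_option linter.unusedSectionVars false

/-!
# The groups `K ⋊ ⟨ζ⟩`, `ζ ∈ Kˣ` (seat helper22)
-/

namespace Cfsg.Agent.H22

theorem SD.isSolvable {S A : Type*} [Group S] [AddCommGroup A] (ρ : S →* AddMonoid.End A) [Group.IsSolvable S] :
    Group.IsSolvable (SD ρ) := by
  let f : Multiplicative A →* SD ρ :=
    { toFun := fun a => ⟨a.toAdd, 1⟩
      map_one' := rfl
      map_mul' := fun a b => by
        ext
        · show a.toAdd + b.toAdd = a.toAdd + ρ 1 b.toAdd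
          rw [SD.rho_one]
        · exact (mul_one _).symm }
  refine Group.isSolvable_of_ker_le_range f (SD.toS ρ) ?_
  intro x hx
  refine ⟨Multiplicative.ofAdd x.a, ?_⟩
  ext
  · rfl
  · exact hx.symm

/-- multiplication action of a subgroup of the units -/
def mulAct {K : Type*} [Field K] (S : Subgroup Kˣ) : S →* AddMonoid.End K where
  toFun s := AddMonoidHom.mulLeft ((s : Kˣ) : K)
  map_one' := by
    ext x
    show (1 : K) * x = x
    rw [one_mul]
  map_mul' s t := by
    ext x
    show ((s : Kˣ) * (t : Kˣ) : K) * x = (s : Kˣ) * ((t : Kˣ) * x)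
    rw [mul_assoc]

theorem mulAct_apply {K : Type*} [Field K] (S : Subgroup Kˣ) (s : S) (x : K) : mulAct S s x = ((s : Kˣ) : K) * x := rfl

/-- the group `K ⋊ S` -/
abbrev FV {K : Type*} [Field K] (S : Subgroup Kˣ) : Type _ := SD (mulAct S)

theorem fv_fixed {K : Type*} [Field K] {S : Subgroup Kˣ} {s : S} {x : K} (hx : x ≠ 0) (h : mulAct S s x = x) : s = 1 := by
  rw [mulAct_apply] at h
  apply Subtype.ext
  apply Units.ext
  have : ((s : Kˣ) : K) * x = 1 * x := by rw [h, one_mul]
  exact mul_right_cancel₀ hx this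

theorem spec_fv {K : Type*} [Field K] [Finite K] (p : ℕ) [Fact p.Prime] [CharP K p] (S : Subgroup Kˣ) :
    Set.range (orderOf : FV S → ℕ) = {n : ℕ | n ∣ Nat.card S ∨ n ∣ p} := by
  have hp : p.Prime := Fact.out
  ext n
  simp only [Set.mem_range, Set.mem_ofPred_eq]
  constructor
  · rintro ⟨x, rfl⟩
    rcases SD.orderOf_cases (mulAct S) hp (fun a => by rw [nsmul_eq_mul, CharP.cast_eq_zero, zero_mul]) x with h | ⟨h, u, hu, hf⟩
    · left
      rw [h]; exact orderOf_dvd_natCard _
    · right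
      rw [fv_fixed hu hf, orderOf_one, one_mul] at h
      rw [h]
  · rintro (h | h)
    · obtain ⟨z, hz⟩ := IsCyclic.exists_ofOrder_eq_natCard (α := S)
      rw [← hz] at h
      obtain ⟨m, hm⟩ := h
      have hpos := orderOf_pos z
      have hm0 : m ≠ 0 := by rintro rfl; rw [mul_zero] at hm; omega
      refine ⟨SD.ofS (mulAct S) (z ^ m), ?_⟩
      rw [SD.orderOf_ofS, orderOf_pow' z hm0, hm, Nat.gcd_mul_left_left]
      exact Nat.mul_div_cancel _ (Nat.pos_of_ne_zero hm0)
    · rcases (Nat.dvd_prime hp).1 h with rfl | rfl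
      · exact ⟨1, orderOf_one⟩
      · refine ⟨⟨1, 1⟩, ?_⟩
        apply orderOf_eq_prime
        · rw [SD.pow_mk_one, nsmul_eq_mul, CharP.cast_eq_zero, zero_mul]; rfl
        · intro h1
          exact one_ne_zero (congrArg SD.a h1)

theorem fv_solvable {K : Type*} [Field K] (S : Subgroup Kˣ) : Group.IsSolvable (FV S) := SD.isSolvable _

/-- subgroups of the units of every order -/
theorem exists_units_subgroup {K : Type*} [Field K] [Finite K] {m : ℕ} (hm : m ∣ Nat.card K - 1) :
    ∃ S : Subgroup Kˣ, Nat.card S = m := by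
  obtain ⟨ζ, hζ⟩ := IsCyclic.exists_ofOrder_eq_natCard (α := Kˣ)
  have hc : Nat.card Kˣ = Nat.card K - 1 := by
    classical
    have := Fintype.ofFinite K
    rw [Nat.card_eq_fintype_card, Nat.card_eq_fintype_card, Fintype.card_units]
  rw [← hc, ← hζ] at hm
  obtain ⟨k, hk⟩ := hm
  have hpos := orderOf_pos ζ
  have hk0 : k ≠ 0 := by rintro rfl; rw [mul_zero] at hk; omega
  refine ⟨Subgroup.zpowers (ζ ^ k), ?_⟩
  rw [Nat.card_zpowers, orderOf_pow' ζ hk0, hk, Nat.gcd_mul_left_left]
  exact Nat.mul_div_cancel _ (Nat.pos_of_ne_zero hk0)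

end Cfsg.Agent.H22
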