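import Cfsg.Agent.H2.Dick5
import Cfsg.Agent.H14.Conj

set_option autoImplicit false

/-! Subgroups of `GL(2,p)` with a non-normal nontrivial `p`-subgroup contain a conjugate of `SL(2,p)`. -/

namespace Cfsg.Agent.H22

open Cfsg.Agent.H14 Matrix

variable {p : ℕ} [hp : Fact p.Prime]

local notation "GL2" => Matrix.GeneralLinearGroup (Fin 2) (ZMod p)
local notation "SL2" => Matrix.SpecialLinearGroup (Fin 2) (ZMod p)

/-- upper transvections -/
def T1 (c : ZMod p) : GL2 := Matrix.SpecialLinearGroup.toGL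
  (Matrix.SpecialLinearGroup.transvection (zero_ne_one (α := Fin 2)) c)
/-- lower transvections -/
def T2 (c : ZMod p) : GL2 := Matrix.SpecialLinearGroup.toGL
  (Matrix.SpecialLinearGroup.transvection (one_ne_zero (α := Fin 2)) c)

theorem T1_val (c : ZMod p) : (T1 c).1 = !![1, c; 0, 1] := by
  ext i j
  fin_cases i <;> fin_cases j <;>
    simp [T1, Matrix.SpecialLinearGroup.toGL, Matrix.SpecialLinearGroup.transvection_coe]

theorem T2_val (c : ZMod p) : (T2 c).1 = !![1, 0; c, 1] := by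
  ext i j
  fin_cases i <;> fin_cases j <;>
    simp [T2, Matrix.SpecialLinearGroup.toGL, Matrix.SpecialLinearGroup.transvection_coe]

theorem T1_add (a b : ZMod p) : T1 (a + b) = T1 a * T1 b := by
  rw [T1, Matrix.SpecialLinearGroup.transvection_add, map_mul]; rfl

theorem T2_add (a b : ZMod p) : T2 (a + b) = T2 a * T2 b := by
  rw [T2, Matrix.SpecialLinearGroup.transvection_add, map_mul]; rfl

theorem T1_zero : T1 (0 : ZMod p) = 1 := by
  rw [T1, Matrix.SpecialLinearGroup.transvection_coeff_zero, map_one]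

theorem T2_zero : T2 (0 : ZMod p) = 1 := by
  rw [T2, Matrix.SpecialLinearGroup.transvection_coeff_zero, map_one]

theorem T1_mul (a : ZMod p) (n : ℕ) : T1 ((n : ZMod p) * a) = T1 a ^ n := by
  induction n with
  | zero => rw [Nat.cast_zero, zero_mul, T1_zero, pow_zero]
  | succ n ih => rw [Nat.cast_succ, add_mul, T1_add, ih, one_mul, pow_succ]

theorem T2_mul (a : ZMod p) (n : ℕ) : T2 ((n : ZMod p) * a) = T2 a ^ n := by
  induction n with
  | zero => rw [Nat.cast_zero, zero_mul, T2_zero, pow_zero]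
  | succ n ih => rw [Nat.cast_succ, add_mul, T2_add, ih, one_mul, pow_succ]

theorem T1_ne_one : T1 (1 : ZMod p) ≠ 1 := by
  intro h
  have h1 := congrArg (fun g : GL2 => g.1 0 1) h
  simp only [T1_val] at h1
  simp at h1

theorem T1_pow_p : T1 (1 : ZMod p) ^ p = 1 := by
  rw [← T1_mul, CharP.cast_eq_zero, zero_mul, T1_zero]

theorem card_U : Nat.card (Subgroup.zpowers (T1 (1 : ZMod p))) = p := by
  rw [Nat.card_zpowers]
  exact orderOf_eq_prime T1_pow_p T1_ne_one

theorem syl_U : IsSylIn p (Subgroup.zpowers (T1 (1 : ZMod p))) ⊤ := by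
  refine ⟨le_top, IsPGroup.of_card (n := 1) (by rw [card_U, pow_one]), ?_⟩
  rw [Subgroup.relIndex_top_right]
  have h1 := (Subgroup.zpowers (T1 (1 : ZMod p))).card_mul_index
  rw [card_U, Matrix.card_GL_field, Fin.prod_univ_two, ZMod.card] at h1
  have hp1 := hp.out.one_lt
  have h2 : (p ^ 2 - p ^ ((0 : Fin 2) : ℕ)) * (p ^ 2 - p ^ ((1 : Fin 2) : ℕ)) = p * ((p ^ 2 - 1) * (p - 1)) := by
    have e : p ^ 2 - p = p * (p - 1) := by rw [Nat.mul_sub, mul_one, pow_two]
    simp only [Fin.val_zero, pow_zero, Fin.val_one, pow_one]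
    rw [e]; ring
  rw [h2] at h1
  have h3 := Nat.eq_of_mul_eq_mul_left hp.out.pos h1
  rw [h3]
  intro hd
  rcases (Nat.Prime.dvd_mul hp.out).1 hd with h4 | h4
  · have h5 : p ∣ p ^ 2 := dvd_pow_self p two_ne_zero
    have h6 : p ∣ 1 := by
      have := Nat.dvd_sub h5 h4
      have e : p ^ 2 - (p ^ 2 - 1) = 1 := by
        have : 1 ≤ p ^ 2 := Nat.one_le_pow _ _ hp.out.pos
        omega
      rwa [e] at this
    exact hp.out.one_lt.ne' (Nat.dvd_one.1 h6)
  · have := Nat.le_of_dvd (by omega) h4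
    omega

theorem T1_mem {A : Subgroup GL2} {a : ZMod p} (ha : a ≠ 0) (h : T1 a ∈ A) (c : ZMod p) : T1 c ∈ A := by
  have : c = ((c * a⁻¹).val : ZMod p) * a := by
    rw [ZMod.natCast_zmod_val]; field_simp
  rw [this, T1_mul]
  exact pow_mem h _

theorem T2_mem {A : Subgroup GL2} {a : ZMod p} (ha : a ≠ 0) (h : T2 a ∈ A) (c : ZMod p) : T2 c ∈ A := by
  have : c = ((c * a⁻¹).val : ZMod p) * a := by
    rw [ZMod.natCast_zmod_val]; field_simp
  rw [this, T2_mul]
  exact pow_mem h _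

theorem gl2_contains {A P : Subgroup GL2} (hPA : P ≤ A) (hP : IsPGroup p P) (hP1 : P ≠ ⊥)
    {h : GL2} (hh : h ∈ A) (hn : cj h P ≠ P) :
    ∃ ψ : SL2 →* GL2, Function.Injective ψ ∧ ∀ x, ψ x ∈ A := by
  obtain ⟨x, -, hx⟩ := (syl_U (p := p)).exists_cj_le (le_top : P ≤ ⊤) hP
  have hxP : cj x P = Subgroup.zpowers (T1 (1 : ZMod p)) := by
    have h1 : Nat.card (cj x P) ∣ p := by
      have h0 := Subgroup.card_dvd_of_le hx
      rwa [card_U] at h0
    rcases (Nat.dvd_prime hp.out).1 h1 with h2 | h2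
    · exfalso
      apply hP1
      rw [← cj_eq_bot (g := x)]
      exact Subgroup.card_eq_one.1 h2
    · apply Subgroup.eq_of_le_of_card_ge hx
      rw [h2, card_U]
  have h1 : x * h * x⁻¹ ∈ cj x A := conj_mem_cj.2 hh
  have h2 : cj (x * h * x⁻¹) (Subgroup.zpowers (T1 (1 : ZMod p))) ≠ Subgroup.zpowers (T1 (1 : ZMod p)) := by
    rw [← hxP, cj_cj]
    intro h3
    apply hn
    apply cj_injective x
    rw [cj_cj, ← h3]
    congr 1; group
  have hU : T1 (1 : ZMod p) ∈ cj x A := by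
    have : Subgroup.zpowers (T1 (1 : ZMod p)) ≤ cj x A := by rw [← hxP]; exact cj_mono hPA
    exact this (Subgroup.mem_zpowers _)
  generalize x * h * x⁻¹ = g at h1 h2
  -- g 1 0 ≠ 0
  have hc : g.1 1 0 ≠ 0 := by
    intro h10
    apply h2
    have hdet : g.1.det ≠ 0 := g.det_ne_zero
    rw [Matrix.det_fin_two, h10, mul_zero, sub_zero] at hdet
    have h11 : g.1 1 1 ≠ 0 := right_ne_zero_of_mul hdet
    have key : g * T1 1 = T1 (g.1 0 0 / g.1 1 1) * g := by
      apply Units.ext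
      rw [Units.val_mul, Units.val_mul, T1_val, T1_val]
      ext i j
      fin_cases i <;> fin_cases j <;>
        simp [Matrix.mul_apply, Fin.sum_univ_two, h10]
      field_simp
      ring
    have hle : cj g (Subgroup.zpowers (T1 (1 : ZMod p))) ≤ Subgroup.zpowers (T1 (1 : ZMod p)) := by
      rw [cj, MonoidHom.map_zpowers, Subgroup.zpowers_le]
      show g * T1 1 * g⁻¹ ∈ _
      rw [key, mul_inv_cancel_right]
      exact T1_mem one_ne_zero (Subgroup.mem_zpowers _) _
    exact Subgroup.eq_of_le_of_card_ge hle (by rw [card_cj])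
  -- make the upper left entry zero
  obtain ⟨k, hk⟩ : ∃ k, k = T1 (-(g.1 0 0 / g.1 1 0)) * g := ⟨_, rfl⟩
  have hkA : k ∈ cj x A := by rw [hk]; exact mul_mem (T1_mem one_ne_zero hU _) h1
  have hk00 : k.1 0 0 = 0 := by
    rw [hk, Units.val_mul, T1_val]
    simp [Matrix.mul_apply, Fin.sum_univ_two]
    field_simp
    ring
  have hdet : k.1.det ≠ 0 := k.det_ne_zero
  rw [Matrix.det_fin_two, hk00, zero_mul, zero_sub, neg_ne_zero] at hdet
  have hk01 : k.1 0 1 ≠ 0 := left_ne_zero_of_mul hdet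
  have hk10 : k.1 1 0 ≠ 0 := right_ne_zero_of_mul hdet
  have key : k * T1 1 = T2 (k.1 1 0 / k.1 0 1) * k := by
    apply Units.ext
    rw [Units.val_mul, Units.val_mul, T1_val, T2_val]
    ext i j
    fin_cases i <;> fin_cases j <;>
      simp [Matrix.mul_apply, Fin.sum_univ_two, hk00]
    field_simp
  have hT2 : T2 (k.1 1 0 / k.1 0 1) ∈ cj x A := by
    have : T2 (k.1 1 0 / k.1 0 1) = k * T1 1 * k⁻¹ := by rw [key]; group
    rw [this]
    exact mul_mem (mul_mem hkA hU) (inv_mem hkA)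
  have hT2' : T2 (1 : ZMod p) ∈ cj x A := T2_mem (div_ne_zero hk10 hk01) hT2 _
  have htop : (cj x A).comap (Matrix.SpecialLinearGroup.toGL : SL2 →* GL2) = ⊤ := by
    apply Cfsg.Agent.H2.eq_top_of_two
    · exact hU
    · exact hT2'
  refine ⟨(MulAut.conj x⁻¹).toMonoidHom.comp Matrix.SpecialLinearGroup.toGL, ?_, ?_⟩
  · exact (MulAut.conj x⁻¹).injective.comp Matrix.SpecialLinearGroup.toGL_injective
  · intro y
    have h3 : y ∈ (cj x A).comap (Matrix.SpecialLinearGroup.toGL : SL2 →* GL2) := by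
      rw [htop]; exact Subgroup.mem_top y
    have h4 := mem_cj.1 (Subgroup.mem_comap.1 h3)
    show x⁻¹ * Matrix.SpecialLinearGroup.toGL y * x⁻¹⁻¹ ∈ A
    rw [inv_inv]; exact h4

end Cfsg.Agent.H22
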