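import Mathlib
import Cfsg.Agent.H18.Basics
import Cfsg.Prelude.Def_PLocal

set_option autoImplicit false

/-! Polynomial sequences (Lazard, Leibman) and the Hall–Petrescu formula. -/

namespace Cfsg.Agent.H22.HP

universe u
variable {G : Type u} [Group G]

/-- A filtration. -/
structure Filt (F : ℕ → Subgroup G) : Prop where
  anti : ∀ i, F (i + 1) ≤ F i
  comm : ∀ i j, ∀ a ∈ F i, ∀ b ∈ F j, a * b * a⁻¹ * b⁻¹ ∈ F (i + j)

theorem Filt.mono {F : ℕ → Subgroup G} (hF : Filt F) {i j : ℕ} (h : i ≤ j) : F j ≤ F i := by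
  induction j, h using Nat.le_induction with
  | base => exact le_rfl
  | succ j _ ih => exact (hF.anti j).trans ih

/-- The shift. -/
def T (f : ℕ → G) : ℕ → G := fun n => f (n + 1)

theorem T_mul (f g : ℕ → G) : T (f * g) = T f * T g := rfl
theorem T_inv (f : ℕ → G) : T (f⁻¹) = (T f)⁻¹ := rfl

/-- Polynomial sequences. -/
def P (F : ℕ → Subgroup G) : ℕ → ℕ → Set (ℕ → G)
  | 0, k => {f | ∀ n, f n ∈ F k}
  | m + 1, k => {f | (∀ n, f n ∈ F k) ∧ T f * f⁻¹ ∈ P F m (k + 1)}

variable {F : ℕ → Subgroup G}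

theorem P_val {m k : ℕ} {f : ℕ → G} (hf : f ∈ P F m k) (n : ℕ) : f n ∈ F k := by
  cases m with
  | zero => exact hf n
  | succ m => exact hf.1 n

theorem P_pred (m : ℕ) : ∀ {k : ℕ} {f : ℕ → G}, f ∈ P F (m + 1) k → f ∈ P F m k := by
  induction m with
  | zero => intro k f hf; exact hf.1
  | succ m ih => intro k f hf; exact ⟨hf.1, ih hf.2⟩

theorem P_anti (hF : Filt F) (m : ℕ) : ∀ {k : ℕ} {f : ℕ → G}, f ∈ P F m (k + 1) → f ∈ P F m k := by
  induction m with
  | zero => intro k f hf n; exact hF.anti k (hf n)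
  | succ m ih => intro k f hf; exact ⟨fun n => hF.anti k (hf.1 n), ih hf.2⟩

theorem P_mono (hF : Filt F) {m i j : ℕ} (h : i ≤ j) {f : ℕ → G} (hf : f ∈ P F m j) : f ∈ P F m i := by
  induction j, h using Nat.le_induction with
  | base => exact hf
  | succ j _ ih => exact ih (P_anti hF m hf)

theorem P_one (m k : ℕ) : (1 : ℕ → G) ∈ P F m k := by
  induction m generalizing k with
  | zero => intro n; exact one_mem _
  | succ m ih =>
    refine ⟨fun n => one_mem _, ?_⟩
    have : T (1 : ℕ → G) * (1 : ℕ → G)⁻¹ = 1 := by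
      funext n
      show (1 : G) * 1⁻¹ = 1
      rw [inv_one, mul_one]
    rw [this]
    exact ih (k + 1)

theorem P_main (hF : Filt F) (m : ℕ) :
    (∀ k (f g : ℕ → G), f ∈ P F m k → g ∈ P F m k → f * g ∈ P F m k) ∧
    (∀ k (f : ℕ → G), f ∈ P F m k → f⁻¹ ∈ P F m k) ∧
    (∀ i j (f g : ℕ → G), f ∈ P F m i → g ∈ P F m j → f * g * f⁻¹ * g⁻¹ ∈ P F m (i + j)) := by
  induction m with
  | zero =>
    exact ⟨fun k f g hf hg n => mul_mem (hf n) (hg n), fun k f hf n => inv_mem (hf n),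
      fun i j f g hf hg n => hF.comm i j _ (hf n) _ (hg n)⟩
  | succ m ih =>
    obtain ⟨hmul, hinv, hcomm⟩ := ih
    have hconj : ∀ k (f g : ℕ → G), f ∈ P F m 0 → g ∈ P F m k → f * g * f⁻¹ ∈ P F m k := by
      intro k f g hf hg
      have h1 := hmul _ _ _ (P_mono hF (by omega) (hcomm 0 k f g hf hg)) hg
      rwa [inv_mul_cancel_right] at h1
    refine ⟨?_, ?_, ?_⟩
    · intro k f g hf hg
      refine ⟨fun n => mul_mem (hf.1 n) (hg.1 n), ?_⟩
      have e : T (f * g) * (f * g)⁻¹ = (T f * f⁻¹) * (f * (T g * g⁻¹) * f⁻¹) := by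
        rw [T_mul]; group
      rw [e]
      exact hmul _ _ _ hf.2 (hconj _ _ _ (P_mono hF (Nat.zero_le k) (P_pred m hf)) hg.2)
    · intro k f hf
      refine ⟨fun n => inv_mem (hf.1 n), ?_⟩
      have e : T (f⁻¹) * (f⁻¹)⁻¹ = f⁻¹ * (T f * f⁻¹)⁻¹ * (f⁻¹)⁻¹ := by
        rw [T_inv]; group
      rw [e]
      exact hconj _ _ _ (P_mono hF (Nat.zero_le k) (hinv _ _ (P_pred m hf))) (hinv _ _ hf.2)
    · intro i j f g hf hg
      refine ⟨fun n => hF.comm i j _ (hf.1 n) _ (hg.1 n), ?_⟩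
      obtain ⟨D, hD⟩ : ∃ D, D = T f * f⁻¹ := ⟨_, rfl⟩
      obtain ⟨E, hE⟩ : ∃ E, E = T g * g⁻¹ := ⟨_, rfl⟩
      obtain ⟨C, hC⟩ : ∃ C, C = f * g * f⁻¹ * g⁻¹ := ⟨_, rfl⟩
      have hDm : D ∈ P F m (i + 1) := by rw [hD]; exact hf.2
      have hEm : E ∈ P F m (j + 1) := by rw [hE]; exact hg.2
      have hfm := P_pred m hf
      have hgm := P_pred m hg
      have hCm : C ∈ P F m (i + j) := by rw [hC]; exact hcomm i j f g hfm hgm
      have hD0 : D ∈ P F m 0 := P_mono hF (by omega) hDm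
      have hE0 : E ∈ P F m 0 := P_mono hF (by omega) hEm
      have hC0 : C ∈ P F m 0 := P_mono hF (by omega) hCm
      have hX : f * E * f⁻¹ * E⁻¹ ∈ P F m (i + j + 1) := P_mono hF (by omega) (hcomm i (j + 1) f E hfm hEm)
      have hY : D * E * D⁻¹ * E⁻¹ ∈ P F m (i + j + 1) := P_mono hF (by omega) (hcomm (i + 1) (j + 1) D E hDm hEm)
      have hZ : D * g * D⁻¹ * g⁻¹ ∈ P F m (i + j + 1) := P_mono hF (by omega) (hcomm (i + 1) j D g hDm hgm)
      have hDE : D * E ∈ P F m 1 := hmul _ _ _ (P_mono hF (by omega) hDm) (P_mono hF (by omega) hEm)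
      have hW : (D * E) * C * (D * E)⁻¹ * C⁻¹ ∈ P F m (i + j + 1) :=
        P_mono hF (by omega) (hcomm 1 (i + j) (D * E) C hDE hCm)
      have hTf : T f = D * f := by rw [hD, inv_mul_cancel_right]
      have hTg : T g = E * g := by rw [hE, inv_mul_cancel_right]
      have e : T (f * g * f⁻¹ * g⁻¹) * (f * g * f⁻¹ * g⁻¹)⁻¹ =
          (D * (f * E * f⁻¹ * E⁻¹) * D⁻¹) * ((D * E) * C * (D * E)⁻¹ * C⁻¹) *
            (C * (D * E * D⁻¹ * E⁻¹) * C⁻¹) * ((C * E) * (D * g * D⁻¹ * g⁻¹) * (C * E)⁻¹) := by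
        rw [T_mul, T_mul, T_mul, T_inv, T_inv, hTf, hTg, ← hC]
        have : (D * f) * (E * g) * (D * f)⁻¹ * (E * g)⁻¹ =
            D * (f * E * f⁻¹ * E⁻¹) * D⁻¹ * (D * E * (f * g * f⁻¹ * g⁻¹) * (D * E)⁻¹) * (D * E * D⁻¹ * E⁻¹) *
              (E * (D * g * D⁻¹ * g⁻¹) * E⁻¹) := by group
        rw [this, ← hC]
        group
      rw [e]
      exact hmul _ _ _ (hmul _ _ _ (hmul _ _ _ (hconj _ _ _ hD0 hX) hW) (hconj _ _ _ hC0 hY))
        (hconj _ _ _ (hmul _ _ _ hC0 hE0) hZ)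

theorem P_mul (hF : Filt F) {m k : ℕ} {f g : ℕ → G} (hf : f ∈ P F m k) (hg : g ∈ P F m k) : f * g ∈ P F m k :=
  (P_main hF m).1 k f g hf hg

theorem P_inv (hF : Filt F) {m k : ℕ} {f : ℕ → G} (hf : f ∈ P F m k) : f⁻¹ ∈ P F m k :=
  (P_main hF m).2.1 k f hf

theorem P_pow (hF : Filt F) (m : ℕ) : ∀ (k i : ℕ) (g : G), g ∈ F (k + i) → (fun n : ℕ => g ^ n.choose i) ∈ P F m k := by
  induction m with
  | zero => intro k i g hg n; exact pow_mem (hF.mono (Nat.le_add_right k i) hg) _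
  | succ m ih =>
    intro k i g hg
    refine ⟨fun n => pow_mem (hF.mono (Nat.le_add_right k i) hg) _, ?_⟩
    cases i with
    | zero =>
      have : T (fun n : ℕ => g ^ n.choose 0) * (fun n : ℕ => g ^ n.choose 0)⁻¹ = 1 := by
        funext n
        show g ^ (n + 1).choose 0 * (g ^ n.choose 0)⁻¹ = 1
        rw [Nat.choose_zero_right, Nat.choose_zero_right, mul_inv_cancel]
      rw [this]
      exact P_one _ _
    | succ i =>
      have : T (fun n : ℕ => g ^ n.choose (i + 1)) * (fun n : ℕ => g ^ n.choose (i + 1))⁻¹ =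
          fun n : ℕ => g ^ n.choose i := by
        funext n
        show g ^ (n + 1).choose (i + 1) * (g ^ n.choose (i + 1))⁻¹ = g ^ n.choose i
        rw [Nat.choose_succ_succ, pow_add, mul_inv_cancel_right]
      rw [this]
      apply ih
      rw [show k + 1 + i = k + (i + 1) by ring]
      exact hg

theorem P_first (j : ℕ) : ∀ (k : ℕ) (h : ℕ → G), h ∈ P F j k → (∀ n < j, h n = 1) → h j ∈ F (k + j) := by
  induction j with
  | zero => intro k h hh _; exact hh 0
  | succ j ih =>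
    intro k h hh h1
    have h2 := ih (k + 1) _ hh.2 (fun n hn => by
      show h (n + 1) * (h n)⁻¹ = 1
      rw [h1 _ (by omega), h1 _ (by omega), mul_inv_cancel])
    have h3 : (T h * h⁻¹) j = h (j + 1) := by
      show h (j + 1) * (h j)⁻¹ = _
      rw [h1 j (by omega), inv_one, mul_one]
    rw [h3, show k + 1 + j = k + (j + 1) by ring] at h2
    exact h2

/-- the ordered product of the `g j ^ choose n j` -/
def pr (g : ℕ → G) (n : ℕ) : ℕ → G
  | 0 => 1
  | j + 1 => pr g n j * g j ^ n.choose j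

theorem pr_congr {g g' : ℕ → G} {n j : ℕ} (h : ∀ i < j, g i = g' i) : pr g n j = pr g' n j := by
  induction j with
  | zero => rfl
  | succ j ih =>
    show pr g n j * g j ^ n.choose j = pr g' n j * g' j ^ n.choose j
    rw [ih (fun i hi => h i (by omega)), h j (by omega)]

theorem pr_P (hF : Filt F) {g : ℕ → G} {m j : ℕ} (h : ∀ i < j, g i ∈ F i) : (fun n => pr g n j) ∈ P F m 0 := by
  induction j with
  | zero => exact P_one m 0
  | succ j ih =>
    have h1 := ih (fun i hi => h i (by omega))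
    have h2 := P_pow hF m 0 j (g j) (by rw [zero_add]; exact h j (by omega))
    exact P_mul hF h1 h2

/-- Taylor expansion of a polynomial sequence. -/
theorem taylor (hF : Filt F) {f : ℕ → G} (hf : ∀ m, f ∈ P F m 0) (j0 : ℕ) (h0 : ∀ n < j0, f n = 1) (j : ℕ) (hj : j0 ≤ j) :
    ∃ g : ℕ → G, (∀ i, g i ∈ F i) ∧ (∀ i < j0, g i = 1) ∧ ∀ n < j, f n = pr g n j := by
  induction j, hj using Nat.le_induction with
  | base =>
    refine ⟨fun _ => 1, fun i => one_mem _, fun _ _ => rfl, fun n hn => ?_⟩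
    rw [h0 n hn]
    have : ∀ j, pr (fun _ => (1 : G)) n j = 1 := by
      intro j
      induction j with
      | zero => rfl
      | succ j ih => show pr (fun _ => (1 : G)) n j * 1 ^ _ = 1; rw [ih, one_pow, mul_one]
    rw [this]
  | succ j hj ih =>
    obtain ⟨g, hg1, hg2, hg3⟩ := ih
    obtain ⟨h, hh⟩ : ∃ h : ℕ → G, h = (fun n => pr g n j)⁻¹ * f := ⟨_, rfl⟩
    have hhP : ∀ m, h ∈ P F m 0 := fun m => by
      rw [hh]; exact P_mul hF (P_inv hF (pr_P hF fun i _ => hg1 i)) (hf m)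
    have hhn : ∀ n, h n = (pr g n j)⁻¹ * f n := fun n => by rw [hh]; rfl
    have hj1 : ∀ n < j, h n = 1 := fun n hn => by rw [hhn, hg3 n hn, inv_mul_cancel]
    have hjF : h j ∈ F j := by
      have := P_first j 0 h (hhP j) hj1
      rwa [zero_add] at this
    refine ⟨Function.update g j (h j), ?_, ?_, ?_⟩
    · intro i
      by_cases hij : i = j
      · subst hij; rw [Function.update_self]; exact hjF
      · rw [Function.update_of_ne hij]; exact hg1 i
    · intro i hi
      rw [Function.update_of_ne (by omega)]; exact hg2 i hi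
    · intro n hn
      show f n = pr (Function.update g j (h j)) n j * (Function.update g j (h j)) j ^ n.choose j
      rw [Function.update_self, pr_congr (g' := g) (fun i hi => Function.update_of_ne (by omega) _ _)]
      rcases Nat.lt_or_ge n j with hlt | hge
      · rw [Nat.choose_eq_zero_of_lt hlt, pow_zero, mul_one]; exact hg3 n hlt
      · have : n = j := by omega
        subst this
        rw [Nat.choose_self, pow_one, hhn, mul_inv_cancel_left]

theorem taylor' (hF : Filt F) {f : ℕ → G} (hf : ∀ m, f ∈ P F m 0) (j0 : ℕ) (h0 : ∀ n < j0, f n = 1) (s : ℕ) (hs : j0 ≤ s)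
    (hbot : F s = ⊥) :
    ∃ g : ℕ → G, (∀ i, g i ∈ F i) ∧ (∀ i < j0, g i = 1) ∧ ∀ n, f n = pr g n s := by
  obtain ⟨g, hg1, hg2, hg3⟩ := taylor hF hf j0 h0 s hs
  refine ⟨g, hg1, hg2, ?_⟩
  obtain ⟨h, hh⟩ : ∃ h : ℕ → G, h = (fun n => pr g n s)⁻¹ * f := ⟨_, rfl⟩
  have hhP : ∀ m, h ∈ P F m 0 := fun m => by
    rw [hh]; exact P_mul hF (P_inv hF (pr_P hF fun i _ => hg1 i)) (hf m)
  have hhn : ∀ n, h n = (pr g n s)⁻¹ * f n := fun n => by rw [hh]; rfl
  have key : ∀ n, h n = 1 := by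
    intro n
    induction n using Nat.strong_induction_on with
    | _ n ih =>
      rcases Nat.lt_or_ge n s with hlt | hge
      · rw [hhn, hg3 n hlt, inv_mul_cancel]
      · have := P_first n 0 h (hhP n) ih
        rw [zero_add] at this
        have h2 := hF.mono hge this
        rw [hbot] at h2
        exact Subgroup.mem_bot.mp h2
  intro n
  have := key n
  rw [hhn] at this
  exact (inv_mul_eq_one.mp this).symm

/-- `[γ_i, γ_j] ≤ γ_{i+j}`. -/
theorem lcs_comm (H : Subgroup G) (j : ℕ) : ∀ i, ⁅H.lowerCentralSeries i, H.lowerCentralSeries j⁆ ≤ H.lowerCentralSeries (i + j + 1) := by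
  induction j with
  | zero => intro i; exact le_rfl
  | succ j ih =>
    intro i
    have hle : ∀ k, H.lowerCentralSeries k ≤ H := fun k => by
      have := H.lowerCentralSeries_antitone (Nat.zero_le k)
      exact this
    have hn : ∀ k, H.lowerCentralSeries k ≤ Subgroup.normalizer (H.lowerCentralSeries (i + (j + 1) + 1) : Set G) :=
      fun k => (hle k).trans (H.self_le_normalizer_lowerCentralSeries _)
    have h1 : H.lowerCentralSeries (j + 1) = ⁅H.lowerCentralSeries j, H⁆ := rfl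
    rw [Subgroup.commutator_comm, h1]
    refine H18.three_subgroups_le (hn j) (H.self_le_normalizer_lowerCentralSeries _) (hn i) ?_ ?_
    · rw [Subgroup.commutator_comm H]
      have h2 := ih (i + 1)
      rw [show i + 1 + j + 1 = i + (j + 1) + 1 by ring] at h2
      exact h2
    · exact Subgroup.commutator_mono (ih i) le_rfl

/-- The lower central filtration `H, H, γ_2, γ_3, …`. -/
def lcsF (H : Subgroup G) : ℕ → Subgroup G
  | 0 => H
  | i + 1 => H.lowerCentralSeries i

theorem lcsF_filt (H : Subgroup G) : Filt (lcsF H) where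
  anti := by
    intro i
    cases i with
    | zero => exact le_rfl
    | succ i => exact H.lowerCentralSeries_antitone (Nat.le_succ i)
  comm := by
    have key : ∀ A B C : Subgroup G, ⁅A, B⁆ ≤ C → ∀ a ∈ A, ∀ b ∈ B, a * b * a⁻¹ * b⁻¹ ∈ C := by
      intro A B C h a ha b hb
      exact h (Subgroup.commutator_mem_commutator ha hb)
    intro i j
    rcases i with _ | i
    · rcases j with _ | j
      · exact key _ _ _ (Subgroup.commutator_le_self H)
      · apply key
        rw [zero_add, Subgroup.commutator_comm]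
        exact H.lowerCentralSeries_antitone (Nat.le_succ j)
    · rcases j with _ | j
      · exact key _ _ _ (H.lowerCentralSeries_antitone (Nat.le_succ i))
      · apply key
        have := lcs_comm H j i
        have e : i + 1 + (j + 1) = (i + j + 1) + 1 := by ring
        rw [e]
        exact this

/-- Hall–Petrescu: for `a, b ∈ H`, with `γ_s(H) = 1`, `(ab)^n = a^n b^n ∏_{2 ≤ j < s} c_j ^ choose n j`, `c_j ∈ γ_j(H)`. -/
theorem hall_petrescu {H : Subgroup G} {a b : G} (ha : a ∈ H) (hb : b ∈ H) (s : ℕ) (hs : 1 ≤ s) (hbot : H.lowerCentralSeries s = ⊥) :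
    ∃ g : ℕ → G, (∀ i, g (i + 1) ∈ H.lowerCentralSeries i) ∧ (∀ i < 2, g i = 1) ∧
      ∀ n, (a * b) ^ n = a ^ n * b ^ n * pr g n (s + 1) := by
  have hF := lcsF_filt H
  have hx : ∀ x ∈ H, ∀ m, (fun n : ℕ => x ^ n) ∈ P (lcsF H) m 0 := by
    intro x hx m
    have := P_pow hF m 0 1 x hx
    have e : (fun n : ℕ => x ^ n.choose 1) = fun n : ℕ => x ^ n := by
      funext n; rw [Nat.choose_one_right]
    rwa [e] at this
  have hf : ∀ m, (fun n : ℕ => b ^ n)⁻¹ * ((fun n : ℕ => a ^ n)⁻¹ * fun n : ℕ => (a * b) ^ n) ∈ P (lcsF H) m 0 := fun m =>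
    P_mul hF (P_inv hF (hx b hb m)) (P_mul hF (P_inv hF (hx a ha m)) (hx _ (mul_mem ha hb) m))
  obtain ⟨g, hg1, hg2, hg3⟩ := taylor' hF hf 2 (by
    intro n hn
    show (b ^ n)⁻¹ * ((a ^ n)⁻¹ * (a * b) ^ n) = 1
    have : n = 0 ∨ n = 1 := by omega
    rcases this with rfl | rfl
    · simp
    · simp) (s + 1) (by omega) hbot
  refine ⟨g, fun i => hg1 (i + 1), hg2, fun n => ?_⟩
  rw [← hg3 n]
  show _ = a ^ n * b ^ n * ((b ^ n)⁻¹ * ((a ^ n)⁻¹ * (a * b) ^ n))
  group

theorem dvd_choose_pow {p k j : ℕ} (hp : p.Prime) (hj : 0 < j) (hjp : j < p) : p ^ k ∣ (p ^ k).choose j := by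
  obtain ⟨j', rfl⟩ : ∃ j', j = j' + 1 := ⟨j - 1, by omega⟩
  obtain ⟨q, hq⟩ : ∃ q, p ^ k = q + 1 := ⟨p ^ k - 1, by have := Nat.pow_pos (n := k) hp.pos; omega⟩
  have h1 := Nat.add_one_mul_choose_eq q j'
  have h2 : p ^ k ∣ (p ^ k).choose (j' + 1) * (j' + 1) := by
    rw [hq]
    exact ⟨_, h1.symm⟩
  have h3 : (p ^ k).Coprime (j' + 1) := by
    apply Nat.Coprime.pow_left
    rw [hp.coprime_iff_not_dvd]
    intro h
    exact absurd (Nat.le_of_dvd hj h) (by omega)
  exact h3.dvd_of_dvd_mul_right h2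

/-- A `p`-group of class less than `p` is regular. -/
theorem regular_of_class {p : ℕ} [hp : Fact p.Prime] (hG : IsPGroup p G)
    (hcl : (⊤ : Subgroup G).lowerCentralSeries (p - 1) = ⊥) : Cfsg.IsRegularPGroup p G := by
  refine ⟨hG, fun a b n => ?_⟩
  obtain ⟨H, hH⟩ : ∃ H : Subgroup G, H = Subgroup.closure ({a, b} : Set G) := ⟨_, rfl⟩
  rw [← hH]
  have ha : a ∈ H := by rw [hH]; exact Subgroup.subset_closure (by simp)
  have hb : b ∈ H := by rw [hH]; exact Subgroup.subset_closure (by simp)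
  have hmono : ∀ k, H.lowerCentralSeries k ≤ (⊤ : Subgroup G).lowerCentralSeries k := by
    intro k
    induction k with
    | zero => exact le_top
    | succ k ih => exact Subgroup.commutator_mono ih le_top
  have hp2 := hp.out.two_le
  obtain ⟨g, hg1, hg2, hg3⟩ := hall_petrescu ha hb (p - 1) (by omega) (by rw [eq_bot_iff, ← hcl]; exact hmono _)
  refine ⟨_, ?_, hg3 (p ^ n)⟩
  rw [show p - 1 + 1 = p by omega]
  have key : ∀ j ≤ p, pr g (p ^ n) j ∈ Cfsg.powerClosure p n ⁅H, H⁆ := by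
    intro j
    induction j with
    | zero => intro _; exact one_mem _
    | succ j ih =>
      intro hj
      refine mul_mem (ih (by omega)) ?_
      rcases Nat.lt_or_ge j 2 with h2 | h2
      · rw [hg2 j h2, one_pow]; exact one_mem _
      · obtain ⟨i, rfl⟩ : ∃ i, j = i + 1 := ⟨j - 1, by omega⟩
        obtain ⟨c, hc⟩ := dvd_choose_pow (k := n) hp.out (show 0 < i + 1 by omega) (by omega)
        rw [hc, mul_comm, pow_mul]
        apply Subgroup.subset_closure
        refine ⟨g (i + 1) ^ c, pow_mem ?_ _, rfl⟩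
        have : H.lowerCentralSeries i ≤ H.lowerCentralSeries 1 := H.lowerCentralSeries_antitone (by omega)
        exact this (hg1 i)
  exact key p le_rfl

end Cfsg.Agent.H22.HP
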