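import Mathlib

set_option autoImplicit false
set_option linter.all false

/-! Fast kernel arithmetic for 7 x 7 matrices over the integers mod 11, packed into natural numbers
(base `2 ^ 20`, Kronecker substitution). -/

namespace Cfsg.Agent.H22.J1

/-- force the evaluation of a natural number -/
def frc {α : Type*} (n : ℕ) (f : ℕ → α) : α := Nat.rec (motive := fun _ => α) (f 0) (fun k _ => f (Nat.succ k)) n

theorem frc_eq {α : Type*} (n : ℕ) (f : ℕ → α) : frc n f = f n := by cases n <;> rfl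

def mask : ℕ := 613955368231666044343875814621903676771539545159918159966680150223443309101640845013085417208406238698594091652063735322600433538408065776132396114016408194872489836079538607936959175480145650187765936391312102733031768085643647762573005417247789736972078220176757855939879509068497497882687
def colm : ℕ := 7687689901136609905900397148992792005224593714676466511956871794350777369520623378046199278912624254017379829119682499771930997542494648678220377859454037483919293518099108537138125443965970303916660702259394701016420067967839881238339610256528040132818763775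
def rowm : ℕ := 1393796574908163946345982392040522594123775

def red (x : ℕ) : ℕ := frc x fun x => Nat.sub x (Nat.mul 11 (Nat.land (Nat.shiftRight (Nat.mul x 745) 13) mask))

def mul (A B : ℕ) : ℕ := frc A fun A => frc B fun B =>
  red (Nat.add (Nat.mul (Nat.land A colm) (Nat.land B rowm))
    (Nat.add (Nat.mul (Nat.land (Nat.shiftRight A 20) colm) (Nat.land (Nat.shiftRight B 140) rowm))
    (Nat.add (Nat.mul (Nat.land (Nat.shiftRight A 40) colm) (Nat.land (Nat.shiftRight B 280) rowm))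
    (Nat.add (Nat.mul (Nat.land (Nat.shiftRight A 60) colm) (Nat.land (Nat.shiftRight B 420) rowm))
    (Nat.add (Nat.mul (Nat.land (Nat.shiftRight A 80) colm) (Nat.land (Nat.shiftRight B 560) rowm))
    (Nat.add (Nat.mul (Nat.land (Nat.shiftRight A 100) colm) (Nat.land (Nat.shiftRight B 700) rowm))
    (Nat.mul (Nat.land (Nat.shiftRight A 120) colm) (Nat.land (Nat.shiftRight B 840) rowm))))))))

/-- packing -/
def pk (d : ℕ → ℕ) (N : ℕ) : ℕ := ∑ n ∈ Finset.range N, d n * 2 ^ (20 * n)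

theorem pk_succ (d : ℕ → ℕ) (N : ℕ) : pk d (N + 1) = 2 ^ 20 * pk (fun n => d (n + 1)) N + d 0 := by
  unfold pk
  rw [Finset.sum_range_succ', Finset.mul_sum]
  simp only [mul_zero, pow_zero, mul_one, Nat.add_right_cancel_iff]
  refine Finset.sum_congr rfl fun n _ => ?_
  rw [mul_add, pow_add]; ring

theorem testBit_pk (N : ℕ) : ∀ (d : ℕ → ℕ) (hd : ∀ n < N, d n < 2 ^ 20) (n b : ℕ) (hb : b < 20),
    (pk d N).testBit (20 * n + b) = (decide (n < N) && (d n).testBit b) := by
  induction N with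
  | zero => intro d hd n b hb; simp [pk]
  | succ N ih =>
    intro d hd n b hb
    rw [pk_succ, Nat.testBit_two_pow_mul_add _ (hd 0 (Nat.succ_pos _))]
    rcases n with _ | n
    · simp [hb]
    · rw [if_neg (by omega)]
      have : 20 * (n + 1) + b - 20 = 20 * n + b := by omega
      rw [this, ih _ (fun m hm => hd _ (Nat.succ_lt_succ hm)) n b hb]
      simp

def dg (x n : ℕ) : ℕ := (x >>> (20 * n)) % 2 ^ 20

theorem testBit_dg (x n b : ℕ) (hb : b < 20) : (dg x n).testBit b = x.testBit (20 * n + b) := by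
  unfold dg
  rw [Nat.testBit_mod_two_pow, Nat.testBit_shiftRight]
  simp [hb]

theorem dg_lt (x n : ℕ) : dg x n < 2 ^ 20 := Nat.mod_lt _ (by positivity)

theorem eq_of_dg {x y : ℕ} (h : ∀ n b, b < 20 → x.testBit (20 * n + b) = y.testBit (20 * n + b)) : x = y := by
  apply Nat.eq_of_testBit_eq
  intro i
  have := h (i / 20) (i % 20) (Nat.mod_lt _ (by norm_num))
  rwa [Nat.div_add_mod] at this

theorem eq_of_lt_testBit {x y : ℕ} (hx : x < 2 ^ 20) (hy : y < 2 ^ 20) (h : ∀ b < 20, x.testBit b = y.testBit b) : x = y := by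
  apply Nat.eq_of_testBit_eq
  intro i
  by_cases hi : i < 20
  · exact h i hi
  · have h1 : 2 ^ 20 ≤ 2 ^ i := Nat.pow_le_pow_right (by norm_num) (by omega)
    rw [Nat.testBit_lt_two_pow (hx.trans_le h1), Nat.testBit_lt_two_pow (hy.trans_le h1)]

theorem dg_pk {N : ℕ} {d : ℕ → ℕ} (hd : ∀ n < N, d n < 2 ^ 20) (n : ℕ) : dg (pk d N) n = if n < N then d n else 0 := by
  apply eq_of_lt_testBit (dg_lt _ _)
  · split_ifs with h
    · exact hd n h
    · positivity
  · intro b hb
    rw [testBit_dg _ _ _ hb, testBit_pk N d hd n b hb]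
    split_ifs with h <;> simp [h]

theorem dg_shift (x n k : ℕ) : dg (x >>> (20 * k)) n = dg x (n + k) := by
  unfold dg
  rw [← Nat.shiftRight_add]
  congr 2
  ring

theorem land_pk (y : ℕ) {m : ℕ → ℕ} {N : ℕ} (hm : ∀ n < N, m n < 2 ^ 20) : y &&& pk m N = pk (fun n => dg y n &&& m n) N := by
  apply eq_of_dg
  intro n b hb
  have h1 : ∀ n < N, (dg y n &&& m n) < 2 ^ 20 := fun n _ => lt_of_le_of_lt Nat.and_le_left (dg_lt _ _)
  rw [Nat.testBit_and, testBit_pk N m hm n b hb, testBit_pk N _ h1 n b hb, Nat.testBit_and, testBit_dg _ _ _ hb]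
  cases decide (n < N) <;> simp

theorem pk_congr {d e : ℕ → ℕ} {N : ℕ} (h : ∀ n < N, d n = e n) : pk d N = pk e N :=
  Finset.sum_congr rfl fun n hn => by rw [h n (Finset.mem_range.mp hn)]

theorem pk_mul_const (d : ℕ → ℕ) (N c : ℕ) : pk d N * c = pk (fun n => c * d n) N := by
  unfold pk
  rw [Finset.sum_mul]
  exact Finset.sum_congr rfl fun n _ => by ring

theorem pk_add (d e : ℕ → ℕ) (N : ℕ) : pk d N + pk e N = pk (fun n => d n + e n) N := by
  unfold pk
  rw [← Finset.sum_add_distrib]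
  exact Finset.sum_congr rfl fun n _ => by ring

theorem mask_eq : mask = pk (fun _ => 63) 49 := by
  unfold mask pk; decide +kernel

theorem colm_eq : colm = pk (fun n => if n % 7 = 0 then 2 ^ 20 - 1 else 0) 49 := by
  unfold colm pk; decide +kernel

theorem rowm_eq : rowm = pk (fun _ => 2 ^ 20 - 1) 7 := by
  unfold rowm pk; decide +kernel

theorem red_pk {d : ℕ → ℕ} (hd : ∀ n < 49, d n ≤ 700) : red (pk d 49) = pk (fun n => d n % 11) 49 := by
  unfold red
  rw [frc_eq]
  show pk d 49 - 11 * (((pk d 49 * 745) >>> 13) &&& mask) = _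
  rw [mask_eq, land_pk _ (fun n _ => by norm_num), pk_mul_const]
  have h1 : ∀ n < 49, (dg (pk (fun n => 745 * d n) 49 >>> 13) n &&& 63) = d n / 11 := by
    intro n hn
    have hdn := hd n hn
    have h745 : ∀ m < 49, 745 * d m < 2 ^ 20 := fun m hm => by have := hd m hm; omega
    have h2 : d n / 11 = (745 * d n) / 2 ^ 13 := by omega
    have h3 : (745 * d n) / 2 ^ 13 < 2 ^ 6 := by omega
    rw [h2]
    apply Nat.eq_of_testBit_eq
    intro b
    have h63 : (63 : ℕ) = 2 ^ 6 - 1 := by norm_num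
    rw [Nat.testBit_and, h63, Nat.testBit_two_pow_sub_one]
    by_cases hb : b < 6
    · rw [testBit_dg _ _ _ (by omega), Nat.testBit_shiftRight]
      have e1 : 13 + (20 * n + b) = 20 * n + (b + 13) := by ring
      rw [e1, testBit_pk 49 _ h745 n _ (by omega), Nat.testBit_div_two_pow]
      simp [hn, hb]
    · have h4 : (745 * d n) / 2 ^ 13 < 2 ^ b := h3.trans_le (Nat.pow_le_pow_right (by norm_num) (by omega))
      rw [Nat.testBit_lt_two_pow h4]
      simp [hb]
  rw [pk_congr h1]
  have h5 : pk d 49 = pk (fun n => d n % 11) 49 + 11 * pk (fun n => d n / 11) 49 := by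
    rw [mul_comm 11, pk_mul_const, pk_add]
    exact pk_congr fun n _ => (Nat.mod_add_div _ _).symm
  rw [h5, Nat.add_sub_cancel]

theorem sum_blocks (f : ℕ → ℕ) (m : ℕ) : ∑ n ∈ Finset.range (7 * m), f n = ∑ i ∈ Finset.range m, ∑ j ∈ Finset.range 7, f (7 * i + j) := by
  induction m with
  | zero => simp
  | succ m ih =>
    rw [mul_add, mul_one, Finset.sum_range_add, ih]
    exact (Finset.sum_range_succ (fun i => ∑ j ∈ Finset.range 7, f (7 * i + j)) m).symm

theorem sum_blocks49 (f : ℕ → ℕ) : ∑ n ∈ Finset.range 49, f n = ∑ i ∈ Finset.range 7, ∑ j ∈ Finset.range 7, f (7 * i + j) :=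
  sum_blocks f 7

theorem land_all {x : ℕ} (hx : x < 2 ^ 20) : x &&& (2 ^ 20 - 1) = x := by
  rw [Nat.and_two_pow_sub_one_eq_mod, Nat.mod_eq_of_lt hx]

theorem col_eq {a : ℕ → ℕ} (ha : ∀ n < 49, a n < 2 ^ 20) {k : ℕ} (hk : k < 7) :
    (pk a 49 >>> (20 * k)) &&& colm = ∑ i ∈ Finset.range 7, a (7 * i + k) * 2 ^ (140 * i) := by
  rw [colm_eq, land_pk _ (fun n _ => by split_ifs <;> norm_num)]
  have h0 : pk (fun n => dg (pk a 49 >>> (20 * k)) n &&& if n % 7 = 0 then 2 ^ 20 - 1 else 0) 49 = _ := sum_blocks49 _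
  rw [h0]
  refine Finset.sum_congr rfl fun i hi => ?_
  rw [Finset.mem_range] at hi
  rw [Finset.sum_eq_single 0]
  · beta_reduce
    rw [add_zero, if_pos (by omega), dg_shift]
    have h1 := dg_pk ha (7 * i + k)
    have e : 20 * (7 * i) = 140 * i := by ring
    rw [h1, if_pos (by omega), land_all (ha _ (by omega)), e]
  · intro j hj hj0
    rw [Finset.mem_range] at hj
    beta_reduce
    rw [if_neg (by omega), Nat.and_zero, zero_mul]
  · intro h; exact absurd (Finset.mem_range.mpr (by norm_num)) h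

theorem row_eq {a : ℕ → ℕ} (ha : ∀ n < 49, a n < 2 ^ 20) {k : ℕ} (hk : k < 7) :
    (pk a 49 >>> (140 * k)) &&& rowm = ∑ j ∈ Finset.range 7, a (7 * k + j) * 2 ^ (20 * j) := by
  rw [rowm_eq, land_pk _ (fun n _ => by norm_num)]
  refine Finset.sum_congr rfl fun j hj => ?_
  rw [Finset.mem_range] at hj
  have e : 140 * k = 20 * (7 * k) := by ring
  have h1 := dg_pk ha (j + 7 * k)
  show (dg (pk a 49 >>> (140 * k)) j &&& (2 ^ 20 - 1)) * 2 ^ (20 * j) = _
  rw [e, dg_shift, h1, if_pos (by omega), land_all (ha _ (by omega)), add_comm j]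

theorem mul_pk {a b : ℕ → ℕ} (ha : ∀ n < 49, a n < 11) (hb : ∀ n < 49, b n < 11) :
    mul (pk a 49) (pk b 49) = pk (fun n => (∑ k ∈ Finset.range 7, a (7 * (n / 7) + k) * b (7 * k + n % 7)) % 11) 49 := by
  have ha' : ∀ n < 49, a n < 2 ^ 20 := fun n hn => (ha n hn).trans (by norm_num)
  have hb' : ∀ n < 49, b n < 2 ^ 20 := fun n hn => (hb n hn).trans (by norm_num)
  have key : (∑ k ∈ Finset.range 7, ((pk a 49 >>> (20 * k)) &&& colm) * ((pk b 49 >>> (140 * k)) &&& rowm)) =
      pk (fun n => ∑ k ∈ Finset.range 7, a (7 * (n / 7) + k) * b (7 * k + n % 7)) 49 := by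
    have h1 : ∀ k ∈ Finset.range 7, ((pk a 49 >>> (20 * k)) &&& colm) * ((pk b 49 >>> (140 * k)) &&& rowm) =
        ∑ i ∈ Finset.range 7, ∑ j ∈ Finset.range 7, (a (7 * i + k) * b (7 * k + j)) * 2 ^ (20 * (7 * i + j)) := by
      intro k hk
      rw [Finset.mem_range] at hk
      rw [col_eq ha' hk, row_eq hb' hk, Finset.sum_mul_sum]
      refine Finset.sum_congr rfl fun i _ => Finset.sum_congr rfl fun j _ => ?_
      have e : 20 * (7 * i + j) = 140 * i + 20 * j := by ring
      rw [e, pow_add]; ring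
    rw [Finset.sum_congr rfl h1, Finset.sum_comm]
    have h2 : pk (fun n => ∑ k ∈ Finset.range 7, a (7 * (n / 7) + k) * b (7 * k + n % 7)) 49 = _ := sum_blocks49 _
    rw [h2]
    refine Finset.sum_congr rfl fun i _ => ?_
    rw [Finset.sum_comm]
    refine Finset.sum_congr rfl fun j hj => ?_
    rw [Finset.mem_range] at hj
    have e1 : (7 * i + j) / 7 = i := by omega
    have e2 : (7 * i + j) % 7 = j := by omega
    beta_reduce
    rw [e1, e2, Finset.sum_mul]
  have h3 : mul (pk a 49) (pk b 49) = red (∑ k ∈ Finset.range 7, ((pk a 49 >>> (20 * k)) &&& colm) * ((pk b 49 >>> (140 * k)) &&& rowm)) := by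
    generalize pk a 49 = A
    generalize pk b 49 = B
    unfold mul
    rw [frc_eq, frc_eq]
    refine congrArg red ?_
    simp only [Finset.sum_range_succ, Finset.sum_range_zero, Nat.add_eq, Nat.mul_eq, Nat.land_eq, Nat.shiftRight_eq,
      mul_zero, Nat.reduceMul, Nat.shiftRight_zero, zero_add, mul_one]
    simp only [add_assoc]
  rw [h3, key, red_pk]
  intro n hn
  calc ∑ k ∈ Finset.range 7, a (7 * (n / 7) + k) * b (7 * k + n % 7) ≤ ∑ k ∈ Finset.range 7, 100 := by
        refine Finset.sum_le_sum fun k hk => ?_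
        rw [Finset.mem_range] at hk
        have h1 := ha (7 * (n / 7) + k) (by omega)
        have h2 := hb (7 * k + n % 7) (by omega)
        calc _ ≤ 10 * 10 := Nat.mul_le_mul (by omega) (by omega)
          _ = 100 := by norm_num
    _ = 700 := by simp

/-- entries -/
def ent (M : Matrix (Fin 7) (Fin 7) (ZMod 11)) (n : ℕ) : ℕ :=
  (M ⟨n / 7 % 7, Nat.mod_lt _ (by norm_num)⟩ ⟨n % 7, Nat.mod_lt _ (by norm_num)⟩).val

theorem ent_lt (M : Matrix (Fin 7) (Fin 7) (ZMod 11)) (n : ℕ) : ent M n < 11 := ZMod.val_lt _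

def enc (M : Matrix (Fin 7) (Fin 7) (ZMod 11)) : ℕ := pk (ent M) 49

theorem mul_enc (M N : Matrix (Fin 7) (Fin 7) (ZMod 11)) : mul (enc M) (enc N) = enc (M * N) := by
  unfold enc
  rw [mul_pk (fun n _ => ent_lt M n) (fun n _ => ent_lt N n)]
  apply pk_congr
  intro n hn
  unfold ent
  rw [Matrix.mul_apply]
  have h1 : (∑ j, M ⟨n / 7 % 7, Nat.mod_lt _ (by norm_num)⟩ j * N j ⟨n % 7, Nat.mod_lt _ (by norm_num)⟩) =
      ((∑ k ∈ Finset.range 7, (M ⟨(7 * (n / 7) + k) / 7 % 7, Nat.mod_lt _ (by norm_num)⟩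
        ⟨(7 * (n / 7) + k) % 7, Nat.mod_lt _ (by norm_num)⟩).val *
        (N ⟨(7 * k + n % 7) / 7 % 7, Nat.mod_lt _ (by norm_num)⟩
        ⟨(7 * k + n % 7) % 7, Nat.mod_lt _ (by norm_num)⟩).val : ℕ) : ZMod 11) := by
    rw [Finset.sum_range, Nat.cast_sum]
    refine Finset.sum_congr rfl fun k _ => ?_
    rw [Nat.cast_mul, ZMod.natCast_val, ZMod.natCast_val, ZMod.cast_id, ZMod.cast_id]
    have hk := k.2
    have e1 : (⟨(7 * (n / 7) + k) / 7 % 7, Nat.mod_lt _ (by norm_num)⟩ : Fin 7) = ⟨n / 7 % 7, Nat.mod_lt _ (by norm_num)⟩ := by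
      apply Fin.ext; show (7 * (n / 7) + (k : ℕ)) / 7 % 7 = n / 7 % 7; congr 1; omega
    have e2 : (⟨(7 * (n / 7) + k) % 7, Nat.mod_lt _ (by norm_num)⟩ : Fin 7) = k := by
      apply Fin.ext; show (7 * (n / 7) + (k : ℕ)) % 7 = k; omega
    have e3 : (⟨(7 * k + n % 7) / 7 % 7, Nat.mod_lt _ (by norm_num)⟩ : Fin 7) = k := by
      apply Fin.ext; show (7 * (k : ℕ) + n % 7) / 7 % 7 = k; omega
    have e4 : (⟨(7 * k + n % 7) % 7, Nat.mod_lt _ (by norm_num)⟩ : Fin 7) = ⟨n % 7, Nat.mod_lt _ (by norm_num)⟩ := by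
      apply Fin.ext; show (7 * (k : ℕ) + n % 7) % 7 = n % 7; omega
    rw [e1, e2, e3, e4]
  rw [h1, ZMod.val_natCast]

theorem enc_injective : Function.Injective enc := by
  intro M N h
  ext i j
  apply ZMod.val_injective
  have h1 : ∀ n < 49, ent M n = ent N n := by
    intro n hn
    have h2 := dg_pk (N := 49) (fun n _ => (ent_lt M n).trans (by norm_num)) n
    have h3 := dg_pk (N := 49) (fun n _ => (ent_lt N n).trans (by norm_num)) n
    rw [if_pos hn] at h2 h3
    rw [← h2, ← h3]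
    exact congrArg (fun x => dg x n) h
  have h4 := h1 (7 * i + j) (by have := i.2; have := j.2; omega)
  unfold ent at h4
  have e1 : (⟨(7 * (i : ℕ) + j) / 7 % 7, Nat.mod_lt _ (by norm_num)⟩ : Fin 7) = i := by
    apply Fin.ext; show (7 * (i : ℕ) + j) / 7 % 7 = i; have := i.2; have := j.2; omega
  have e2 : (⟨(7 * (i : ℕ) + j) % 7, Nat.mod_lt _ (by norm_num)⟩ : Fin 7) = j := by
    apply Fin.ext; show (7 * (i : ℕ) + j) % 7 = j; have := i.2; have := j.2; omega
  rwa [e1, e2] at h4

/-- the code of an invertible matrix -/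
def code (g : Matrix.GeneralLinearGroup (Fin 7) (ZMod 11)) : ℕ := enc g.1

theorem code_injective : Function.Injective code := fun g h e => Units.ext (enc_injective e)

theorem code_mul (g h : Matrix.GeneralLinearGroup (Fin 7) (ZMod 11)) : code (g * h) = mul (code g) (code h) :=
  (mul_enc _ _).symm

end Cfsg.Agent.H22.J1
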