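import Cfsg.Agent.H22.JanA
import Cfsg.Prelude.Def_Spor_J1

set_option autoImplicit false
set_option linter.all false
set_option maxRecDepth 100000

/-! The elements of the Janko group J1: codes `mul t h`, `t` one of 266 coset representatives, `h` one of the 660
elements of a subgroup isomorphic to L2(11). -/

namespace Cfsg.Agent.H22.J1

abbrev GG := Matrix.GeneralLinearGroup (Fin 7) (ZMod 11)

def cX : ℕ := 7331566395049492039757283984575429960958381126937789633046792052521874587239339304272548475999638300420767372793441374277662677569940566090221959259696305740218849812866652873565593019001758307263955971476915546835173570166096383648999502637608423391232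
def cY : ℕ := 9745341892975896358699076681095803336609973364777805900694646680599808904854264132427512795980938324907889799405160393708356788010831330278595183742263733269328663264727098595255785945139038967305216110345341629163738830507604723695489179598823631159295443919450203723351482686916792418312
def cOne : ℕ := 9745314011399999080353382387875188310876226857601675541300786311487028542557147360262759824204330729826318796238391346592882502228049419475956793268734712838634841597166800302077720681979877042912046960912756838627270827123751563578464016151603084254455509546806634621401900256378650361857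
def ca : ℕ := 38981302514931566171613423789166978869102681043853344011889329599034088505296434414719332295863583985752775254659244091464744352973196544611336678221699142710152823742459798959205690501232035499136266195014477091058626154032864112143173842854472996819622548395916835833550751413882699382794

def btK {α : Type} (gs : List ℕ) : List (ℕ × ℕ) → List ℕ → (List ℕ → α) → α
  | [], acc, k => k acc
  | p :: l, acc, k => frc (mul (gs.getD p.1 cOne) (acc.getD p.2 cOne)) fun v => btK gs l (v :: acc) k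

def treeH : List (ℕ × ℕ) := [(0, 0), (1, 1), (1, 1), (0, 1), (1, 2), (0, 2), (1, 3), (1, 3), (0, 3), (1, 4), (1, 4), (0, 4), (1, 5), (0, 5), (1, 6), (1, 6), (0, 6), (1, 7), (0, 7), (1, 8), (1, 8), (0, 8), (1, 9), (1, 9), (0, 9), (1, 10), (0, 10), (1, 11), (1, 11), (0, 11), (1, 11), (0, 11), (1, 12), (0, 12), (1, 13), (1, 13), (0, 13), (0, 13), (1, 14), (1, 14), (0, 14), (1, 15), (1, 15), (0, 15), (1, 16), (0, 16), (1, 17), (1, 17), (0, 17), (1, 18), (1, 18), (0, 18), (1, 19), (1, 19), (0, 19), (1, 20), (0, 20), (1, 21), (1, 21), (1, 21), (0, 21), (1, 22), (0, 22), (1, 23), (1, 23), (0, 23), (0, 23), (1, 24), (1, 24), (0, 24), (1, 25), (1, 25), (0, 25), (1, 26), (0, 26), (1, 27), (1, 27), (0, 27), (1, 28), (0, 28), (1, 29), (1, 29), (0, 29), (0, 29), (1, 30), (1, 30), (0, 30), (1, 31), (1, 31), (0, 31), (1, 32), (0, 32), (1, 33), (0, 33), (1, 34), (1, 34), (0, 34), (1, 35), (1, 35), (0, 35), (1, 36), (0, 36), (1, 37), (1, 37), (1, 37), (0, 37), (1, 38), (0, 38), (1, 39), (1, 39), (0, 39), (0, 39), (1,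 40), (1, 40), (0, 40), (1, 41), (1, 41), (0, 41), (1, 42), (0, 42), (1, 43), (1, 43), (0, 43), (1, 44), (1, 44), (0, 44), (1, 45), (0, 45), (1, 46), (1, 46), (1, 46), (0, 46), (1, 47), (0, 47), (1, 47), (0, 47), (0, 47), (1, 48), (1, 48), (1, 48), (1, 48), (0, 48), (1, 49), (1, 49), (0, 49), (1, 50), (0, 50), (1, 51), (1, 51), (0, 51), (0, 51), (1, 52), (0, 51), (1, 52), (1, 52), (0, 52), (1, 53), (0, 53), (1, 54), (0, 54), (1, 55), (1, 55), (0, 55), (1, 56), (1, 56), (1, 56), (0, 56), (1, 57), (1, 57), (1, 57), (0, 57), (1, 58), (0, 58), (1, 59), (1, 59), (0, 59), (0, 59), (1, 60), (1, 60), (0, 60), (1, 61), (1, 61), (0, 61), (1, 62), (0, 62), (1, 63), (1, 63), (0, 63), (0, 63), (0, 62), (1, 63), (1, 63), (0, 63), (1, 64), (0, 64), (1, 65), (0, 65), (1, 66), (0, 65), (1, 66), (1, 66), (0, 66), (1, 67), (1, 67), (1, 67), (0, 67), (1, 68), (0, 68), (1, 69), (0, 68), (1, 69), (1, 69), (1, 69), (0, 69), (1, 70), (1, 70), (0, 70), (1, 71), (1, 71), (0, 71), (1, 72), (0, 72), (1, 73), (1, 73), (1, 73), (1,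 73), (1, 73), (0, 73), (0, 73), (1, 74), (1, 74), (1, 74), (1, 74), (0, 74), (1, 75), (1, 75), (1, 75), (1, 75), (1, 75), (0, 75), (0, 75), (1, 76), (0, 76), (1, 77), (1, 77), (0, 77), (1, 78), (0, 78), (1, 79), (0, 79), (1, 80), (1, 80), (0, 80), (1, 81), (1, 81), (1, 81), (0, 81), (1, 82), (1, 82), (1, 82), (0, 82), (1, 83), (0, 83), (1, 84), (1, 84), (0, 84), (0, 84), (1, 85), (1, 85), (0, 85), (1, 86), (1, 86), (0, 86), (1, 87), (0, 87), (1, 88), (1, 88), (1, 88), (1, 88), (0, 88), (0, 88), (1, 89), (1, 89), (1, 89), (1, 89), (0, 89), (1, 90), (1, 90), (1, 90), (1, 90), (0, 90), (0, 90), (1, 91), (1, 91), (0, 91), (1, 92), (0, 92), (1, 93), (0, 93), (1, 94), (1, 94), (0, 94), (1, 95), (1, 95), (1, 95), (1, 95), (0, 95), (1, 96), (0, 96), (1, 97), (0, 97), (1, 97), (0, 97), (1, 98), (0, 98), (1, 99), (1, 99), (0, 99), (0, 99), (1, 98), (1, 98), (0, 98), (1, 99), (0, 99), (1, 100), (0, 100), (1, 101), (0, 101), (1, 102), (0, 102), (1, 103), (1, 103), (1, 103), (0, 103), (0, 103), (1, 104), (0, 103),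 (1, 103), (1, 103), (0, 103), (0, 103), (1, 104), (0, 104), (1, 105), (0, 105), (1, 106), (1, 105), (1, 104), (0, 104), (0, 104), (1, 105), (1, 105), (1, 105), (1, 105), (0, 105), (1, 106), (1, 106), (0, 103), (1, 103), (0, 103), (1, 104), (1, 104), (0, 104), (0, 104), (1, 105), (0, 105), (1, 106), (1, 106), (0, 106), (1, 107), (1, 107), (1, 107), (0, 107), (1, 108), (1, 108), (1, 108), (0, 108), (1, 109), (0, 109), (1, 110), (1, 110), (0, 110), (0, 110), (1, 109), (1, 109), (0, 109), (1, 110), (0, 110), (1, 111), (0, 111), (1, 112), (0, 112), (1, 113), (1, 113), (1, 113), (0, 113), (0, 113), (1, 114), (0, 113), (1, 113), (1, 113), (0, 113), (0, 113), (1, 114), (0, 114), (1, 115), (1, 114), (0, 113), (1, 114), (1, 114), (1, 114), (1, 114), (0, 114), (1, 115), (1, 115), (0, 112), (1, 112), (0, 112), (1, 113), (0, 113), (1, 114), (1, 114), (0, 114), (1, 115), (1, 115), (1, 115), (1, 115), (0, 115), (1, 116), (1, 116), (0, 116), (1, 117), (1, 117), (0, 117), (1, 118), (0, 118), (1, 119), (1, 119), (1, 119),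 (0, 119), (0, 119), (1, 120), (1, 120), (1, 119), (0, 119), (1, 120), (1, 120), (1, 120), (1, 120), (0, 120), (1, 120), (0, 120), (1, 121), (0, 121), (0, 121), (1, 122), (1, 122), (1, 122), (1, 121), (0, 121), (1, 122), (0, 122), (1, 122), (1, 122), (0, 122), (1, 120), (0, 120), (1, 121), (0, 121), (1, 122), (0, 122), (1, 123), (1, 123), (1, 123), (0, 123), (0, 123), (1, 124), (0, 123), (1, 122), (0, 122), (0, 119), (0, 119), (1, 120), (1, 120), (1, 120), (0, 120), (1, 120), (0, 117), (0, 116), (1, 117), (0, 116), (0, 116), (1, 117), (0, 117), (1, 116), (1, 116), (0, 116), (1, 117), (0, 117), (1, 118), (1, 118), (1, 118), (0, 118), (0, 118), (1, 119), (1, 117), (1, 117), (1, 116), (0, 115), (1, 116), (0, 116), (0, 116), (1, 117), (1, 117), (1, 115), (0, 115), (1, 116), (0, 116), (1, 115), (0, 115), (1, 115), (0, 115), (1, 116), (0, 116), (1, 117), (1, 117), (0, 117), (0, 117), (1, 118), (1, 115), (1, 110), (0, 107), (1, 106), (0, 106), (1, 107), (1, 107), (1, 107), (1, 107), (1, 107), (0, 107), (0, 107),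 (1, 105), (0, 105), (1, 106), (0, 106), (0, 106), (1, 107), (1, 107), (1, 107), (0, 107), (1, 107), (0, 107), (1, 107), (1, 107), (1, 106), (0, 106), (1, 105), (1, 105), (1, 105), (1, 105), (1, 105), (1, 103), (0, 103), (1, 103), (1, 103), (1, 103), (1, 103), (0, 103), (1, 104), (0, 103), (1, 103), (1, 102), (1, 102), (1, 102), (0, 102), (0, 102), (0, 102), (1, 103), (0, 99), (1, 99), (1, 99), (1, 99), (0, 99), (0, 99), (0, 99), (0, 98), (0, 96), (1, 96), (1, 96), (0, 96), (1, 96), (0, 96), (0, 96), (1, 94), (0, 94), (1, 95), (0, 94), (1, 95), (1, 95), (1, 95), (0, 95), (1, 94), (1, 94), (1, 94), (1, 94), (1, 94), (1, 94), (1, 91), (1, 91), (0, 90), (0, 89), (1, 87), (1, 87), (0, 87), (0, 83), (0, 82), (1, 82), (0, 81), (1, 81), (0, 81), (1, 82), (1, 82), (0, 80), (1, 81), (1, 79), (1, 78), (0, 78), (0, 78), (1, 76), (0, 76), (1, 77), (0, 76), (0, 74), (1, 68), (1, 68), (1, 68), (1, 67), (1, 67), (1, 67), (1, 65), (1, 64), (1, 64), (1, 63), (1, 63), (1, 62), (1, 59), (1, 59), (0, 56), (1, 50), (0, 46),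 (0, 46), (1, 42), (1, 38), (1, 38), (1, 38), (1, 33), (0, 22), (1, 21), (1, 12)]

def treeT : List (ℕ × ℕ) := [(0, 0), (0, 0), (1, 1), (0, 1), (1, 2), (0, 2), (1, 3), (0, 3), (1, 4), (0, 4), (1, 5), (0, 5), (1, 6), (0, 6), (1, 7), (0, 7), (1, 8), (0, 8), (1, 9), (0, 9), (1, 10), (0, 10), (0, 10), (1, 11), (0, 11), (1, 12), (0, 12), (1, 13), (0, 13), (0, 13), (0, 13), (0, 13), (1, 14), (0, 14), (1, 15), (0, 15), (0, 15), (1, 16), (0, 16), (1, 17), (1, 17), (0, 17), (1, 17), (0, 17), (1, 18), (0, 18), (1, 19), (0, 19), (1, 20), (0, 20), (1, 21), (1, 21), (0, 19), (1, 20), (0, 20), (1, 21), (0, 21), (1, 22), (0, 22), (1, 23), (1, 23), (0, 23), (1, 23), (0, 23), (1, 24), (0, 24), (1, 25), (0, 25), (0, 25), (1, 26), (0, 26), (1, 27), (0, 27), (1, 28), (0, 28), (1, 29), (0, 29), (1, 30), (0, 30), (1, 31), (0, 31), (0, 31), (1, 31), (1, 31), (1, 31), (0, 31), (1, 32), (1, 32), (0, 32), (1, 33), (0, 33), (1, 34), (0, 34), (1, 33), (0, 33), (1, 34), (1, 34), (0, 34), (1, 35), (1, 34), (0, 34), (1, 34), (0, 34),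 (0, 34), (1, 35), (0, 35), (0, 35), (1, 36), (0, 36), (1, 37), (0, 37), (1, 38), (0, 38), (1, 38), (0, 38), (1, 39), (0, 39), (1, 40), (0, 40), (1, 41), (0, 41), (1, 42), (0, 42), (1, 43), (0, 43), (1, 44), (0, 44), (0, 44), (1, 45), (0, 45), (1, 46), (0, 46), (0, 46), (1, 47), (1, 47), (0, 47), (1, 48), (0, 48), (1, 49), (0, 49), (1, 50), (1, 50), (0, 50), (1, 51), (0, 50), (1, 50), (0, 50), (1, 51), (1, 51), (1, 51), (0, 51), (1, 51), (0, 50), (1, 51), (1, 51), (0, 51), (1, 52), (0, 52), (1, 52), (0, 52), (1, 53), (0, 50), (1, 51), (0, 51), (1, 52), (0, 52), (0, 52), (1, 53), (0, 52), (1, 53), (0, 53), (1, 54), (0, 54), (0, 53), (1, 54), (1, 54), (1, 54), (0, 54), (1, 55), (0, 55), (1, 55), (1, 55), (1, 54), (0, 54), (1, 54), (0, 53), (1, 54), (1, 54), (0, 54), (1, 55), (0, 54), (1, 55), (0, 55), (0, 55), (0, 55), (1, 56), (0, 56), (0, 56), (1, 56), (0, 56), (1, 57), (0, 57), (1, 56), (0, 56), (0, 56), (0, 55), (0, 55), (0, 54), (0, 53), (1, 54), (1, 54), (0, 54), (0, 54), (1, 55), (1, 54), (1, 54),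 (0, 53), (0, 52), (1, 53), (0, 52), (1, 52), (0, 50), (1, 51), (0, 51), (1, 51), (0, 49), (1, 50), (0, 50), (0, 50), (0, 50), (0, 50), (0, 50), (0, 48), (1, 49), (0, 48), (0, 48), (0, 48), (0, 47), (1, 48), (0, 48), (1, 49), (0, 49), (0, 49), (1, 50), (0, 50), (0, 48), (1, 45), (0, 43), (1, 44), (1, 44), (0, 42), (0, 40), (0, 34), (0, 33), (0, 33), (0, 31), (1, 32), (1, 30), (1, 29), (0, 26), (0, 26), (0, 26), (0, 19), (0, 13), (0, 5)]

def permA : List ℕ := [7, 4, 25, 12, 1, 37, 40, 0, 55, 56, 46, 68, 3, 23, 24, 17, 34, 15, 60, 30, 22, 65, 20, 13, 14, 2, 101, 104, 51, 106, 19, 110, 111, 86, 16, 59, 117, 5, 95, 121, 6, 123, 70, 126, 128, 133, 10, 53, 138, 140, 77, 28, 120, 47, 71, 8, 9, 105, 154, 35, 18, 146, 157, 78, 159, 21, 163, 164, 11, 166, 42, 54, 169, 172, 174, 175, 176, 50, 63, 122, 180, 124, 185, 186, 187, 94, 33, 99, 158, 193, 129, 195, 98, 153, 85, 38, 200, 100, 92, 87, 97, 26, 144, 210, 27, 57, 29, 215, 115, 217, 31, 32, 203, 220, 221, 108, 222, 36, 226, 227, 52, 39, 79, 41, 81, 232, 43, 235,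 44, 90, 136, 249, 250, 45, 238, 252, 130, 253, 48, 255, 49, 258, 149, 259, 102, 152, 61, 264, 265, 142, 266, 211, 145, 93, 58, 274, 275, 62, 88, 64, 278, 234, 279, 66, 67, 283, 69, 284, 285, 72, 287, 289, 73, 294, 74, 75, 76, 297, 298, 302, 80, 305, 191, 307, 308, 82, 83, 84, 311, 292, 312, 182, 313, 89, 317, 91, 281, 320, 206, 321, 96, 315, 213, 112, 326, 327, 198, 328, 233, 330, 103, 151, 247, 202, 334, 107, 240, 109, 338, 339, 113, 114, 116, 342, 288, 343, 118, 119, 345, 270, 244, 347, 125, 208, 161, 127, 351, 245, 134, 353, 216, 354, 248, 356, 230, 237, 361, 212, 242, 131, 132, 365, 135, 137, 369, 139, 370, 371, 141, 143, 374, 272, 376, 377, 147, 148, 150, 380, 359, 381, 229, 382, 261, 383, 155, 156, 387, 388, 160, 162, 390, 196, 391, 165, 167, 168, 394, 170, 224, 171, 397, 303, 189, 399, 173, 400, 401, 177, 178, 403, 306, 405, 179, 291, 410, 181, 300, 183, 184, 414, 415, 188, 190, 192, 420, 201, 421, 194, 422, 423, 197, 199, 426, 336, 428, 429, 204, 205, 207, 432, 209, 433, 408, 434, 214, 435, 323,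 436, 218, 219, 440, 441, 223, 225, 443, 228, 444, 231, 446, 363, 447, 236, 448, 239, 241, 438, 243, 452, 372, 268, 454, 246, 455, 349, 456, 251, 375, 458, 459, 254, 256, 257, 358, 463, 260, 366, 262, 263, 467, 468, 267, 269, 271, 273, 472, 404, 473, 276, 277, 475, 280, 282, 477, 478, 286, 412, 480, 290, 481, 293, 295, 296, 484, 299, 385, 301, 487, 424, 332, 489, 304, 490, 395, 491, 309, 310, 493, 427, 494, 495, 314, 316, 318, 319, 407, 500, 322, 417, 324, 325, 504, 505, 329, 331, 333, 335, 337, 510, 355, 511, 340, 341, 513, 344, 346, 515, 348, 350, 352, 518, 465, 520, 357, 521, 360, 362, 364, 524, 367, 368, 526, 498, 528, 373, 529, 450, 530, 378, 379, 532, 534, 535, 384, 386, 537, 389, 538, 392, 393, 540, 396, 398, 542, 543, 402, 502, 545, 406, 546, 409, 411, 413, 549, 416, 418, 419, 552, 516, 461, 554, 425, 555, 485, 556, 430, 431, 558, 519, 560, 561, 437, 439, 563, 442, 564, 445, 497, 566, 449, 507, 451, 453, 570, 571, 457, 573, 460, 574, 462, 464, 466, 577, 469, 578, 470, 471, 580, 474, 476, 582, 479,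 583, 482, 483, 585, 486, 488, 587, 588, 492, 568, 590, 496, 591, 499, 501, 503, 594, 506, 595, 508, 509, 597, 512, 514, 599, 517, 600, 550, 601, 522, 523, 603, 525, 527, 605, 606, 531, 533, 608, 536, 609, 539, 541, 611, 544, 612, 547, 548, 614, 551, 553, 616, 617, 557, 559, 619, 562, 620, 565, 567, 569, 623, 572, 624, 575, 576, 626, 579, 581, 628, 584, 586, 630, 589, 631, 592, 593, 633, 596, 598, 635, 636, 602, 604, 638, 607, 639, 610, 641, 613, 615, 643, 618, 644, 621, 622, 646, 625, 627, 648, 629, 649, 632, 634, 651, 637, 652, 640, 642, 654, 645, 647, 656, 650, 657, 653, 655, 659, 658]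

def permY : List ℕ := [231, 319, 165, 257, 9, 2, 49, 373, 75, 84, 41, 340, 27, 0, 167, 392, 127, 91, 89, 125, 260, 26, 171, 1, 344, 425, 83, 76, 236, 58, 280, 147, 48, 11, 322, 204, 8, 3, 290, 109, 445, 276, 188, 4, 5, 6, 304, 416, 36, 207, 7, 451, 160, 155, 469, 82, 470, 471, 324, 183, 286, 10, 103, 243, 43, 31, 413, 118, 44, 331, 177, 39, 12, 13, 329, 32, 116, 14, 139, 15, 16, 295, 17, 18, 64, 19, 246, 402, 20, 21, 22, 150, 23, 24, 25, 486, 62, 29, 223, 218, 506, 45, 113, 267, 508, 509, 28, 30, 194, 262, 131, 316, 33, 74, 34, 301, 72, 35, 364, 66, 37, 38, 40, 73, 474, 42, 517, 256, 254, 523, 67, 205, 337, 69, 46, 47, 173, 114, 299, 184, 80, 107, 50, 51, 192, 296, 362, 52, 53, 54, 55, 56, 57, 449, 360, 59, 60, 61, 503, 63, 65, 406, 263, 141, 539, 68, 512, 70, 71, 541, 96, 318, 314, 460, 309, 162, 190, 77, 78, 79, 548, 457, 119, 148, 273, 81, 225, 135, 85, 86, 87, 209, 88, 241, 132, 90, 92, 93, 94, 95, 137, 97, 310, 411, 98, 99, 100, 101, 102, 496, 251, 104, 492, 105, 106, 482, 108, 409, 110, 111, 112,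 466, 115, 117, 357, 325, 197, 565, 120, 121, 122, 123, 124, 126, 551, 567, 282, 156, 271, 128, 569, 293, 143, 389, 384, 129, 418, 378, 572, 130, 269, 133, 134, 136, 138, 575, 140, 228, 576, 142, 144, 341, 168, 145, 146, 439, 149, 170, 151, 181, 152, 153, 419, 178, 154, 581, 157, 158, 159, 161, 163, 164, 214, 179, 166, 559, 352, 169, 525, 584, 346, 219, 335, 172, 579, 174, 175, 176, 586, 239, 199, 442, 437, 180, 367, 430, 589, 182, 333, 185, 186, 187, 189, 191, 193, 533, 398, 592, 195, 196, 593, 198, 200, 277, 201, 202, 203, 386, 206, 208, 596, 210, 211, 212, 213, 215, 368, 216, 217, 598, 220, 221, 222, 224, 226, 227, 229, 230, 232, 233, 234, 235, 237, 238, 240, 242, 602, 514, 431, 501, 244, 245, 247, 248, 249, 250, 396, 252, 562, 253, 255, 557, 258, 259, 547, 607, 261, 499, 264, 265, 266, 268, 270, 272, 274, 275, 453, 348, 610, 278, 279, 281, 283, 284, 285, 287, 288, 289, 291, 292, 294, 604, 297, 298, 300, 613, 476, 379, 464, 302, 303, 305, 306, 307, 308, 615, 311, 350, 312, 536, 313, 315, 317, 531, 320,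 321, 522, 618, 323, 462, 326, 327, 328, 330, 332, 334, 336, 338, 339, 488, 393, 621, 342, 343, 345, 347, 622, 349, 351, 353, 354, 355, 356, 358, 359, 361, 363, 365, 366, 625, 369, 370, 371, 372, 374, 375, 376, 377, 627, 380, 381, 382, 383, 385, 387, 388, 390, 391, 629, 394, 395, 397, 399, 400, 401, 403, 404, 405, 407, 408, 410, 412, 414, 415, 417, 632, 420, 421, 422, 423, 424, 426, 427, 428, 429, 634, 432, 433, 434, 435, 436, 438, 440, 441, 443, 444, 446, 447, 448, 637, 450, 452, 454, 455, 456, 458, 459, 479, 461, 463, 465, 467, 468, 553, 483, 640, 472, 473, 475, 477, 478, 480, 481, 642, 484, 485, 487, 489, 490, 491, 493, 494, 495, 497, 498, 500, 502, 504, 505, 527, 507, 645, 510, 511, 513, 515, 516, 518, 519, 520, 521, 647, 524, 544, 526, 528, 529, 530, 532, 534, 535, 537, 538, 540, 542, 543, 545, 546, 650, 549, 550, 552, 554, 555, 556, 558, 560, 561, 563, 564, 566, 568, 570, 571, 573, 574, 653, 577, 578, 580, 582, 583, 585, 587, 588, 590, 591, 655, 594, 595, 597, 599, 600, 601, 603, 605, 606, 608, 609,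 611, 612, 614, 616, 617, 619, 620, 658, 623, 624, 626, 628, 659, 630, 631, 633, 635, 636, 638, 639, 641, 643, 644, 646, 648, 649, 651, 652, 654, 656, 657]

def certX : List (ℕ × ℕ) := [(143, 326), (218, 657), (160, 398), (131, 153), (177, 216), (108, 310), (0, 659), (178, 483), (195, 69), (54, 458), (66, 482), (40, 87), (78, 596), (121, 515), (166, 33), (1, 659), (44, 278), (6, 285), (8, 311), (230, 74), (42, 466), (209, 563), (2, 659), (187, 236), (136, 168), (64, 339), (38, 534), (119, 48), (141, 647), (26, 50), (3, 659), (4, 659), (5, 659), (182, 9), (117, 430), (16, 430), (75, 319), (7, 465), (100, 356), (97, 233), (49, 269), (9, 659), (21, 339), (15, 641), (10, 659), (11, 659), (86, 30), (12, 659), (239, 356), (55, 315), (104, 324), (18, 94), (128, 433), (24, 433), (13, 659), (151, 233), (205, 349), (14, 659), (163, 554), (237, 242), (77, 266), (17, 659), (211, 455), (93, 24), (31, 24), (84, 155), (46, 99), (189, 147), (19, 659), (232, 458), (82, 466), (20, 659), (22, 659), (23, 659), (25, 659),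 (27, 659), (180, 153), (28, 659), (29, 659), (30, 659), (193, 420), (32, 659), (73, 520), (157, 503), (33, 659), (34, 659), (35, 659), (36, 659), (37, 659), (39, 659), (200, 529), (227, 607), (51, 457), (41, 659), (43, 659), (207, 644), (50, 9), (62, 56), (45, 659), (145, 466), (47, 659), (69, 188), (48, 659), (83, 464), (80, 180), (102, 425), (130, 565), (52, 659), (53, 659), (246, 425), (56, 659), (155, 60), (57, 659), (90, 478), (58, 659), (59, 659), (110, 195), (60, 659), (61, 659), (185, 504), (106, 10), (63, 659), (65, 659), (115, 250), (67, 659), (68, 659), (70, 659), (71, 659), (72, 659), (74, 659), (95, 478), (76, 659), (89, 549), (79, 659), (220, 179), (139, 192), (81, 659), (173, 71), (111, 168), (124, 541), (88, 570), (85, 659), (87, 659), (169, 133), (123, 216), (91, 659), (126, 147), (92, 659), (94, 659), (96, 659), (181, 168), (98, 659), (99, 659), (101, 659), (103, 659), (250, 580), (149, 574), (134, 76), (105, 659), (147, 219), (107, 659), (109, 659), (113, 349), (112, 659), (168, 645),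 (248, 451), (114, 659), (116, 395), (165, 280), (118, 659), (153, 569), (120, 659), (171, 221), (122, 659), (175, 188), (125, 659), (127, 659), (129, 659), (216, 36), (132, 659), (133, 659), (135, 659), (137, 659), (138, 659), (140, 659), (142, 659), (144, 659), (146, 659), (148, 659), (150, 659), (214, 644), (152, 659), (154, 659), (156, 659), (158, 659), (159, 659), (161, 659), (162, 659), (258, 162), (164, 659), (241, 527), (260, 478), (167, 659), (191, 586), (170, 659), (213, 569), (225, 651), (172, 659), (174, 659), (176, 659), (222, 356), (179, 659), (204, 601), (202, 651), (198, 2), (183, 659), (184, 659), (186, 659), (188, 659), (190, 659), (192, 659), (194, 659), (196, 659), (197, 659), (199, 659), (201, 659), (262, 569), (203, 659), (256, 569), (206, 659), (208, 659), (210, 659), (212, 659), (252, 337), (224, 337), (265, 659), (215, 659), (217, 659), (219, 659), (221, 659), (244, 651), (223, 659), (254, 569), (226, 659), (228, 659), (229, 659), (231, 659), (233, 659), (234, 659), (235, 659),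 (236, 659), (238, 659), (240, 659), (242, 659), (243, 659), (245, 659), (247, 659), (249, 659), (251, 659), (253, 659), (255, 659), (257, 659), (259, 659), (261, 659), (263, 659), (264, 659)]

def certY : List (ℕ × ℕ) := [(0, 466), (25, 88), (70, 347), (3, 72), (9, 107), (5, 125), (39, 485), (14, 168), (1, 8), (71, 602), (161, 659), (30, 65), (36, 441), (74, 546), (144, 520), (2, 205), (158, 278), (12, 53), (150, 599), (11, 147), (41, 147), (4, 275), (63, 115), (105, 398), (52, 561), (20, 135), (76, 130), (133, 448), (33, 105), (118, 595), (28, 369), (208, 362), (13, 458), (19, 16), (45, 326), (91, 48), (6, 659), (59, 260), (7, 659), (17, 1), (10, 310), (8, 659), (159, 310), (53, 458), (99, 337), (27, 635), (48, 27), (132, 27), (192, 476), (61, 223), (43, 603), (114, 223), (32, 131), (23, 323), (146, 570), (85, 326), (94, 233), (67, 174), (65, 568), (29, 432), (15, 659), (16, 659), (142, 315), (68, 135), (18, 659), (22, 81), (196, 585), (154, 356), (58, 7), (140, 12), (101, 458), (72, 652), (21, 659),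 (210, 605), (24, 659), (26, 659), (179, 377), (112, 643), (34, 251), (35, 403), (217, 52), (31, 659), (203, 60), (212, 127), (176, 346), (172, 401), (170, 486), (37, 82), (188, 87), (38, 659), (238, 659), (167, 301), (40, 659), (107, 69), (42, 659), (201, 619), (57, 5), (44, 659), (47, 497), (190, 337), (46, 659), (60, 149), (96, 428), (231, 73), (49, 659), (50, 659), (56, 610), (51, 659), (92, 465), (54, 659), (55, 659), (242, 659), (98, 520), (243, 659), (148, 10), (79, 645), (137, 321), (138, 657), (87, 657), (62, 659), (164, 657), (81, 236), (64, 659), (66, 659), (103, 73), (236, 147), (69, 659), (127, 74), (129, 563), (73, 659), (247, 659), (75, 659), (77, 659), (78, 659), (152, 641), (80, 659), (125, 147), (82, 659), (228, 641), (83, 659), (84, 659), (135, 52), (86, 659), (88, 659), (89, 659), (90, 659), (194, 468), (186, 198), (93, 659), (95, 659), (156, 9), (97, 659), (235, 657), (100, 659), (102, 659), (197, 388), (122, 253), (109, 90), (104, 659), (106, 659), (174, 631), (108, 659), (110, 659),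 (111, 659), (226, 499), (113, 659), (120, 61), (115, 659), (116, 659), (117, 659), (119, 659), (253, 192), (162, 466), (121, 659), (123, 659), (124, 659), (126, 659), (128, 659), (130, 659), (131, 659), (184, 464), (134, 659), (136, 659), (234, 168), (139, 659), (141, 659), (143, 659), (145, 659), (147, 659), (149, 659), (151, 659), (259, 659), (153, 659), (155, 659), (157, 659), (183, 423), (160, 659), (233, 132), (163, 659), (255, 436), (165, 659), (219, 527), (166, 659), (168, 659), (169, 659), (171, 659), (199, 478), (261, 659), (173, 659), (175, 659), (177, 659), (178, 659), (180, 659), (181, 659), (182, 659), (249, 71), (215, 233), (185, 659), (187, 659), (189, 659), (191, 659), (193, 659), (195, 659), (223, 417), (198, 659), (200, 659), (202, 659), (206, 586), (204, 659), (205, 659), (207, 659), (209, 659), (211, 659), (221, 356), (240, 273), (213, 659), (214, 659), (216, 659), (218, 659), (220, 659), (222, 659), (229, 132), (224, 659), (225, 659), (227, 659), (264, 520), (230, 659), (232, 659),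 (263, 656), (251, 337), (245, 168), (237, 659), (239, 659), (241, 659), (257, 629), (244, 659), (246, 659), (248, 659), (250, 659), (252, 659), (254, 659), (256, 659), (258, 659), (260, 659), (262, 659), (265, 657)]

def LH : List ℕ := btK [ca, cY] treeH [cOne] id
def LT : List ℕ := btK [cX, cY] treeT [cOne] id

theorem btK_eq {α : Type} (gs : List ℕ) (tree : List (ℕ × ℕ)) : ∀ (acc : List ℕ) (k : List ℕ → α),
    btK gs tree acc k = k (btK gs tree acc id) := by
  induction tree with
  | nil => intro acc k; rfl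
  | cons p l ih =>
    intro acc k
    unfold btK
    rw [frc_eq, frc_eq]
    exact ih _ _

def withH {α : Type} (k : List ℕ → α) : α := btK [ca, cY] treeH [cOne] k
def withT {α : Type} (k : List ℕ → α) : α := btK [cX, cY] treeT [cOne] k

theorem withH_eq {α : Type} (k : List ℕ → α) : withH k = k LH := btK_eq _ _ _ _
theorem withT_eq {α : Type} (k : List ℕ → α) : withT k = k LT := btK_eq _ _ _ _

/-- everything in the tree is the code of an element of `K` -/
theorem bt_mem (K : Subgroup GG) (gs : List ℕ) (hgs : ∀ v ∈ gs, ∃ x ∈ K, code x = v) (h1 : code 1 = cOne)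
    (tree : List (ℕ × ℕ)) : ∀ (acc : List ℕ), (∀ v ∈ acc, ∃ x ∈ K, code x = v) →
      ∀ v ∈ btK gs tree acc id, ∃ x ∈ K, code x = v := by
  have hd : ∀ (l : List ℕ), (∀ v ∈ l, ∃ x ∈ K, code x = v) → ∀ i, ∃ x ∈ K, code x = l.getD i cOne := by
    intro l hl i
    rw [List.getD_eq_getElem?_getD]
    rcases h : l[i]? with _ | v
    · exact ⟨1, K.one_mem, h1⟩
    · exact hl v (List.mem_of_getElem? h)
  induction tree with
  | nil => intro acc hacc v hv; exact hacc v hv
  | cons p l ih =>
    intro acc hacc v hv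
    unfold btK at hv
    rw [frc_eq] at hv
    refine ih _ ?_ v hv
    intro w hw
    rcases List.mem_cons.mp hw with rfl | hw
    · obtain ⟨x, hx, hxc⟩ := hd gs hgs p.1
      obtain ⟨y, hy, hyc⟩ := hd acc hacc p.2
      exact ⟨x * y, K.mul_mem hx hy, by rw [code_mul, hxc, hyc]⟩
    · exact hacc w hw

def chk1 (g : ℕ) (L : List ℕ) : List ℕ → List ℕ → Bool
  | [], _ => true
  | s :: l, c :: cs => cond (Nat.beq (mul g s) (L.getD c 0)) (chk1 g L l cs) false
  | _ :: _, [] => false

def chk2 (g : ℕ) (T L : List ℕ) : List ℕ → List (ℕ × ℕ) → Bool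
  | [], _ => true
  | t :: l, c :: cs => cond (Nat.beq (mul g t) (mul (T.getD c.1 0) (L.getD c.2 0))) (chk2 g T L l cs) false
  | _ :: _, [] => false

theorem mul_ne_zero' : mul cX cX ≠ 0 := by decide +kernel

theorem code_ne_zero (g : GG) : code g ≠ 0 := by
  intro h
  have h1 : enc g.1 = enc 0 := by
    have h0 : enc 0 = 0 := by unfold enc pk ent; simp
    rw [h0]; exact h
  have h2 := enc_injective h1
  have h3 : (1 : Matrix (Fin 7) (Fin 7) (ZMod 11)) = 0 := by
    rw [← g.mul_inv, h2, zero_mul]
  have h4 := congrFun (congrFun h3 0) 0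
  exact absurd h4 (by decide)

theorem getD_mem {L : List ℕ} {c : ℕ} (h : L.getD c 0 ≠ 0) : L.getD c 0 ∈ L := by
  rw [List.getD_eq_getElem?_getD] at h ⊢
  rcases h1 : L[c]? with _ | v
  · rw [h1] at h; exact absurd rfl h
  · exact List.mem_of_getElem? h1

theorem chk1_spec {g : ℕ} {L : List ℕ} : ∀ {l cs : List ℕ}, chk1 g L l cs = true → ∀ s ∈ l, mul g s ≠ 0 → mul g s ∈ L := by
  intro l
  induction l with
  | nil => intro cs _ s hs; exact absurd hs (List.not_mem_nil)
  | cons a l ih =>
    intro cs h s hs hne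
    rcases cs with _ | ⟨c, cs⟩
    · exact absurd h (by simp [chk1])
    · simp only [chk1, cond_eq_ite, Bool.ite_eq_true_distrib] at h
      split_ifs at h with h1
      · rcases List.mem_cons.mp hs with rfl | hs
        · have h2 := Nat.eq_of_beq_eq_true h1
          rw [h2] at hne ⊢
          exact getD_mem hne
        · exact ih h s hs hne

theorem chk2_spec {g : ℕ} {T L : List ℕ} (hz : ∀ x, mul 0 x = 0) (hz' : ∀ x, mul x 0 = 0) : ∀ {l : List ℕ} {cs : List (ℕ × ℕ)}, chk2 g T L l cs = true →
    ∀ s ∈ l, mul g s ≠ 0 → ∃ t ∈ T, ∃ h ∈ L, mul g s = mul t h := by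
  intro l
  induction l with
  | nil => intro cs _ s hs; exact absurd hs (List.not_mem_nil)
  | cons a l ih =>
    intro cs h s hs hne
    rcases cs with _ | ⟨c, cs⟩
    · exact absurd h (by simp [chk2])
    · simp only [chk2, cond_eq_ite, Bool.ite_eq_true_distrib] at h
      split_ifs at h with h1
      · rcases List.mem_cons.mp hs with rfl | hs
        · have h2 := Nat.eq_of_beq_eq_true h1
          refine ⟨_, getD_mem (L := T) (c := c.1) ?_, _, getD_mem (L := L) (c := c.2) ?_, h2⟩
          · intro h3; rw [h2, h3, hz] at hne; exact hne rfl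
          · intro h3; rw [h2, h3, hz'] at hne; exact hne rfl
        · exact ih h s hs hne

theorem mul_zero_left (x : ℕ) : mul 0 x = 0 := by
  unfold mul
  rw [frc_eq, frc_eq]
  simp only [Nat.zero_shiftRight, Nat.land_eq, Nat.shiftRight_eq, Nat.mul_eq, Nat.add_eq, Nat.zero_and, zero_mul, add_zero]
  rfl

theorem mul_zero_right (x : ℕ) : mul x 0 = 0 := by
  unfold mul
  rw [frc_eq, frc_eq]
  simp only [Nat.zero_shiftRight, Nat.land_eq, Nat.shiftRight_eq, Nat.mul_eq, Nat.add_eq, Nat.zero_and, mul_zero, add_zero]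
  rfl

theorem chkH : (withH fun L => chk1 ca L L permA && chk1 cY L L permY) = true := by decide +kernel

theorem chkT : (withH fun L => withT fun T => chk2 cX T L T certX && chk2 cY T L T certY) = true := by decide +kernel

theorem code_X : code Cfsg.Spor.jankoX = cX := by decide +kernel
theorem code_Y : code Cfsg.Spor.jankoY = cY := by decide +kernel
theorem code_one : code 1 = cOne := by decide +kernel

end Cfsg.Agent.H22.J1
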