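import Cfsg.Agent.H22.JanB

set_option autoImplicit false
set_option linter.all false
set_option maxRecDepth 100000

/-! The Janko group J1: enumeration of the elements, words, order. -/

namespace Cfsg.Agent.H22.J1

open Cfsg.Spor (jankoX jankoY)

/-- powers of codes -/
def npw (c : ℕ) : ℕ → ℕ
  | 0 => cOne
  | n + 1 => mul (npw c n) c

theorem code_pow (g : GG) (n : ℕ) : code (g ^ n) = npw (code g) n := by
  induction n with
  | zero => rw [pow_zero, code_one]; rfl
  | succ n ih => rw [pow_succ, code_mul, ih]; rfl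

/-- words -/
def wG : List Bool → GG
  | [] => 1
  | b :: l => (cond b jankoY jankoX) * wG l

def wN : List Bool → ℕ
  | [] => cOne
  | b :: l => mul (cond b cY cX) (wN l)

theorem code_w (l : List Bool) : code (wG l) = wN l := by
  induction l with
  | nil => exact code_one
  | cons b l ih =>
    rw [wG, wN, code_mul, ih]
    cases b
    · rw [cond_false, cond_false, code_X]
    · rw [cond_true, cond_true, code_Y]

theorem wG_mem (l : List Bool) : wG l ∈ Cfsg.Spor.J1 := by
  induction l with
  | nil => exact Subgroup.one_mem _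
  | cons b l ih =>
    refine Subgroup.mul_mem _ ?_ ih
    cases b
    · exact Subgroup.subset_closure (Or.inl rfl)
    · exact Subgroup.subset_closure (Or.inr rfl)

theorem X_mem : jankoX ∈ Cfsg.Spor.J1 := Subgroup.subset_closure (Or.inl rfl)
theorem Y_mem : jankoY ∈ Cfsg.Spor.J1 := Subgroup.subset_closure (Or.inr rfl)

theorem eq_of_code {g h : GG} (e : code g = code h) : g = h := code_injective e

theorem X_pow : jankoX ^ 7 = 1 := eq_of_code (by rw [code_pow, code_X, code_one]; decide +kernel)
theorem Y_pow : jankoY ^ 5 = 1 := eq_of_code (by rw [code_pow, code_Y, code_one]; decide +kernel)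

/-- `a = X^3 Y^3 X^2 Y` -/
def aw : List Bool := [false, false, false, true, true, true, false, false, true]
def aG : GG := wG aw

theorem code_a : code aG = ca := by
  unfold aG; rw [code_w]; decide +kernel

theorem a_pow : aG ^ 2 = 1 := eq_of_code (by rw [code_pow, code_a, code_one]; decide +kernel)

/-- the subgroup `L2(11)` -/
def HH : Subgroup GG := Subgroup.closure {aG, jankoY}

theorem HH_le : HH ≤ Cfsg.Spor.J1 := by
  rw [HH, Subgroup.closure_le]
  rintro x (rfl | rfl)
  · exact wG_mem _
  · exact Y_mem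

theorem LH_code (v : ℕ) (hv : v ∈ LH) : ∃ x ∈ HH, code x = v := by
  refine bt_mem HH [ca, cY] ?_ code_one treeH [cOne] ?_ v hv
  · intro v hv
    simp only [List.mem_cons, List.not_mem_nil, or_false] at hv
    rcases hv with rfl | rfl
    · exact ⟨aG, Subgroup.subset_closure (Or.inl rfl), code_a⟩
    · exact ⟨jankoY, Subgroup.subset_closure (Or.inr rfl), code_Y⟩
  · intro v hv
    rw [List.mem_singleton] at hv
    exact ⟨1, Subgroup.one_mem _, hv ▸ code_one⟩

theorem LT_code (v : ℕ) (hv : v ∈ LT) : ∃ x ∈ Cfsg.Spor.J1, code x = v := by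
  refine bt_mem Cfsg.Spor.J1 [cX, cY] ?_ code_one treeT [cOne] ?_ v hv
  · intro v hv
    simp only [List.mem_cons, List.not_mem_nil, or_false] at hv
    rcases hv with rfl | rfl
    · exact ⟨jankoX, X_mem, code_X⟩
    · exact ⟨jankoY, Y_mem, code_Y⟩
  · intro v hv
    rw [List.mem_singleton] at hv
    exact ⟨1, Subgroup.one_mem _, hv ▸ code_one⟩

theorem chk_one : (withH fun L => withT fun T => L.elem cOne && T.elem cOne) = true := by decide +kernel

theorem one_mem_LH : cOne ∈ LH := by
  have h := chk_one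
  rw [withH_eq, withT_eq, Bool.and_eq_true] at h
  exact List.elem_iff.mp h.1

theorem one_mem_LT : cOne ∈ LT := by
  have h := chk_one
  rw [withH_eq, withT_eq, Bool.and_eq_true] at h
  exact List.elem_iff.mp h.2

theorem mul_ne {g h : GG} : mul (code g) (code h) ≠ 0 := by
  rw [← code_mul]; exact code_ne_zero _

theorem mem_LH {g : GG} (hg : g ∈ HH) : code g ∈ LH := by
  have h := chkH
  rw [withH_eq, Bool.and_eq_true] at h
  obtain ⟨h1, h2⟩ := h
  have ha : ∀ x : GG, code x ∈ LH → code (aG * x) ∈ LH := by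
    intro x hx
    rw [code_mul, code_a]
    exact chk1_spec h1 _ hx (by rw [← code_a]; exact mul_ne)
  have hy : ∀ x : GG, code x ∈ LH → code (jankoY * x) ∈ LH := by
    intro x hx
    rw [code_mul, code_Y]
    exact chk1_spec h2 _ hx (by rw [← code_Y]; exact mul_ne)
  have hyn : ∀ (n : ℕ) (x : GG), code x ∈ LH → code (jankoY ^ n * x) ∈ LH := by
    intro n
    induction n with
    | zero => intro x hx; rw [pow_zero, one_mul]; exact hx
    | succ n ih => intro x hx; rw [pow_succ', mul_assoc]; exact hy _ (ih x hx)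
  induction hg using Subgroup.closure_induction_left with
  | one => rw [code_one]; exact one_mem_LH
  | mul_left x hx y _ ih =>
    rcases hx with rfl | rfl
    · exact ha y ih
    · exact hy y ih
  | inv_mul_cancel x hx y _ ih =>
    rcases hx with rfl | rfl
    · have : aG⁻¹ = aG := by
        rw [inv_eq_iff_mul_eq_one, ← pow_two]; exact a_pow
      rw [this]; exact ha y ih
    · have : jankoY⁻¹ = jankoY ^ 4 := by
        rw [inv_eq_iff_mul_eq_one, ← pow_succ']; exact Y_pow
      rw [this]; exact hyn 4 y ih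

/-- the elements of `J1` -/
theorem exists_TH {g : GG} (hg : g ∈ Cfsg.Spor.J1) : ∃ t ∈ LT, ∃ h ∈ LH, code g = mul t h := by
  have h := chkT
  rw [withH_eq, withT_eq, Bool.and_eq_true] at h
  obtain ⟨h1, h2⟩ := h
  have key : ∀ (z : GG) (cert : List (ℕ × ℕ)), chk2 (code z) LT LH LT cert = true → ∀ x : GG,
      (∃ t ∈ LT, ∃ h ∈ LH, code x = mul t h) → ∃ t ∈ LT, ∃ h ∈ LH, code (z * x) = mul t h := by
    intro z cert hc x hx
    obtain ⟨t, ht, h, hh, e⟩ := hx
    obtain ⟨t', ht', rfl⟩ := LT_code t ht
    obtain ⟨h', hh', rfl⟩ := LH_code h hh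
    obtain ⟨u, hu, k, hk, e2⟩ := chk2_spec mul_zero_left mul_zero_right hc _ ht mul_ne
    obtain ⟨u', hu', rfl⟩ := LT_code u hu
    obtain ⟨k', hk', rfl⟩ := LH_code k hk
    refine ⟨code u', hu, code (k' * h'), mem_LH (HH.mul_mem hk' hh'), ?_⟩
    rw [code_mul, e, ← code_mul t' h', ← code_mul z, ← mul_assoc, code_mul (z * t'), code_mul z t', e2, ← code_mul u' k',
      ← code_mul, ← code_mul, mul_assoc]
  have hpow : ∀ (z : GG), (∀ x : GG, (∃ t ∈ LT, ∃ h ∈ LH, code x = mul t h) → ∃ t ∈ LT, ∃ h ∈ LH, code (z * x) = mul t h) →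
      ∀ (n : ℕ) (x : GG), (∃ t ∈ LT, ∃ h ∈ LH, code x = mul t h) → ∃ t ∈ LT, ∃ h ∈ LH, code (z ^ n * x) = mul t h := by
    intro z hz n
    induction n with
    | zero => intro x hx; rw [pow_zero, one_mul]; exact hx
    | succ n ih => intro x hx; rw [pow_succ', mul_assoc]; exact hz _ (ih x hx)
  have hX := key jankoX certX (by rw [code_X]; exact h1)
  have hY := key jankoY certY (by rw [code_Y]; exact h2)
  unfold Cfsg.Spor.J1 at hg
  induction hg using Subgroup.closure_induction_left with
  | one => exact ⟨cOne, one_mem_LT, cOne, one_mem_LH, by rw [← code_one, ← code_mul, mul_one]⟩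
  | mul_left x hx y _ ih =>
    rcases hx with rfl | rfl
    · exact hX y ih
    · exact hY y ih
  | inv_mul_cancel x hx y _ ih =>
    rcases hx with rfl | rfl
    · have : jankoX⁻¹ = jankoX ^ 6 := by
        rw [inv_eq_iff_mul_eq_one, ← pow_succ']; exact X_pow
      rw [this]; exact hpow _ hX 6 y ih
    · have : jankoY⁻¹ = jankoY ^ 4 := by
        rw [inv_eq_iff_mul_eq_one, ← pow_succ']; exact Y_pow
      rw [this]; exact hpow _ hY 4 y ih

/-- check a property of all the codes in a slice -/
def allP (P : ℕ → Bool) (a n : ℕ) : Bool :=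
  withH fun L => withT fun T => ((T.drop a).take n).all fun t => L.all fun h => frc (mul t h) P

theorem all_slices {T : List ℕ} {Q : ℕ → Bool} (n : ℕ) (hn : 0 < n)
    (h : ∀ i, n * i < T.length → ((T.drop (n * i)).take n).all Q = true) : ∀ t ∈ T, Q t = true := by
  intro t ht
  obtain ⟨i, hi, rfl⟩ := List.getElem_of_mem ht
  have h1 := h (i / n) (lt_of_le_of_lt (Nat.mul_div_le i n) hi)
  rw [List.all_eq_true] at h1
  apply h1
  rw [List.mem_take_iff_getElem]
  have h2 := Nat.mod_lt i hn
  have h3 := Nat.div_add_mod i n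
  refine ⟨i % n, ?_, ?_⟩
  · rw [List.length_drop]
    omega
  · rw [List.getElem_drop]
    congr 1

theorem LT_length : LT.length = 266 := by
  have : (withT fun T => Nat.beq T.length 266) = true := by decide +kernel
  rw [withT_eq] at this
  exact Nat.eq_of_beq_eq_true this

theorem LH_length : LH.length = 660 := by
  have : (withH fun T => Nat.beq T.length 660) = true := by decide +kernel
  rw [withH_eq] at this
  exact Nat.eq_of_beq_eq_true this

theorem forall_G (P : ℕ → Bool) (n : ℕ) (hn : 0 < n) (h : ∀ i, n * i < 266 → allP P (n * i) n = true) {g : GG} (hg : g ∈ Cfsg.Spor.J1) :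
    P (code g) = true := by
  obtain ⟨t, ht, k, hk, e⟩ := exists_TH hg
  have h1 := all_slices (T := LT) (Q := fun t => LH.all fun h => frc (mul t h) P) n hn (by
    intro i hi
    rw [LT_length] at hi
    have := h i hi
    unfold allP at this
    rwa [withH_eq, withT_eq] at this) t ht
  rw [List.all_eq_true] at h1
  have h3 := h1 k hk
  rw [frc_eq, ← e] at h3
  exact h3

end Cfsg.Agent.H22.J1
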