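import Cfsg.Agent.H22.JanC
import Cfsg.Agent.L.SylIn

set_option autoImplicit false
set_option linter.all false
set_option maxRecDepth 100000

/-! The Janko group J1: order. -/

namespace Cfsg.Agent.H22.J1

open Cfsg.Spor (jankoX jankoY)

theorem orderOf_w (l : List Bool) (p : ℕ) [hp : Fact p.Prime] (h1 : npw (wN l) p = cOne) (h2 : Nat.beq (wN l) cOne = false) :
    orderOf (wG l) = p := by
  apply orderOf_eq_prime
  · apply eq_of_code
    rw [code_pow, code_w, h1, code_one]
  · intro h
    have : wN l = cOne := by rw [← code_w, h, code_one]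
    rw [this, Nat.beq_refl] at h2
    exact absurd h2 (by decide)

/-- lists of words closed under multiplication are subgroups -/
def closedL (L : List ℕ) : Bool := L.all fun u => L.all fun v => L.elem (mul u v)

def frcL {α : Type} : List ℕ → (List ℕ → α) → α
  | [], k => k []
  | v :: l, k => frc v fun v => frcL l fun l => k (v :: l)

theorem frcL_eq {α : Type} (l : List ℕ) : ∀ (k : List ℕ → α), frcL l k = k l := by
  induction l with
  | nil => intro k; rfl
  | cons v l ih => intro k; unfold frcL; rw [frc_eq]; exact ih _

def nodupL : List ℕ → Bool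
  | [] => true
  | v :: l => cond (l.elem v) false (nodupL l)

theorem nodupL_spec {l : List ℕ} (h : nodupL l = true) : l.Nodup := by
  induction l with
  | nil => exact List.nodup_nil
  | cons v l ih =>
    unfold nodupL at h
    cases h1 : l.elem v
    · rw [h1, cond_false] at h
      refine List.nodup_cons.mpr ⟨?_, ih h⟩
      intro h2
      rw [List.elem_iff.mpr h2] at h1
      exact absurd h1 (by decide)
    · rw [h1, cond_true] at h
      exact absurd h (by decide)

theorem exists_sub (ws : List (List Bool)) (h1 : (frcL (ws.map wN) fun L => L.elem cOne && closedL L && nodupL L) = true) :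
    ∃ K : Subgroup GG, K ≤ Cfsg.Spor.J1 ∧ (∀ x, x ∈ K ↔ code x ∈ ws.map wN) ∧ Nat.card K = ws.length := by
  rw [frcL_eq, Bool.and_eq_true, Bool.and_eq_true] at h1
  obtain ⟨⟨h1, h2⟩, h3⟩ := h1
  have h1 := List.elem_iff.mp h1
  have h3 := nodupL_spec h3
  have hm : ∀ x y : GG, code x ∈ ws.map wN → code y ∈ ws.map wN → code (x * y) ∈ ws.map wN := by
    intro x y hx hy
    unfold closedL at h2
    rw [List.all_eq_true] at h2
    have h4 := h2 _ hx
    rw [List.all_eq_true] at h4
    have h5 := List.elem_iff.mp (h4 _ hy)
    rwa [← code_mul] at h5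
  have hpow : ∀ (x : GG), code x ∈ ws.map wN → ∀ n : ℕ, code (x ^ n) ∈ ws.map wN := by
    intro x hx n
    induction n with
    | zero => rw [pow_zero, code_one]; exact h1
    | succ n ih => rw [pow_succ]; exact hm _ _ ih hx
  have hinv : ∀ x : GG, x⁻¹ = x ^ (orderOf x - 1) := by
    intro x
    apply inv_eq_of_mul_eq_one_right
    rw [mul_pow_sub_one (orderOf_pos x).ne', pow_orderOf_eq_one]
  let K : Subgroup GG :=
    { carrier := {x | code x ∈ ws.map wN}
      mul_mem' := fun hx hy => hm _ _ hx hy
      one_mem' := by show code 1 ∈ ws.map wN; rw [code_one]; exact h1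
      inv_mem' := by
        intro x hx
        show code x⁻¹ ∈ ws.map wN
        rw [hinv x]
        exact hpow x hx _ }
  have hK : ∀ x, x ∈ K ↔ code x ∈ ws.map wN := fun x => Iff.rfl
  refine ⟨K, ?_, hK, ?_⟩
  · intro x hx
    obtain ⟨l, hl, e⟩ := List.mem_map.mp ((hK x).mp hx)
    rw [← code_w] at e
    rw [← eq_of_code e]
    exact wG_mem l
  · have hinj : Function.Injective (fun i : Fin ws.length => wG ws[i]) := by
      intro i j hij
      have h4 : (ws.map wN)[(i : ℕ)]'(by rw [List.length_map]; exact i.2) = (ws.map wN)[(j : ℕ)]'(by rw [List.length_map]; exact j.2) := by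
        rw [List.getElem_map, List.getElem_map, ← code_w, ← code_w]
        exact congrArg code hij
      exact Fin.ext ((List.Nodup.getElem_inj_iff h3).mp h4)
    have e : Fin ws.length ≃ K := Equiv.ofBijective
      (fun i => ⟨wG ws[i], (hK _).mpr (by rw [code_w]; exact List.mem_map_of_mem (List.getElem_mem _))⟩) ⟨?_, ?_⟩
    · rw [← Nat.card_congr e, Nat.card_eq_fintype_card, Fintype.card_fin]
    · intro i j hij
      exact hinj (congrArg Subtype.val hij)
    · rintro ⟨x, hx⟩
      obtain ⟨l, hl, e⟩ := List.mem_map.mp ((hK x).mp hx)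
      obtain ⟨i, hi, rfl⟩ := List.getElem_of_mem hl
      refine ⟨⟨i, hi⟩, Subtype.ext ?_⟩
      rw [← code_w] at e
      exact eq_of_code e

/-- a Sylow 2-subgroup -/
def Ew : List (List Bool) := [[], [true, true, true, true, false, true, false], [false, true, true, true, true, false, true, false, false, false, false, false, false, false], [false, false, true, true, true, true, false, true, false, false, false, false, false, false], [false, false, false, true, true, true, true, false, true, false, false, false, false, false], [false, false, false, false, true, true, true, true, false, true, false, false, false, false], [false, false, false, false, false, true, true, true, true, false, true, false, false, false], [false, false, false, false, false, false, true, true, true, true, false, true, false, false]]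

theorem exists_E : ∃ K : Subgroup GG, K ≤ Cfsg.Spor.J1 ∧ (∀ x, x ∈ K ↔ code x ∈ Ew.map wN) ∧ Nat.card K = 8 :=
  exists_sub Ew (by decide +kernel)

def w2 : List Bool := [true, true, true, true, false, true, false]
def w3 : List Bool := [true, false, true, false, true, false, false, false]
def w11 : List Bool := [true, true, false]
def w19 : List Bool := [true, false, false, false]
def w6 : List Bool := [true, true, true, false]
def w10 : List Bool := [true, false]
def w15 : List Bool := [true, true, false, true, false, true, true, false, false]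

instance fact11 : Fact (Nat.Prime 11) := ⟨by norm_num⟩
instance fact19 : Fact (Nat.Prime 19) := ⟨by norm_num⟩
instance fact5 : Fact (Nat.Prime 5) := ⟨by norm_num⟩
instance fact7 : Fact (Nat.Prime 7) := ⟨by norm_num⟩

theorem order_w2 : orderOf (wG w2) = 2 := orderOf_w _ 2 (by decide +kernel) (by decide +kernel)
theorem order_w3 : orderOf (wG w3) = 3 := orderOf_w _ 3 (by decide +kernel) (by decide +kernel)
theorem order_w11 : orderOf (wG w11) = 11 := orderOf_w _ 11 (by decide +kernel) (by decide +kernel)
theorem order_w19 : orderOf (wG w19) = 19 := orderOf_w _ 19 (by decide +kernel) (by decide +kernel)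

theorem order_X : orderOf jankoX = 7 := by
  have h : wG [false] = jankoX := by show jankoX * 1 = _; rw [mul_one]
  rw [← h]
  exact orderOf_w _ 7 (by decide +kernel) (by decide +kernel)

theorem order_Y : orderOf jankoY = 5 := by
  have h : wG [true] = jankoY := by show jankoY * 1 = _; rw [mul_one]
  rw [← h]
  exact orderOf_w _ 5 (by decide +kernel) (by decide +kernel)

theorem order_dvd {x : GG} (hx : x ∈ Cfsg.Spor.J1) : orderOf x ∣ Nat.card Cfsg.Spor.J1 := by
  have := orderOf_dvd_natCard (⟨x, hx⟩ : Cfsg.Spor.J1)
  rwa [Subgroup.orderOf_mk] at this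

theorem card_J1 : Nat.card Cfsg.Spor.J1 = 175560 := by
  classical
  apply le_antisymm
  · have h1 : Nat.card Cfsg.Spor.J1 ≤ ((LT.toFinset ×ˢ LH.toFinset).image fun p => mul p.1 p.2).card := by
      have e : Nat.card Cfsg.Spor.J1 = Set.ncard (Cfsg.Spor.J1 : Set GG) := rfl
      rw [e, ← Set.ncard_coe_finset]
      refine Set.ncard_le_ncard_of_injOn code ?_ (code_injective.injOn) (Finset.finite_toSet _)
      intro x hx
      obtain ⟨t, ht, h, hh, e⟩ := exists_TH hx
      rw [Finset.mem_coe, Finset.mem_image]
      exact ⟨(t, h), Finset.mem_product.mpr ⟨List.mem_toFinset.mpr ht, List.mem_toFinset.mpr hh⟩, e.symm⟩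
    refine h1.trans (Finset.card_image_le.trans ?_)
    rw [Finset.card_product]
    have h2 := LT.toFinset_card_le
    have h3 := LH.toFinset_card_le
    rw [LT_length] at h2
    rw [LH_length] at h3
    calc _ ≤ 266 * 660 := Nat.mul_le_mul h2 h3
      _ = 175560 := by norm_num
  · have h8 : 8 ∣ Nat.card Cfsg.Spor.J1 := by
      obtain ⟨K, hK, -, hc⟩ := exists_E
      rw [← hc]
      exact Subgroup.card_dvd_of_le hK
    have h3 := order_dvd (wG_mem w3)
    rw [order_w3] at h3
    have h5 := order_dvd Y_mem
    rw [order_Y] at h5
    have h7 := order_dvd X_mem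
    rw [order_X] at h7
    have h11 := order_dvd (wG_mem w11)
    rw [order_w11] at h11
    have h19 := order_dvd (wG_mem w19)
    rw [order_w19] at h19
    apply Nat.le_of_dvd Nat.card_pos
    have e : 175560 = 8 * 3 * 5 * 7 * 11 * 19 := by norm_num
    rw [e]
    refine Nat.Coprime.mul_dvd_of_dvd_of_dvd (by norm_num) (Nat.Coprime.mul_dvd_of_dvd_of_dvd (by norm_num)
      (Nat.Coprime.mul_dvd_of_dvd_of_dvd (by norm_num) (Nat.Coprime.mul_dvd_of_dvd_of_dvd (by norm_num)
      (Nat.Coprime.mul_dvd_of_dvd_of_dvd (by norm_num) h8 h3) h5) h7) h11) h19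

end Cfsg.Agent.H22.J1
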