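import Cfsg.Agent.H22.JanE

set_option autoImplicit false
set_option linter.all false
set_option maxRecDepth 100000

/-! The Janko group J1: simplicity. -/

namespace Cfsg.Agent.H22.J1

open Cfsg.Spor (jankoX jankoY)
open Subgroup
open scoped Pointwise

instance fact2 : Fact (Nat.Prime 2) := ⟨Nat.prime_two⟩
instance fact3 : Fact (Nat.Prime 3) := ⟨Nat.prime_three⟩

instance finJ1 : Finite ↥Cfsg.Spor.J1 := inferInstance

/-- the elements of `J1` given by a word -/
def wJ (l : List Bool) : ↥Cfsg.Spor.J1 := ⟨wG l, wG_mem l⟩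

def XJ : ↥Cfsg.Spor.J1 := ⟨jankoX, X_mem⟩
def YJ : ↥Cfsg.Spor.J1 := ⟨jankoY, Y_mem⟩

theorem closure_XY : Subgroup.closure ({XJ, YJ} : Set ↥Cfsg.Spor.J1) = ⊤ := by
  rw [eq_top_iff]
  rintro ⟨x, hx⟩ -
  have h : x ∈ Subgroup.closure ({jankoX, jankoY} : Set GG) := hx
  refine Subgroup.closure_induction (p := fun y hy => (⟨y, hy⟩ : ↥Cfsg.Spor.J1) ∈ Subgroup.closure ({XJ, YJ} : Set ↥Cfsg.Spor.J1)) ?_ ?_ ?_ ?_ h
  · rintro y (rfl | rfl)
    · exact subset_closure (Or.inl rfl)
    · exact subset_closure (Or.inr rfl)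
  · exact one_mem _
  · intro a b ha hb h1 h2; exact mul_mem h1 h2
  · intro a ha h1; exact inv_mem h1

theorem fact_J1 (p : ℕ) (k : ℕ) (h : (175560 : ℕ).factorization p = k) :
    (Nat.card ↥Cfsg.Spor.J1).factorization p = k := by rw [card_J1, h]

theorem fac_eq (p k m : ℕ) (hp : p.Prime) (h1 : 175560 = p ^ k * m) (h2 : ¬ p ∣ m) : (175560 : ℕ).factorization p = k := by
  rw [h1, Nat.factorization_mul (pow_ne_zero _ hp.ne_zero) (by rintro rfl; exact h2 (dvd_zero _)), Finsupp.add_apply,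
    hp.factorization_pow, Finsupp.single_eq_same, Nat.factorization_eq_zero_of_not_dvd h2, add_zero]

/-- a normal subgroup containing an element of order `p` contains all of them, if the Sylow `p`-subgroups have order `p` -/
theorem all_mem {Γ : Type*} [Group Γ] [Finite Γ] {p : ℕ} [hp : Fact p.Prime] (hf : (Nat.card Γ).factorization p = 1)
    {N : Subgroup Γ} [N.Normal] {g : Γ} (hg : g ∈ N) (ho : orderOf g = p) {x : Γ} (hx : orderOf x = p) : x ∈ N := by
  have key : ∀ y : Γ, orderOf y = p → Nat.card (zpowers y) = p ^ (Nat.card Γ).factorization p := by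
    intro y hy
    rw [Nat.card_zpowers, hy, hf, pow_one]
  let P : Sylow p Γ := Sylow.ofCard (zpowers g) (key g ho)
  let Q : Sylow p Γ := Sylow.ofCard (zpowers x) (key x hx)
  obtain ⟨c, hc⟩ := MulAction.exists_smul_eq Γ P Q
  have h1 : x ∈ (Q : Subgroup Γ) := mem_zpowers x
  rw [← hc] at h1
  have h2 : x ∈ (MulAut.conj c • (P : Subgroup Γ)) := h1
  rw [mem_pointwise_smul_iff_inv_smul_mem] at h2
  have h3 : (MulAut.conj c)⁻¹ • x ∈ N := by
    obtain ⟨k, hk⟩ := mem_zpowers_iff.mp h2
    rw [← hk]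
    exact zpow_mem hg k
  have h4 : (MulAut.conj c)⁻¹ • x = c⁻¹ * x * c := by
    rw [← map_inv]
    simp [MulAut.smul_def]
  rw [h4] at h3
  have := Normal.conj_mem (inferInstance : N.Normal) _ h3 c
  have e : c * (c⁻¹ * x * c) * c⁻¹ = x := by group
  rwa [e] at this

/-- the involutions of `E` are conjugate -/
theorem Ew_conj {l : List Bool} (hl : l ∈ Ew) : l = [] ∨ ∃ k : ℕ, wG l = jankoX ^ k * wG w2 * (jankoX ^ k)⁻¹ := by
  have key : ∀ k : ℕ, (l' : List Bool) → Nat.beq (wN l') (mul (mul (npw cX k) (wN w2)) (npw cX (7 - k))) = true → k ≤ 7 →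
      ∃ k : ℕ, wG l' = jankoX ^ k * wG w2 * (jankoX ^ k)⁻¹ := by
    intro k l' h hk
    refine ⟨k, ?_⟩
    have e : (jankoX ^ k)⁻¹ = jankoX ^ (7 - k) := by
      rw [inv_eq_iff_mul_eq_one, ← pow_add]
      have : k + (7 - k) = 7 := by omega
      rw [this, X_pow]
    rw [e]
    apply eq_of_code
    rw [code_mul, code_mul, code_pow, code_pow, code_X, code_w, code_w]
    exact Nat.eq_of_beq_eq_true h
  unfold Ew at hl
  simp only [List.mem_cons, List.not_mem_nil, or_false] at hl
  rcases hl with rfl | rfl | rfl | rfl | rfl | rfl | rfl | rfl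
  · exact Or.inl rfl
  · exact Or.inr (key 0 _ (by decide +kernel) (by norm_num))
  · exact Or.inr (key 1 _ (by decide +kernel) (by norm_num))
  · exact Or.inr (key 2 _ (by decide +kernel) (by norm_num))
  · exact Or.inr (key 3 _ (by decide +kernel) (by norm_num))
  · exact Or.inr (key 4 _ (by decide +kernel) (by norm_num))
  · exact Or.inr (key 5 _ (by decide +kernel) (by norm_num))
  · exact Or.inr (key 6 _ (by decide +kernel) (by norm_num))

theorem exists_syl2 : ∃ P : Sylow 2 ↥Cfsg.Spor.J1, ∀ x ∈ P, x = 1 ∨ ∃ k : ↥Cfsg.Spor.J1, x = k * wJ w2 * k⁻¹ := by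
  obtain ⟨K, hK, hKm, hc⟩ := exists_E
  have h1 : Nat.card (K.subgroupOf Cfsg.Spor.J1) = 2 ^ (Nat.card ↥Cfsg.Spor.J1).factorization 2 := by
    rw [fact_J1 2 3 (fac_eq 2 3 21945 Nat.prime_two (by norm_num) (by norm_num)), Nat.card_congr (subgroupOfEquivOfLe hK).toEquiv, hc]
    norm_num
  refine ⟨Sylow.ofCard _ h1, ?_⟩
  intro x hx
  have hx' : (x : GG) ∈ K := mem_subgroupOf.mp hx
  obtain ⟨l, hl, e⟩ := List.mem_map.mp ((hKm _).mp hx')
  rw [← code_w] at e
  have e' := eq_of_code e
  rcases Ew_conj hl with rfl | ⟨k, hk⟩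
  · left
    exact Subtype.ext (by rw [← e']; rfl)
  · right
    refine ⟨XJ ^ k, Subtype.ext ?_⟩
    rw [← e', hk]; rfl

/-- all the involutions are conjugate -/
theorem invol_conj {x : ↥Cfsg.Spor.J1} (ho : orderOf x = 2) : ∃ k : ↥Cfsg.Spor.J1, x = k * wJ w2 * k⁻¹ := by
  obtain ⟨P, hP⟩ := exists_syl2
  have h1 : IsPGroup 2 (zpowers x) := IsPGroup.of_card (n := 1) (by rw [Nat.card_zpowers, ho, pow_one])
  obtain ⟨Q, hQ⟩ := h1.exists_le_sylow
  obtain ⟨c, hc⟩ := MulAction.exists_smul_eq ↥Cfsg.Spor.J1 P Q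
  have h2 : x ∈ (Q : Subgroup ↥Cfsg.Spor.J1) := hQ (mem_zpowers x)
  rw [← hc] at h2
  have h3 : x ∈ (MulAut.conj c • (P : Subgroup ↥Cfsg.Spor.J1)) := h2
  rw [mem_pointwise_smul_iff_inv_smul_mem] at h3
  have h4 : (MulAut.conj c)⁻¹ • x = c⁻¹ * x * c := by
    rw [← map_inv]
    simp [MulAut.smul_def]
  rw [h4] at h3
  rcases hP _ h3 with h5 | ⟨k, hk⟩
  · exfalso
    have : x = 1 := by
      have e : x = c * (c⁻¹ * x * c) * c⁻¹ := by group
      rw [e, h5]; group
    rw [this, orderOf_one] at ho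
    exact absurd ho (by norm_num)
  · refine ⟨c * k, ?_⟩
    have e : x = c * (c⁻¹ * x * c) * c⁻¹ := by group
    rw [e, hk]; group

theorem all_mem2 {N : Subgroup ↥Cfsg.Spor.J1} [N.Normal] {g : ↥Cfsg.Spor.J1} (hg : g ∈ N) (ho : orderOf g = 2)
    {x : ↥Cfsg.Spor.J1} (hx : orderOf x = 2) : x ∈ N := by
  obtain ⟨k, hk⟩ := invol_conj ho
  obtain ⟨l, hl⟩ := invol_conj hx
  have h1 : wJ w2 ∈ N := by
    have e : wJ w2 = k⁻¹ * g * k⁻¹⁻¹ := by rw [hk]; group
    rw [e]
    exact Normal.conj_mem inferInstance _ hg _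
  rw [hl]
  exact Normal.conj_mem inferInstance _ h1 _

/-- `x = u * v` with `u`, `v` of order `p` -/
def prodOk (p : ℕ) (c : ℕ) (l : List Bool) : Bool :=
  frc (wN l) fun u => frc (npw u (p - 1)) fun ui => frc (mul ui c) fun v =>
    Nat.beq (npw u p) cOne && (! Nat.beq u cOne) && Nat.beq (npw v p) cOne && (! Nat.beq v cOne)

theorem order_of_code {x : GG} {p : ℕ} [hp : Fact p.Prime] (h1 : npw (code x) p = cOne) (h2 : ¬ code x = cOne) : orderOf x = p := by
  apply orderOf_eq_prime
  · apply eq_of_code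
    rw [code_pow, h1, code_one]
  · intro h
    exact h2 (by rw [h, code_one])

theorem prod_mem {p : ℕ} [hp : Fact p.Prime] {N : Subgroup ↥Cfsg.Spor.J1}
    (hN : ∀ x : ↥Cfsg.Spor.J1, orderOf x = p → x ∈ N) {x : ↥Cfsg.Spor.J1} {l : List Bool}
    (h : prodOk p (code (x : GG)) l = true) : x ∈ N := by
  unfold prodOk at h
  simp only [frc_eq, Bool.and_eq_true, Bool.not_eq_true'] at h
  obtain ⟨⟨⟨h1, h2⟩, h3⟩, h4⟩ := h
  have h1 := Nat.eq_of_beq_eq_true h1
  have h3 := Nat.eq_of_beq_eq_true h3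
  rw [← code_w, ← code_pow] at h3
  rw [← code_w, ← code_pow] at h4
  rw [← code_w] at h1 h2
  rw [← code_mul] at h3 h4
  have e1 : orderOf (wJ l) = p := by
    rw [← Subgroup.orderOf_coe]
    refine order_of_code h1 ?_
    intro e
    have e' : code (wG l) = cOne := e
    rw [e', Nat.beq_refl] at h2
    exact absurd h2 (by decide)
  have e2 : orderOf ((wJ l) ^ (p - 1) * x) = p := by
    rw [← Subgroup.orderOf_coe]
    refine order_of_code h3 ?_
    intro e
    have e' : code (wG l ^ (p - 1) * x) = cOne := e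
    rw [e', Nat.beq_refl] at h4
    exact absurd h4 (by decide)
  have e3 : x = wJ l * ((wJ l) ^ (p - 1) * x) := by
    rw [← mul_assoc, mul_pow_sub_one hp.out.ne_zero]
    rw [← e1, pow_orderOf_eq_one, one_mul]
  rw [e3]
  exact N.mul_mem (hN _ e1) (hN _ e2)

theorem eq_top_of {N : Subgroup ↥Cfsg.Spor.J1} (h1 : XJ ∈ N) (h2 : YJ ∈ N) : N = ⊤ := by
  rw [eq_top_iff, ← closure_XY, closure_le]
  rintro x (rfl | rfl)
  · exact h1
  · exact h2

def u2x : List Bool := [true, false, true, true, true, true, false, false, false, true]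
def u2y : List Bool := [false, true, true, true, true, false, false, false, true, false, false]
def u3x : List Bool := [true, true, false, false, false, false, true, true, false, true, false, true]
def u3y : List Bool := [true, true, false, true, false, true, false, false, false]
def u5x : List Bool := [true, false, true, false, false]
def u7y : List Bool := [false, true, false, true, false, true, false, false, false]
def u11x : List Bool := [true, true, false, false]
def u11y : List Bool := [false, true, true, false, false, true, true, false]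
def u19x : List Bool := [true, true, true, true, false, false]
def u19y : List Bool := [false, true, true, true, true, false]

instance simple_J1 : IsSimpleGroup ↥Cfsg.Spor.J1 where
  exists_pair_ne := ⟨1, wJ w2, fun h => by
    have h1 := order_w2
    have h2 : orderOf (wJ w2) = 2 := by rw [← Subgroup.orderOf_coe]; exact h1
    rw [← h, orderOf_one] at h2
    exact absurd h2 (by norm_num)⟩
  eq_bot_or_eq_top_of_normal := by
    intro N hN
    by_cases hb : N = ⊥
    · exact Or.inl hb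
    right
    haveI := hN
    have h1 : Nat.card N ≠ 1 := fun h => hb (Subgroup.card_eq_one.mp h)
    obtain ⟨p, hp, hpN⟩ := Nat.exists_prime_and_dvd h1
    haveI : Fact p.Prime := ⟨hp⟩
    obtain ⟨g, hg⟩ := exists_prime_orderOf_dvd_card' p hpN
    have hg' : orderOf (g : ↥Cfsg.Spor.J1) = p := by rw [Subgroup.orderOf_coe]; exact hg
    have hpc : p ∣ 175560 := by
      rw [← card_J1]
      exact hpN.trans (Subgroup.card_subgroup_dvd_card N)
    have e : 175560 = 2 ^ 3 * (3 * (5 * (7 * (11 * 19)))) := by norm_num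
    rw [e] at hpc
    have hpc : p = 2 ∨ p = 3 ∨ p = 5 ∨ p = 7 ∨ p = 11 ∨ p = 19 := by
      rcases (Nat.Prime.dvd_mul hp).mp hpc with h | h
      · exact Or.inl ((Nat.prime_dvd_prime_iff_eq hp Nat.prime_two).mp (hp.dvd_of_dvd_pow h))
      rcases (Nat.Prime.dvd_mul hp).mp h with h | h
      · exact Or.inr (Or.inl ((Nat.prime_dvd_prime_iff_eq hp (by norm_num)).mp h))
      rcases (Nat.Prime.dvd_mul hp).mp h with h | h
      · exact Or.inr (Or.inr (Or.inl ((Nat.prime_dvd_prime_iff_eq hp (by norm_num)).mp h)))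
      rcases (Nat.Prime.dvd_mul hp).mp h with h | h
      · exact Or.inr (Or.inr (Or.inr (Or.inl ((Nat.prime_dvd_prime_iff_eq hp (by norm_num)).mp h))))
      rcases (Nat.Prime.dvd_mul hp).mp h with h | h
      · exact Or.inr (Or.inr (Or.inr (Or.inr (Or.inl ((Nat.prime_dvd_prime_iff_eq hp (by norm_num)).mp h)))))
      · exact Or.inr (Or.inr (Or.inr (Or.inr (Or.inr ((Nat.prime_dvd_prime_iff_eq hp (by norm_num)).mp h)))))
    have cX' : code (XJ : GG) = cX := code_X
    have cY' : code (YJ : GG) = cY := code_Y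
    rcases hpc with rfl | rfl | rfl | rfl | rfl | rfl
    · have hN : ∀ x : ↥Cfsg.Spor.J1, orderOf x = 2 → x ∈ N := fun x hx => all_mem2 g.2 hg' hx
      exact eq_top_of (prod_mem (p := 2) (l := u2x) hN (by rw [cX']; decide +kernel)) (prod_mem (p := 2) (l := u2y) hN (by rw [cY']; decide +kernel))
    · have hN : ∀ x : ↥Cfsg.Spor.J1, orderOf x = 3 → x ∈ N := fun x hx =>
        all_mem (fact_J1 3 1 (fac_eq 3 1 58520 (by norm_num) (by norm_num) (by norm_num))) g.2 hg' hx
      exact eq_top_of (prod_mem (p := 3) (l := u3x) hN (by rw [cX']; decide +kernel)) (prod_mem (p := 3) (l := u3y) hN (by rw [cY']; decide +kernel))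
    · have hN : ∀ x : ↥Cfsg.Spor.J1, orderOf x = 5 → x ∈ N := fun x hx =>
        all_mem (fact_J1 5 1 (fac_eq 5 1 35112 (by norm_num) (by norm_num) (by norm_num))) g.2 hg' hx
      exact eq_top_of (prod_mem (p := 5) (l := u5x) hN (by rw [cX']; decide +kernel)) (hN _ (by rw [← Subgroup.orderOf_coe]; exact order_Y))
    · have hN : ∀ x : ↥Cfsg.Spor.J1, orderOf x = 7 → x ∈ N := fun x hx =>
        all_mem (fact_J1 7 1 (fac_eq 7 1 25080 (by norm_num) (by norm_num) (by norm_num))) g.2 hg' hx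
      exact eq_top_of (hN _ (by rw [← Subgroup.orderOf_coe]; exact order_X)) (prod_mem (p := 7) (l := u7y) hN (by rw [cY']; decide +kernel))
    · have hN : ∀ x : ↥Cfsg.Spor.J1, orderOf x = 11 → x ∈ N := fun x hx =>
        all_mem (fact_J1 11 1 (fac_eq 11 1 15960 (by norm_num) (by norm_num) (by norm_num))) g.2 hg' hx
      exact eq_top_of (prod_mem (p := 11) (l := u11x) hN (by rw [cX']; decide +kernel)) (prod_mem (p := 11) (l := u11y) hN (by rw [cY']; decide +kernel))
    · have hN : ∀ x : ↥Cfsg.Spor.J1, orderOf x = 19 → x ∈ N := fun x hx =>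
        all_mem (fact_J1 19 1 (fac_eq 19 1 9240 (by norm_num) (by norm_num) (by norm_num))) g.2 hg' hx
      exact eq_top_of (prod_mem (p := 19) (l := u19x) hN (by rw [cX']; decide +kernel)) (prod_mem (p := 19) (l := u19y) hN (by rw [cY']; decide +kernel))

end Cfsg.Agent.H22.J1
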