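import Cfsg.Agent.H22.JanG

set_option autoImplicit false
set_option linter.all false
set_option maxRecDepth 100000

/-! The Janko group J1: the centralizer of an involution. -/

namespace Cfsg.Agent.H22.J1

open Cfsg.Spor (jankoX jankoY)
open Subgroup
open scoped Pointwise

theorem LTc_length : LTc.length = 266 := by rw [← LT_eq]; exact LT_length
theorem LHc_length : LHc.length = 660 := by rw [← LH_eq]; exact LH_length

theorem exists_THc {g : GG} (hg : g ∈ Cfsg.Spor.J1) : ∃ t ∈ LTc, ∃ h ∈ LHc, code g = mul t h := by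
  obtain ⟨t, ht, h, hh, e⟩ := exists_TH hg
  exact ⟨t, LT_eq ▸ ht, h, LH_eq ▸ hh, e⟩

/-- uniqueness of the decomposition -/
theorem TH_unique {t h t' h' : ℕ} (ht : t ∈ LTc) (hh : h ∈ LHc) (ht' : t' ∈ LTc) (hh' : h' ∈ LHc)
    (e : mul t h = mul t' h') : t = t' ∧ h = h' := by
  classical
  have h1 : 175560 ≤ ((LTc.toFinset ×ˢ LHc.toFinset).image fun p => mul p.1 p.2).card := by
    rw [← card_J1]
    have e : Nat.card Cfsg.Spor.J1 = Set.ncard (Cfsg.Spor.J1 : Set GG) := rfl
    rw [e, ← Set.ncard_coe_finset]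
    refine Set.ncard_le_ncard_of_injOn code ?_ (code_injective.injOn) (Finset.finite_toSet _)
    intro x hx
    obtain ⟨t, ht, h, hh, e⟩ := exists_THc hx
    rw [Finset.mem_coe, Finset.mem_image]
    exact ⟨(t, h), Finset.mem_product.mpr ⟨List.mem_toFinset.mpr ht, List.mem_toFinset.mpr hh⟩, e.symm⟩
  have h2 : (LTc.toFinset ×ˢ LHc.toFinset).card ≤ 175560 := by
    rw [Finset.card_product]
    have h2 := LTc.toFinset_card_le
    have h3 := LHc.toFinset_card_le
    rw [LTc_length] at h2
    rw [LHc_length] at h3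
    calc _ ≤ 266 * 660 := Nat.mul_le_mul h2 h3
      _ = 175560 := by norm_num
  have h3 := Finset.card_image_le (s := LTc.toFinset ×ˢ LHc.toFinset) (f := fun p : ℕ × ℕ => mul p.1 p.2)
  have h4 : ((LTc.toFinset ×ˢ LHc.toFinset).image fun p => mul p.1 p.2).card = (LTc.toFinset ×ˢ LHc.toFinset).card := by omega
  have h5 := Finset.card_image_iff.mp h4
  have h6 := h5 (x₁ := (t, h)) (x₂ := (t', h')) (Finset.mem_coe.mpr (Finset.mem_product.mpr ⟨List.mem_toFinset.mpr ht, List.mem_toFinset.mpr hh⟩))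
    (Finset.mem_coe.mpr (Finset.mem_product.mpr ⟨List.mem_toFinset.mpr ht', List.mem_toFinset.mpr hh'⟩)) e
  exact ⟨congrArg Prod.fst h6, congrArg Prod.snd h6⟩

/-- fast `elem` -/
def memL (l : List ℕ) (x : ℕ) : Bool :=
  List.rec (motive := fun _ => Bool) false (fun v _ ih => cond (Nat.beq x v) true ih) l

theorem memL_spec {l : List ℕ} {x : ℕ} (h : memL l x = true) : x ∈ l := by
  induction l with
  | nil => exact absurd h (by simp [memL])
  | cons v l ih =>
    have h' : cond (Nat.beq x v) true (memL l x) = true := h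
    cases h1 : Nat.beq x v
    · rw [h1, cond_false] at h'
      exact List.mem_cons_of_mem _ (ih h')
    · rw [Nat.eq_of_beq_eq_true h1]
      exact List.mem_cons_self

/-- the check on the coset `t H` -/
def chkC1 (t : ℕ) (c : ℕ × ℕ) : Bool :=
  frc (mul ca t) fun v =>
    cond (Nat.beq v (mul (nth LTc c.1) (nth LHc c.2)))
      (cond (Nat.beq (nth LTc c.1) t)
        (allL (fun h => frc (mul t h) fun g => cond (Nat.beq (mul ca g) (mul g ca)) (memL CLc g) true) LHc) true)
      false

def chkC : List ℕ → List (ℕ × ℕ) → Bool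
  | [], _ => true
  | t :: l, c :: cs => cond (chkC1 t c) (chkC l cs) false
  | _ :: _, [] => false

theorem chkC_ok : chkC LTc certA = true := by decide +kernel

theorem chkC1_spec {t : ℕ} {c : ℕ × ℕ} (h : chkC1 t c = true) :
    mul ca t = mul (nth LTc c.1) (nth LHc c.2) ∧
      (nth LTc c.1 = t → ∀ h ∈ LHc, mul ca (mul t h) = mul (mul t h) ca → mul t h ∈ CLc) := by
  unfold chkC1 at h
  rw [frc_eq] at h
  simp only [cond_eq_ite, Bool.ite_eq_true_distrib] at h
  split_ifs at h with h1 h2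
  · refine ⟨Nat.eq_of_beq_eq_true h1, fun _ k hk hc => ?_⟩
    rw [allL_eq, List.all_eq_true] at h
    have h3 := h k hk
    simp only [frc_eq] at h3
    rw [if_pos (by rw [hc]; exact Nat.beq_refl _)] at h3
    exact memL_spec h3
  · refine ⟨Nat.eq_of_beq_eq_true h1, fun h3 => ?_⟩
    rw [h3, Nat.beq_refl] at h2
    exact absurd rfl h2

theorem chkC_spec : ∀ {l : List ℕ} {cs : List (ℕ × ℕ)}, chkC l cs = true → ∀ t ∈ l, ∃ c, chkC1 t c = true := by
  intro l
  induction l with
  | nil => intro cs _ s hs; exact absurd hs (List.not_mem_nil)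
  | cons a l ih =>
    intro cs h s hs
    rcases cs with _ | ⟨c, cs⟩
    · exact absurd h (by simp [chkC])
    · simp only [chkC, cond_eq_ite, Bool.ite_eq_true_distrib] at h
      split_ifs at h with h1
      · rcases List.mem_cons.mp hs with rfl | hs
        · exact ⟨c, h1⟩
        · exact ih h s hs

theorem LHc_one : cOne ∈ LHc := by rw [← LH_eq]; exact one_mem_LH

theorem aG_mem : aG ∈ HH := Subgroup.subset_closure (Or.inl rfl)

/-- the centralizer of `a` -/
theorem cent_mem {g : GG} (hg : g ∈ Cfsg.Spor.J1) (hc : aG * g = g * aG) : code g ∈ CLc := by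
  obtain ⟨t, ht, h, hh, e⟩ := exists_THc hg
  obtain ⟨t', ht', rfl⟩ := LTc_code t ht
  obtain ⟨h', hh', rfl⟩ := LHc_code h hh
  obtain ⟨c, hc1⟩ := chkC_spec chkC_ok _ ht
  obtain ⟨e1, e2⟩ := chkC1_spec hc1
  have e' : g = t' * h' := code_injective (by rw [e, code_mul])
  have hne : mul (nth LTc c.1) (nth LHc c.2) ≠ 0 := by
    rw [← e1, ← code_a, ← code_mul]; exact code_ne_zero _
  have hm1 : nth LTc c.1 ∈ LTc := nth_mem (fun h0 => hne (by rw [h0, mul_zero_left]))
  have hm2 : nth LHc c.2 ∈ LHc := nth_mem (fun h0 => hne (by rw [h0, mul_zero_right]))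
  obtain ⟨u, hu, hu'⟩ := LTc_code _ hm1
  obtain ⟨k, hk, hk'⟩ := LHc_code _ hm2
  rw [e]
  apply e2
  · -- uniqueness
    rw [← hu', ← hk', ← code_a, ← code_mul, ← code_mul] at e1
    have e3 : aG * t' = u * k := code_injective e1
    have e4 : u * (k * h') = t' * (h' * aG) := by
      rw [← mul_assoc, ← e3, ← mul_assoc, ← e', mul_assoc, ← e', hc]
    have e5 : mul (code u) (code (k * h')) = mul (code t') (code (h' * aG)) := by
      rw [← code_mul, ← code_mul, e4]
    rw [← hu']
    exact (TH_unique (hu' ▸ hm1) (mem_LHc (HH.mul_mem hk hh')) ht (mem_LHc (HH.mul_mem hh' aG_mem)) e5).1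
  · exact hh
  · rw [← code_mul, ← code_a, ← code_mul, ← code_mul, ← e', hc]

def aJ : ↥Cfsg.Spor.J1 := ⟨aG, wG_mem _⟩

theorem order_a : orderOf aG = 2 := by
  unfold aG
  exact orderOf_w _ 2 (by decide +kernel) (by decide +kernel)

theorem order_aJ : orderOf aJ = 2 := by
  rw [← Subgroup.orderOf_coe]; exact order_a

theorem card_cent_le : Nat.card (centralizer ({aJ} : Set ↥Cfsg.Spor.J1)) ≤ 120 := by
  classical
  have h1 : CLc.toFinset.card ≤ 120 := by
    refine (List.toFinset_card_le _).trans ?_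
    have : Nat.ble CLc.length 120 = true := by decide +kernel
    exact Nat.le_of_ble_eq_true this
  refine le_trans ?_ h1
  have h2 : Nat.card (centralizer ({aJ} : Set ↥Cfsg.Spor.J1)) =
      ((centralizer ({aJ} : Set ↥Cfsg.Spor.J1) : Subgroup ↥Cfsg.Spor.J1) : Set ↥Cfsg.Spor.J1).ncard := rfl
  rw [h2, ← Set.ncard_coe_finset]
  refine Set.ncard_le_ncard_of_injOn (fun x : ↥Cfsg.Spor.J1 => code (x : GG)) ?_ ?_ (Finset.finite_toSet _)
  · intro x hx
    rw [Finset.mem_coe, List.mem_toFinset]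
    refine cent_mem x.2 ?_
    have h3 := (Subgroup.mem_centralizer_iff.mp hx) aJ rfl
    exact congrArg Subtype.val h3
  · intro x _ y _ h
    exact Subtype.ext (code_injective h)

/-! ### The subgroup `A5` -/

theorem exists_K : ∃ K : Subgroup GG, K ≤ Cfsg.Spor.J1 ∧ (∀ x, x ∈ K ↔ code x ∈ Kw.map wN) ∧ Nat.card K = 60 :=
  exists_sub Kw (by decide +kernel)

theorem exists_B : ∃ K : Subgroup GG, K ≤ Cfsg.Spor.J1 ∧ (∀ x, x ∈ K ↔ code x ∈ Bw.map wN) ∧ Nat.card K = 12 :=
  exists_sub Bw (by decide +kernel)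

theorem BK : (frcL (Kw.map wN) fun K => frcL (Bw.map wN) fun B => B.all fun b => memL K b) = true := by decide +kernel

theorem comm_K : (frcL (Kw.map wN) fun K => K.all fun k => Nat.beq (mul ca k) (mul k ca)) = true := by decide +kernel

theorem a_not_K : (frcL (Kw.map wN) fun K => K.all fun k => ! Nat.beq k ca) = true := by decide +kernel

theorem k_mem : (frcL (Kw.map wN) fun K => memL K (wN k1w) && memL K (wN k2w)) = true := by decide +kernel

theorem core_chk : (frcL (Bw.map wN) fun B => frc (wN k1w) fun k1 => frc (wN k2w) fun k2 => B.all fun b =>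
    Nat.beq b cOne || (B.all fun b' => ! Nat.beq (mul k1 b) (mul b' k1)) || (B.all fun b' => ! Nat.beq (mul k2 b) (mul b' k2))) = true := by decide +kernel

theorem core_spec {B : List ℕ} {k1 k2 : ℕ} (h : (B.all fun b =>
    Nat.beq b cOne || (B.all fun b' => ! Nat.beq (mul k1 b) (mul b' k1)) || (B.all fun b' => ! Nat.beq (mul k2 b) (mul b' k2))) = true)
    {b : ℕ} (hb : b ∈ B) : b = cOne ∨ (∀ b' ∈ B, mul k1 b ≠ mul b' k1) ∨ (∀ b' ∈ B, mul k2 b ≠ mul b' k2) := by
  rw [List.all_eq_true] at h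
  have h1 := h b hb
  rw [Bool.or_eq_true, Bool.or_eq_true] at h1
  have key : ∀ k : ℕ, (B.all fun b' => ! Nat.beq (mul k b) (mul b' k)) = true → ∀ b' ∈ B, mul k b ≠ mul b' k := by
    intro k h2 b' hb' e
    rw [List.all_eq_true] at h2
    have h3 := h2 b' hb'
    rw [e, Nat.beq_refl] at h3
    exact absurd h3 (by decide)
  rcases h1 with (h1 | h1) | h1
  · exact Or.inl (Nat.eq_of_beq_eq_true h1)
  · exact Or.inr (Or.inl (key _ h1))
  · exact Or.inr (Or.inr (key _ h1))

theorem core_spec' {b : ℕ} (hb : b ∈ Bw.map wN) : b = cOne ∨ (∀ b' ∈ Bw.map wN, mul (wN k1w) b ≠ mul b' (wN k1w)) ∨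
    (∀ b' ∈ Bw.map wN, mul (wN k2w) b ≠ mul b' (wN k2w)) := by
  have h := core_chk
  rw [frcL_eq, frc_eq, frc_eq] at h
  exact core_spec h hb

/-- a group of order 60 with a core-free subgroup of index 5 is `A5` -/
theorem alt5_of {Γ : Type*} [Group Γ] [Finite Γ] (hΓ : Nat.card Γ = 60) (B : Subgroup Γ) (hB : B.index = 5)
    (hcore : B.normalCore = ⊥) : Nonempty (Γ ≃* alternatingGroup (Fin 5)) := by
  classical
  haveI : Finite (Γ ⧸ B) := Subgroup.finite_quotient_of_finiteIndex
  have e5 : Nat.card (Γ ⧸ B) = 5 := hB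
  let e : (Γ ⧸ B) ≃ Fin 5 := Finite.equivFinOfCardEq e5
  let f : Γ →* Equiv.Perm (Fin 5) := (e.permCongrHom : Equiv.Perm (Γ ⧸ B) ≃* Equiv.Perm (Fin 5)).toMonoidHom.comp
    (MulAction.toPermHom Γ (Γ ⧸ B))
  have hf : Function.Injective f := by
    refine (e.permCongrHom).injective.comp ?_
    rw [← MonoidHom.ker_eq_bot_iff, ← Subgroup.normalCore_eq_ker]
    exact hcore
  have hr : Nat.card f.range = 60 := by
    rw [← hΓ]
    exact (Nat.card_congr (MonoidHom.ofInjective hf).toEquiv).symm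
  have hi : f.range.index = 2 := by
    have h1 := f.range.card_mul_index
    rw [hr, Nat.card_perm, Nat.card_eq_fintype_card, Fintype.card_fin] at h1
    have : Nat.factorial 5 = 120 := rfl
    omega
  have h2 := Equiv.Perm.eq_alternatingGroup_of_index_eq_two hi
  exact ⟨(MonoidHom.ofInjective hf).trans (MulEquiv.subgroupCongr h2)⟩

theorem cent_iso : Nonempty (↥(centralizer ({aJ} : Set ↥Cfsg.Spor.J1)) ≃* Multiplicative (ZMod 2) × ↥(alternatingGroup (Fin 5))) := by
  classical
  obtain ⟨K, hK, hKm, hKc⟩ := exists_K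
  obtain ⟨B, hB, hBm, hBc⟩ := exists_B
  have hBK : B ≤ K := by
    intro x hx
    have h := BK
    rw [frcL_eq, frcL_eq, List.all_eq_true] at h
    exact (hKm x).mpr (memL_spec (h _ ((hBm x).mp hx)))
  have hkm := k_mem
  rw [frcL_eq, Bool.and_eq_true] at hkm
  have hk1 : wG k1w ∈ K := (hKm _).mpr (by rw [code_w]; exact memL_spec hkm.1)
  have hk2 : wG k2w ∈ K := (hKm _).mpr (by rw [code_w]; exact memL_spec hkm.2)
  -- `K ≃ A5`
  have hindex : (B.subgroupOf K).index = 5 := by
    have h1 := (B.subgroupOf K).card_mul_index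
    rw [Nat.card_congr (subgroupOfEquivOfLe hBK).toEquiv, hBc, hKc] at h1
    omega
  have hcore : (B.subgroupOf K).normalCore = ⊥ := by
    rw [eq_bot_iff]
    intro x hx
    have hx1 : ∀ k : K, k * x * k⁻¹ ∈ B.subgroupOf K := fun k => hx k
    have hxB : code (x : GG) ∈ Bw.map wN := (hBm _).mp (mem_subgroupOf.mp (by simpa using hx1 1))
    have key : ∀ w : List Bool, (hw : wG w ∈ K) → ¬ (∀ b' ∈ Bw.map wN, mul (wN w) (code (x : GG)) ≠ mul b' (wN w)) := by
      intro w hw h2
      have h3 := mem_subgroupOf.mp (hx1 ⟨wG w, hw⟩)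
      refine h2 _ ((hBm _).mp h3) ?_
      rw [← code_w, ← code_mul, ← code_mul]
      congr 1
      push_cast
      group
    rcases core_spec' hxB with h1 | h1 | h1
    · rw [Subgroup.mem_bot]
      exact Subtype.ext (code_eq_one.mp h1)
    · exact absurd h1 (key _ hk1)
    · exact absurd h1 (key _ hk2)
  obtain ⟨φ⟩ := alt5_of hKc (B.subgroupOf K) hindex hcore
  -- the homomorphism
  have hcomm : ∀ x ∈ K, aG * x = x * aG := by
    intro x hx
    have h := comm_K
    rw [frcL_eq, List.all_eq_true] at h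
    have h1 := Nat.eq_of_beq_eq_true (h _ ((hKm x).mp hx))
    rw [← code_a, ← code_mul, ← code_mul] at h1
    exact code_injective h1
  have haK : aG ∉ K := by
    intro h0
    have h := a_not_K
    rw [frcL_eq, List.all_eq_true] at h
    have h1 := h _ ((hKm _).mp h0)
    rw [code_a, Nat.beq_refl] at h1
    exact absurd h1 (by decide)
  haveI : IsCyclic (zpowers aJ) := inferInstance
  haveI : IsCyclic (Multiplicative (ZMod 2)) := inferInstance
  have hz2 : Nat.card (zpowers aJ) = 2 := by rw [Nat.card_zpowers, order_aJ]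
  have e1 : Nat.card (Multiplicative (ZMod 2)) = Nat.card (zpowers aJ) := by
    rw [hz2]; simp
  let α : Multiplicative (ZMod 2) ≃* zpowers aJ := mulEquivOfCyclicCardEq e1
  let f1 : Multiplicative (ZMod 2) →* ↥Cfsg.Spor.J1 := (zpowers aJ).subtype.comp α.toMonoidHom
  let f2 : ↥(alternatingGroup (Fin 5)) →* ↥Cfsg.Spor.J1 := (Subgroup.inclusion hK).comp φ.symm.toMonoidHom
  have hf1 : Function.Injective f1 := (Subgroup.subtype_injective _).comp α.injective
  have hf2 : Function.Injective f2 := (Subgroup.inclusion_injective hK).comp φ.symm.injective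
  have hf2K : ∀ x, (f2 x : GG) ∈ K := fun x => (φ.symm x).2
  have hf1z : ∀ x, f1 x ∈ zpowers aJ := fun x => (α x).2
  have hcom : ∀ x y, Commute (f1 x) (f2 y) := by
    intro x y
    obtain ⟨n, hn⟩ := mem_zpowers_iff.mp (hf1z x)
    rw [← hn]
    apply Commute.zpow_left
    exact Subtype.ext (hcomm _ (hf2K y))
  let f := MonoidHom.noncommCoprod f1 f2 hcom
  have hf : Function.Injective f := by
    rw [← MonoidHom.ker_eq_bot_iff, eq_bot_iff]
    rintro ⟨x, y⟩ hxy
    rw [MonoidHom.mem_ker, MonoidHom.noncommCoprod_apply] at hxy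
    have h1 : f1 x = 1 := by
      obtain ⟨n, hn⟩ := mem_zpowers_iff.mp (hf1z x)
      have h2 : (f1 x : GG) ∈ K := by
        have h3 : f1 x = (f2 y)⁻¹ := eq_inv_of_mul_eq_one_left hxy
        rw [h3]; exact K.inv_mem (hf2K y)
      have h4 : f1 x = 1 ∨ f1 x = aJ := by
        rw [← hn]
        rcases Int.even_or_odd n with ⟨k, hk⟩ | ⟨k, hk⟩
        · left
          rw [hk, ← two_mul, zpow_mul, zpow_ofNat]
          have : aJ ^ 2 = 1 := by rw [← order_aJ]; exact pow_orderOf_eq_one _
          rw [this, one_zpow]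
        · right
          rw [hk, zpow_add, zpow_mul, zpow_ofNat, zpow_one]
          have : aJ ^ 2 = 1 := by rw [← order_aJ]; exact pow_orderOf_eq_one _
          rw [this, one_zpow, one_mul]
      rcases h4 with h4 | h4
      · exact h4
      · rw [h4] at h2; exact absurd h2 haK
    have h2 : f2 y = 1 := by rw [h1, one_mul] at hxy; exact hxy
    rw [Subgroup.mem_bot]
    exact Prod.ext (hf1 (h1.trans (map_one f1).symm)) (hf2 (h2.trans (map_one f2).symm))
  have hrange : f.range ≤ centralizer ({aJ} : Set ↥Cfsg.Spor.J1) := by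
    rintro z ⟨⟨x, y⟩, rfl⟩
    rw [Subgroup.mem_centralizer_iff]
    rintro b rfl
    rw [MonoidHom.noncommCoprod_apply]
    have h1 : Commute aJ (f1 x) := by
      obtain ⟨n, hn⟩ := mem_zpowers_iff.mp (hf1z x)
      rw [← hn]
      exact (Commute.refl aJ).zpow_right n
    have h2 : Commute aJ (f2 y) := Subtype.ext (hcomm _ (hf2K y))
    exact h1.mul_right h2
  have hcard : Nat.card f.range = 120 := by
    rw [← Nat.card_congr (MonoidHom.ofInjective hf).toEquiv, Nat.card_prod]
    have h1 : Nat.card (Multiplicative (ZMod 2)) = 2 := by rw [e1, hz2]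
    have h2 : Nat.card ↥(alternatingGroup (Fin 5)) = 60 := by
      rw [← hKc]; exact (Nat.card_congr φ.toEquiv).symm
    rw [h1, h2]
  have heq : f.range = centralizer ({aJ} : Set ↥Cfsg.Spor.J1) :=
    Subgroup.eq_of_le_of_card_ge hrange (by rw [hcard]; exact card_cent_le)
  exact ⟨((MonoidHom.ofInjective hf).trans (MulEquiv.subgroupCongr heq)).symm⟩

end Cfsg.Agent.H22.J1
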