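import Cfsg.Agent.H22.JanI
import Cfsg.Prelude.Def_KGroupFacts

set_option autoImplicit false
set_option linter.all false
set_option maxRecDepth 100000

/-! The Janko group J1: automorphisms. -/

namespace Cfsg.Agent.H22.J1

open Cfsg.Spor (jankoX jankoY)
open Subgroup
open scoped Pointwise

namespace BT

def In : BT → ℕ → Prop
  | lf, _ => False
  | nd l v r, x => x = v ∨ l.In x ∨ r.In x

noncomputable def mem (T : BT) (x : ℕ) : Bool :=
  BT.rec (motive := fun _ => Bool) false (fun _ v _ il ir => cond (Nat.beq x v) true (cond (Nat.ble x v) il ir)) T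

noncomputable def all (p : ℕ → Bool) (T : BT) : Bool :=
  BT.rec (motive := fun _ => Bool) true (fun _ v _ il ir => cond (p v) (cond il ir false) false) T

theorem mem_spec {T : BT} {x : ℕ} (h : T.mem x = true) : T.In x := by
  induction T with
  | lf => exact absurd h (by simp [mem])
  | nd l v r ihl ihr =>
    have h' : cond (Nat.beq x v) true (cond (Nat.ble x v) (l.mem x) (r.mem x)) = true := h
    cases h1 : Nat.beq x v
    · rw [h1, cond_false] at h'
      cases h2 : Nat.ble x v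
      · rw [h2, cond_false] at h'
        exact Or.inr (Or.inr (ihr h'))
      · rw [h2, cond_true] at h'
        exact Or.inr (Or.inl (ihl h'))
    · exact Or.inl (Nat.eq_of_beq_eq_true h1)

theorem all_spec {T : BT} {p : ℕ → Bool} (h : T.all p = true) {x : ℕ} (hx : T.In x) : p x = true := by
  induction T with
  | lf => exact absurd hx id
  | nd l v r ihl ihr =>
    have h' : cond (p v) (cond (l.all p) (r.all p) false) false = true := h
    cases h1 : p v
    · rw [h1, cond_false] at h'; exact absurd h' (by decide)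
    rw [h1, cond_true] at h'
    cases h2 : l.all p
    · rw [h2, cond_false] at h'; exact absurd h' (by decide)
    rw [h2, cond_true] at h'
    rcases hx with rfl | hx | hx
    · exact h1
    · exact ihl h2 hx
    · exact ihr h' hx

end BT

attribute [local irreducible] invT goodL LHc LTc CLc

theorem clX_ok : (frc (npw cX 6) fun xi => invT.all fun x => invT.mem (mul (mul cX x) xi)) = true := by decide +kernel
theorem clY_ok : (frc (npw cY 4) fun yi => invT.all fun x => invT.mem (mul (mul cY x) yi)) = true := by decide +kernel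
theorem w2_in : invT.mem (wN w2) = true := by decide +kernel

/-- the relations satisfied by `X` and `a` -/
def relOk (x : ℕ) : Bool :=
  frc (mul (npw cX 2) x) fun u2 => frc (mul (npw cX 3) x) fun u3 => frc (mul (npw cX 4) x) fun u4 =>
    frc (mul (mul u2 u3) u4) fun w => Nat.beq (npw w 3) cOne && Nat.beq (npw u2 10) cOne

theorem rel_ok : (invT.all fun x => cond (relOk x) (memL goodL x) true) = true := by decide +kernel

theorem rel_spec {x : ℕ} (hx : invT.In x) (h : relOk x = true) : x ∈ goodL := by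
  have h1 := BT.all_spec (p := fun x => cond (relOk x) (memL goodL x) true) rel_ok hx
  beta_reduce at h1
  rw [h, cond_true] at h1
  exact memL_spec h1

theorem rel_iff (g : GG) : relOk (code g) = true ↔
    (jankoX ^ 2 * g * (jankoX ^ 3 * g) * (jankoX ^ 4 * g)) ^ 3 = 1 ∧ (jankoX ^ 2 * g) ^ 10 = 1 := by
  unfold relOk
  simp only [frc_eq]
  rw [← code_X, ← code_pow, ← code_pow, ← code_pow, ← code_mul, ← code_mul, ← code_mul, ← code_mul, ← code_mul, ← code_pow,
    ← code_pow, Bool.and_eq_true]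
  have key : ∀ x : GG, Nat.beq (code x) cOne = true ↔ x = 1 := by
    intro x
    rw [← code_eq_one]
    exact ⟨Nat.eq_of_beq_eq_true, fun h => by rw [h]; exact Nat.beq_refl _⟩
  rw [key, key]

theorem X_inv : jankoX⁻¹ = jankoX ^ 6 := by rw [inv_eq_iff_mul_eq_one, ← pow_succ']; exact X_pow
theorem Y_inv : jankoY⁻¹ = jankoY ^ 4 := by rw [inv_eq_iff_mul_eq_one, ← pow_succ']; exact Y_pow

theorem In_X {g : GG} (h : invT.In (code g)) : invT.In (code (jankoX * g * jankoX⁻¹)) := by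
  have h1 := clX_ok
  rw [frc_eq] at h1
  have h2 := BT.mem_spec (BT.all_spec h1 h)
  rw [X_inv, code_mul, code_mul, code_pow, code_X]
  exact h2

theorem In_Y {g : GG} (h : invT.In (code g)) : invT.In (code (jankoY * g * jankoY⁻¹)) := by
  have h1 := clY_ok
  rw [frc_eq] at h1
  have h2 := BT.mem_spec (BT.all_spec h1 h)
  rw [Y_inv, code_mul, code_mul, code_pow, code_Y]
  exact h2

theorem In_pow {z : GG} (hz : ∀ g : GG, invT.In (code g) → invT.In (code (z * g * z⁻¹))) (n : ℕ) :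
    ∀ g : GG, invT.In (code g) → invT.In (code (z ^ n * g * (z ^ n)⁻¹)) := by
  induction n with
  | zero => intro g hg; simpa using hg
  | succ n ih =>
    intro g hg
    have e : z ^ (n + 1) * g * (z ^ (n + 1))⁻¹ = z * (z ^ n * g * (z ^ n)⁻¹) * z⁻¹ := by
      rw [pow_succ', mul_inv_rev]; group
    rw [e]
    exact hz _ (ih g hg)

theorem In_conj {k : GG} (hk : k ∈ Cfsg.Spor.J1) : ∀ g : GG, invT.In (code g) → invT.In (code (k * g * k⁻¹)) := by
  unfold Cfsg.Spor.J1 at hk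
  induction hk using Subgroup.closure_induction with
  | mem x hx =>
    rcases hx with rfl | rfl
    · exact fun g hg => In_X hg
    · exact fun g hg => In_Y hg
  | one => intro g hg; simpa using hg
  | mul x y hx hy h1 h2 =>
    intro g hg
    have e : x * y * g * (x * y)⁻¹ = x * (y * g * y⁻¹) * x⁻¹ := by group
    rw [e]; exact h1 _ (h2 g hg)
  | inv x hx h1 =>
    have e : x⁻¹ = x ^ (orderOf x - 1) := by
      apply inv_eq_of_mul_eq_one_right
      rw [mul_pow_sub_one (orderOf_pos x).ne', pow_orderOf_eq_one]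
    rw [e]
    exact In_pow h1 _

/-- all the involutions -/
theorem inv_In {g : ↥Cfsg.Spor.J1} (ho : orderOf g = 2) : invT.In (code (g : GG)) := by
  obtain ⟨k, rfl⟩ := invol_conj ho
  have h := In_conj k.2 (wG w2) (by rw [code_w]; exact BT.mem_spec w2_in)
  exact h

theorem good_spec {x : ℕ} (h : x ∈ goodL) : ∃ k : ℕ, x = code (jankoX ^ k * aG * (jankoX ^ k)⁻¹) := by
  have key : ∀ (k : ℕ) (v : ℕ), k ≤ 7 → Nat.beq v (mul (mul (npw cX k) ca) (npw cX (7 - k))) = true →
      v = code (jankoX ^ k * aG * (jankoX ^ k)⁻¹) := by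
    intro k v hk h
    have e : (jankoX ^ k)⁻¹ = jankoX ^ (7 - k) := by
      rw [inv_eq_iff_mul_eq_one, ← pow_add]
      have : k + (7 - k) = 7 := by omega
      rw [this, X_pow]
    rw [e, code_mul, code_mul, code_pow, code_pow, code_X, code_a]
    exact Nat.eq_of_beq_eq_true h
  unfold goodL at h
  simp only [List.mem_cons, List.not_mem_nil, or_false] at h
  rcases h with h | h | h | h | h | h | h
  · exact ⟨0, key 0 _ (by norm_num) (by rw [h]; decide +kernel)⟩
  · exact ⟨1, key 1 _ (by norm_num) (by rw [h]; decide +kernel)⟩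
  · exact ⟨2, key 2 _ (by norm_num) (by rw [h]; decide +kernel)⟩
  · exact ⟨3, key 3 _ (by norm_num) (by rw [h]; decide +kernel)⟩
  · exact ⟨4, key 4 _ (by norm_num) (by rw [h]; decide +kernel)⟩
  · exact ⟨5, key 5 _ (by norm_num) (by rw [h]; decide +kernel)⟩
  · exact ⟨6, key 6 _ (by norm_num) (by rw [h]; decide +kernel)⟩

/-- `n X n⁻¹ = X ^ 3` -/
theorem nw_conj : wG nw * jankoX * (wG nw)⁻¹ = jankoX ^ 3 := by
  rw [mul_inv_eq_iff_eq_mul]
  apply eq_of_code
  rw [code_mul, code_mul, code_pow, code_w, code_X]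
  decide +kernel

theorem order_XJ : orderOf XJ = 7 := by rw [← Subgroup.orderOf_coe]; exact order_X

theorem conj_n (j : ℕ) : (wJ nw) ^ j * XJ * ((wJ nw) ^ j)⁻¹ = XJ ^ (3 ^ j) := by
  have h0 : wJ nw * XJ * (wJ nw)⁻¹ = XJ ^ 3 := Subtype.ext nw_conj
  induction j with
  | zero => simp
  | succ j ih =>
    have e : (wJ nw) ^ (j + 1) * XJ * ((wJ nw) ^ (j + 1))⁻¹ = wJ nw * ((wJ nw) ^ j * XJ * ((wJ nw) ^ j)⁻¹) * (wJ nw)⁻¹ := by
      rw [pow_succ', mul_inv_rev]; group
    rw [e, ih, ← conj_pow, h0, ← pow_mul, pow_succ, mul_comm]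

/-- all the elements of order 7 are conjugate -/
theorem conj7 {x : ↥Cfsg.Spor.J1} (hx : orderOf x = 7) : ∃ c : ↥Cfsg.Spor.J1, c * x * c⁻¹ = XJ := by
  have hf := fact_J1 7 1 (fac_eq 7 1 25080 (by norm_num) (by norm_num) (by norm_num))
  have key : ∀ y : ↥Cfsg.Spor.J1, orderOf y = 7 → Nat.card (zpowers y) = 7 ^ (Nat.card ↥Cfsg.Spor.J1).factorization 7 := by
    intro y hy
    rw [Nat.card_zpowers, hy, hf, pow_one]
  let P : Sylow 7 ↥Cfsg.Spor.J1 := Sylow.ofCard (zpowers x) (key x hx)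
  let Q : Sylow 7 ↥Cfsg.Spor.J1 := Sylow.ofCard (zpowers XJ) (key XJ order_XJ)
  obtain ⟨c, hc⟩ := MulAction.exists_smul_eq ↥Cfsg.Spor.J1 P Q
  have h1 : c * x * c⁻¹ ∈ (Q : Subgroup ↥Cfsg.Spor.J1) := by
    rw [← hc]
    have : MulAut.conj c • x ∈ (MulAut.conj c • (P : Subgroup ↥Cfsg.Spor.J1)) :=
      Subgroup.smul_mem_pointwise_smul _ _ _ (mem_zpowers x)
    exact this
  obtain ⟨m, hm⟩ := mem_zpowers_iff.mp (show c * x * c⁻¹ ∈ zpowers XJ from h1)
  -- `m = 3 ^ j`
  have h7 : XJ ^ 7 = 1 := by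
    have := pow_orderOf_eq_one XJ
    rwa [order_XJ] at this
  have hmod : XJ ^ (m % 7) = XJ ^ m := by
    conv_rhs => rw [← Int.emod_add_mul_ediv m 7, zpow_add, zpow_mul]
    have : XJ ^ (7 : ℤ) = 1 := by exact_mod_cast h7
    rw [this, one_zpow, mul_one]
  have hne : m % 7 ≠ 0 := by
    intro h0
    rw [← hmod, h0, zpow_zero] at hm
    have h2 : x = 1 := by
      have e : x = c⁻¹ * (c * x * c⁻¹) * c := by group
      rw [e, ← hm]; group
    rw [h2, orderOf_one] at hx
    exact absurd hx (by norm_num)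
  have hlt : 0 ≤ m % 7 ∧ m % 7 < 7 := ⟨Int.emod_nonneg _ (by norm_num), Int.emod_lt_of_pos _ (by norm_num)⟩
  have hex : ∃ j : ℕ, XJ ^ m = XJ ^ (3 ^ j) := by
    rw [← hmod]
    have h3 : ∀ r j k : ℕ, 3 ^ j = 7 * k + r → XJ ^ ((r : ℕ) : ℤ) = XJ ^ (3 ^ j) := by
      intro r j k h
      rw [h, pow_add, pow_mul, h7, one_pow, one_mul, zpow_natCast]
    generalize hr : m % 7 = r at *
    obtain ⟨h4, h5⟩ := hlt
    interval_cases r
    · exact absurd rfl hne
    · exact ⟨0, by exact_mod_cast h3 1 0 0 (by norm_num)⟩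
    · exact ⟨2, by exact_mod_cast h3 2 2 1 (by norm_num)⟩
    · exact ⟨1, by exact_mod_cast h3 3 1 0 (by norm_num)⟩
    · exact ⟨4, by exact_mod_cast h3 4 4 11 (by norm_num)⟩
    · exact ⟨5, by exact_mod_cast h3 5 5 34 (by norm_num)⟩
    · exact ⟨3, by exact_mod_cast h3 6 3 3 (by norm_num)⟩
  obtain ⟨j, hj⟩ := hex
  refine ⟨((wJ nw) ^ j)⁻¹ * c, ?_⟩
  have e1 : ((wJ nw) ^ j)⁻¹ * c * x * (((wJ nw) ^ j)⁻¹ * c)⁻¹ = ((wJ nw) ^ j)⁻¹ * (c * x * c⁻¹) * (wJ nw) ^ j := by group
  rw [e1, ← hm, hj, ← conj_n]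
  group

/-- `Y` as a word in `X` and `a` -/
theorem closure_Xa : Subgroup.closure ({XJ, aJ} : Set ↥Cfsg.Spor.J1) = ⊤ := by
  rw [eq_top_iff, ← closure_XY, closure_le]
  have hX : XJ ∈ Subgroup.closure ({XJ, aJ} : Set ↥Cfsg.Spor.J1) := subset_closure (Or.inl rfl)
  have ha : aJ ∈ Subgroup.closure ({XJ, aJ} : Set ↥Cfsg.Spor.J1) := subset_closure (Or.inr rfl)
  rintro x (rfl | rfl)
  · exact hX
  · have e : YJ = XJ * aJ * XJ ^ 2 * aJ * XJ ^ 2 * aJ * XJ ^ 3 * aJ * XJ ^ 4 * aJ * XJ * aJ * XJ ^ 2 * aJ := by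
      apply Subtype.ext
      apply eq_of_code
      push_cast
      show code jankoY = code (jankoX * aG * jankoX ^ 2 * aG * jankoX ^ 2 * aG * jankoX ^ 3 * aG * jankoX ^ 4 * aG * jankoX * aG * jankoX ^ 2 * aG)
      simp only [code_mul, code_pow, code_X, code_Y, code_a]
      decide +kernel
    rw [e]
    have hp : ∀ k : ℕ, XJ ^ k ∈ Subgroup.closure ({XJ, aJ} : Set ↥Cfsg.Spor.J1) := fun k => pow_mem hX k
    exact mul_mem (mul_mem (mul_mem (mul_mem (mul_mem (mul_mem (mul_mem (mul_mem (mul_mem (mul_mem (mul_mem (mul_mem (mul_mem hX ha) (hp 2)) ha)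
      (hp 2)) ha) (hp 3)) ha) (hp 4)) ha) hX) ha) (hp 2)) ha

theorem rel_a : (XJ ^ 2 * aJ * (XJ ^ 3 * aJ) * (XJ ^ 4 * aJ)) ^ 3 = 1 ∧ (XJ ^ 2 * aJ) ^ 10 = 1 := by
  have h : relOk (code aG) = true := by rw [code_a]; decide +kernel
  obtain ⟨h1, h2⟩ := (rel_iff aG).mp h
  exact ⟨Subtype.ext h1, Subtype.ext h2⟩

theorem inner (α : MulAut ↥Cfsg.Spor.J1) : ∃ c : ↥Cfsg.Spor.J1, α = MulAut.conj c := by
  have h7 : orderOf (α XJ) = 7 := by rw [MulEquiv.orderOf_eq]; exact order_XJ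
  obtain ⟨c, hc⟩ := conj7 h7
  set β : MulAut ↥Cfsg.Spor.J1 := MulAut.conj c * α with hβ
  have hβX : β XJ = XJ := hc
  have h2 : orderOf (β aJ) = 2 := by rw [MulEquiv.orderOf_eq]; exact order_aJ
  have hin := inv_In h2
  have hrel : relOk (code ((β aJ : ↥Cfsg.Spor.J1) : GG)) = true := by
    rw [rel_iff]
    obtain ⟨r1, r2⟩ := rel_a
    have r1' := congrArg β r1
    have r2' := congrArg β r2
    simp only [map_mul, map_pow, map_one, hβX] at r1' r2'
    have hXc : ((XJ : ↥Cfsg.Spor.J1) : GG) = jankoX := rfl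
    have r1'' := congrArg Subtype.val r1'
    have r2'' := congrArg Subtype.val r2'
    simp only [Subgroup.coe_mul, Subgroup.coe_pow, Subgroup.coe_one, hXc] at r1'' r2''
    exact ⟨r1'', r2''⟩
  obtain ⟨k, hk⟩ := good_spec (rel_spec hin hrel)
  have hk' : β aJ = XJ ^ k * aJ * (XJ ^ k)⁻¹ := Subtype.ext (code_injective hk)
  have heq : β = MulAut.conj (XJ ^ k) := by
    have h3 : β.toMonoidHom = (MulAut.conj (XJ ^ k)).toMonoidHom := by
      apply MonoidHom.eq_of_eqOn_dense closure_Xa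
      rintro x (rfl | rfl)
      · show β XJ = XJ ^ k * XJ * (XJ ^ k)⁻¹
        rw [hβX, ← pow_succ, pow_succ', mul_inv_cancel_right]
      · exact hk'
    ext1 x
    exact DFunLike.congr_fun h3 x
  refine ⟨c⁻¹ * XJ ^ k, ?_⟩
  rw [map_mul, ← heq, hβ, map_inv, inv_mul_cancel_left]

theorem out_one : Nat.card (Cfsg.Out ↥Cfsg.Spor.J1) = 1 := by
  have h : Cfsg.Inn ↥Cfsg.Spor.J1 = ⊤ := by
    rw [eq_top_iff]
    intro α _
    obtain ⟨c, hc⟩ := inner α
    exact ⟨c, hc.symm⟩
  show Nat.card (MulAut ↥Cfsg.Spor.J1 ⧸ Cfsg.Inn ↥Cfsg.Spor.J1) = 1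
  rw [h]
  exact Subgroup.index_top

end Cfsg.Agent.H22.J1
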