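import Cfsg.Agent.H6.Words2

set_option autoImplicit false
set_option linter.unusedSectionVars false

/-!
# Matsumoto's theorem and the Coxeter presentation from the exchange condition (seat helper22)
-/

namespace Cfsg.Agent.H22

open Cfsg.Agent.H6

/-- alternating products `a b a b ...` with `k` factors -/
def altp {M : Type*} [Monoid M] : M → M → ℕ → M
  | _, _, 0 => 1
  | a, b, (k + 1) => a * altp b a k

/-- alternating words `i j i j ...` with `k` letters -/
def altw {ι : Type*} : ι → ι → ℕ → List ι
  | _, _, 0 => []
  | i, j, (k + 1) => i :: altw j i k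

theorem length_altw {ι : Type*} (i j : ι) (k : ℕ) : (altw i j k).length = k := by
  induction k generalizing i j with
  | zero => rfl
  | succ k ih => simp [altw, ih]

theorem prod_altw {ι M : Type*} [Monoid M] (f : ι → M) (i j : ι) (k : ℕ) :
    ((altw i j k).map f).prod = altp (f i) (f j) k := by
  induction k generalizing i j with
  | zero => rfl
  | succ k ih => simp [altw, altp, ih]

theorem altp_mul_inv {W : Type*} [Group W] (a b : W) (ha : a * a = 1) (hb : b * b = 1) (k : ℕ) :
    altp a b k * (altp b a k)⁻¹ = (a * b) ^ k := by
  induction k generalizing a b with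
  | zero => simp [altp]
  | succ k ih =>
    have hbi : b⁻¹ = b := inv_eq_of_mul_eq_one_left hb
    have h1 := ih b a hb ha
    calc altp a b (k + 1) * (altp b a (k + 1))⁻¹ = a * (altp b a k * (altp a b k)⁻¹) * b⁻¹ := by
          simp only [altp]; group
      _ = a * (b * a) ^ k * b := by rw [h1, hbi]
      _ = (a * b) ^ (k + 1) := by
        rw [pow_succ, ← mul_assoc]
        congr 1
        clear h1 ih
        induction k with
        | zero => simp
        | succ k ih => rw [pow_succ, ← mul_assoc, ih, pow_succ]; group

theorem altp_eq_iff {W : Type*} [Group W] (a b : W) (ha : a * a = 1) (hb : b * b = 1) (k : ℕ) :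
    altp a b k = altp b a k ↔ (a * b) ^ k = 1 := by
  rw [← altp_mul_inv a b ha hb, mul_inv_eq_one]

/-- prefixes of alternating words -/
theorem altw_eq_append {ι : Type*} {i j l : ι} {k : ℕ} {L₁ L₂ : List ι} (h : altw i j k = L₁ ++ l :: L₂) :
    L₁ = altw i j L₁.length ∧ L₁ ++ [l] = altw i j (L₁.length + 1) ∧ L₁.length + 1 ≤ k := by
  induction L₁ generalizing i j k with
  | nil =>
    cases k with
    | zero => simp [altw] at h
    | succ k =>
      simp only [altw, List.nil_append, List.cons.injEq] at h
      refine ⟨rfl, ?_, by simp⟩
      simp [altw, h.1]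
  | cons a L₁ ih =>
    cases k with
    | zero => simp [altw] at h
    | succ k =>
      simp only [altw, List.cons_append, List.cons.injEq] at h
      obtain ⟨h1, h2⟩ := h
      obtain ⟨e1, e2, e3⟩ := ih h2
      subst h1
      refine ⟨?_, ?_, ?_⟩
      · simp only [List.length_cons, altw]
        rw [← e1]
      · simp only [List.length_cons, altw, List.cons_append]
        rw [e2]; rfl
      · simp only [List.length_cons]; omega

/-- prefixes of alternating words of smaller length -/
theorem altw_prefix {ι : Type*} (i j : ι) (k r : ℕ) (h : r ≤ k) : ∃ L, altw i j k = altw i j r ++ L := by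
  induction r generalizing i j k with
  | zero => exact ⟨_, rfl⟩
  | succ r ih =>
    obtain ⟨k, rfl⟩ : ∃ k', k = k' + 1 := ⟨k - 1, by omega⟩
    obtain ⟨L, hL⟩ := ih j i k (by omega)
    exact ⟨L, by simp [altw, hL]⟩

section
variable {W ι : Type*} [Group W] {s : ι → W} (hs : GenInv s) (hex : Exchange s)

theorem wp_altw (i j : ι) (k : ℕ) : wp s (altw i j k) = altp (s i) (s j) k := prod_altw s i j k

include hs in
theorem red_append_left {L L' : List ι} (h : IsRed s (L ++ L')) : IsRed s L := hs.red_of_append_left h

include hs in
/-- reduced alternating words have length at most the order -/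
theorem le_orderOf_of_red {i j : ι} {k : ℕ} (h : IsRed s (altw i j k)) (hm : 0 < orderOf (s i * s j)) :
    k ≤ orderOf (s i * s j) := by
  by_contra hcon
  push Not at hcon
  set m := orderOf (s i * s j) with hmdef
  obtain ⟨L, hL⟩ := altw_prefix i j k (m + 1) hcon
  rw [hL] at h
  have h1 := hs.red_of_append_left h
  have h2 : altp (s i) (s j) m = altp (s j) (s i) m := (altp_eq_iff _ _ (hs.sq i) (hs.sq j) m).2 (pow_orderOf_eq_one _)
  obtain ⟨m', hm'⟩ : ∃ m', m = m' + 1 := ⟨m - 1, by omega⟩
  have h3 : wp s (altw i j (m + 1)) = wp s (altw j i m') := by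
    rw [wp_altw, wp_altw]
    show s i * altp (s j) (s i) m = altp (s j) (s i) m'
    rw [← h2, hm']
    show s i * (s i * altp (s j) (s i) m') = _
    rw [hs.cancel]
  have h4 := len_le (s := s) (altw j i m')
  rw [← h3, length_altw] at h4
  unfold IsRed at h1
  rw [length_altw] at h1
  omega

include hs hex in
/-- one step -/
theorem alt_step {i j : ι} {k : ℕ} {C : List ι} (hk : IsRed s (altw i j k ++ C))
    (hj : len s (s j * wp s (altw i j k ++ C)) ≤ len s (wp s (altw i j k ++ C))) :
    (∃ C', IsRed s (altw j i (k + 1) ++ C') ∧ wp s (altw j i (k + 1) ++ C') = wp s (altw i j k ++ C)) ∨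
      (0 < orderOf (s i * s j) ∧ k = orderOf (s i * s j)) := by
  obtain ⟨L₁, L₂, l, hL, h1, h2, h3⟩ := exch_red hs hex hk hj
  rcases List.append_eq_append_iff.1 hL with ⟨C1, e1, e2⟩ | ⟨C1, e1, e2⟩
  · -- L₁ = altw ++ C1, C = C1 ++ l :: L₂
    left
    refine ⟨C1 ++ L₂, ?_, ?_⟩
    · have e3 : wp s (altw j i (k + 1) ++ (C1 ++ L₂)) = wp s (altw i j k ++ C) := by
        show wp s (j :: altw i j k ++ (C1 ++ L₂)) = _
        rw [List.cons_append, wp_cons, ← List.append_assoc, ← e1, ← h3, hs.cancel]
      unfold IsRed at hk ⊢
      rw [e3, hk, e2]
      simp only [List.length_append, length_altw, List.length_cons]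
      omega
    · show wp s (j :: altw i j k ++ (C1 ++ L₂)) = _
      rw [List.cons_append, wp_cons, ← List.append_assoc, ← e1, ← h3, hs.cancel]
  · -- altw = L₁ ++ C1, l :: L₂ = C1 ++ C
    cases C1 with
    | nil =>
      -- L₁ = altw, deleted letter is the first of C
      left
      simp only [List.append_nil, List.nil_append] at e1 e2
      refine ⟨L₂, ?_, ?_⟩
      · have e3 : wp s (altw j i (k + 1) ++ L₂) = wp s (altw i j k ++ C) := by
          show wp s (j :: altw i j k ++ L₂) = _
          rw [List.cons_append, wp_cons, e1, ← h3, ← e1, hs.cancel]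
        unfold IsRed at hk ⊢
        rw [e3, hk, ← e2]
        simp only [List.length_append, length_altw, List.length_cons]
        omega
      · show wp s (j :: altw i j k ++ L₂) = _
        rw [List.cons_append, wp_cons, e1, ← h3, ← e1, hs.cancel]
    | cons c C1 =>
      right
      rw [List.cons_append, List.cons.injEq] at e2
      obtain ⟨rfl, e2⟩ := e2
      obtain ⟨f1, f2, f3⟩ := altw_eq_append e1
      have h4 : altp (s i) (s j) (L₁.length + 1) = altp (s j) (s i) (L₁.length + 1) := by
        have g1 : wp s (L₁ ++ [l]) = altp (s i) (s j) (L₁.length + 1) := by rw [f2, wp_altw]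
        have g2 : s j * wp s L₁ = altp (s j) (s i) (L₁.length + 1) := by
          show _ = s j * altp (s i) (s j) L₁.length
          rw [← wp_altw, ← f1]
        rw [← g1, ← g2, h1, wp_append, wp_single]
      have h5 := (altp_eq_iff _ _ (hs.sq i) (hs.sq j) _).1 h4
      have hpos : 0 < orderOf (s i * s j) := by
        rw [orderOf_pos_iff, isOfFinOrder_iff_pow_eq_one]
        exact ⟨_, Nat.succ_pos _, h5⟩
      have h6 : orderOf (s i * s j) ≤ L₁.length + 1 := orderOf_le_of_pow_eq_one (Nat.succ_pos _) h5
      have h7 := le_orderOf_of_red hs (hs.red_of_append_left hk) hpos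
      exact ⟨hpos, by omega⟩

theorem orderOf_mul_comm' {W : Type*} [Group W] (a b : W) : orderOf (a * b) = orderOf (b * a) := by
  have h : SemiconjBy b (a * b) (b * a) := by
    show b * (a * b) = b * a * b
    group
  exact h.orderOf_eq

include hs hex in
theorem alt_full {w : W} {i j : ι} (hi : len s (s i * w) ≤ len s w) (hj : len s (s j * w) ≤ len s w) :
    ∀ (n k : ℕ) (C : List ι), len s w - k = n → IsRed s (altw i j k ++ C) → wp s (altw i j k ++ C) = w →
    0 < orderOf (s i * s j) ∧ ∃ C', IsRed s (altw i j (orderOf (s i * s j)) ++ C') ∧
      wp s (altw i j (orderOf (s i * s j)) ++ C') = w := by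
  intro n
  induction n generalizing i j with
  | zero =>
    intro k C hn hred hw
    rcases alt_step hs hex hred (by rw [hw]; exact hj) with ⟨C', h1, h2⟩ | ⟨h1, h2⟩
    · exfalso
      rw [hw] at h2
      unfold IsRed at h1
      rw [h2] at h1
      simp only [List.length_append, length_altw] at h1
      omega
    · exact ⟨h1, C, by rw [← h2]; exact hred, by rw [← h2]; exact hw⟩
  | succ n ih =>
    intro k C hn hred hw
    rcases alt_step hs hex hred (by rw [hw]; exact hj) with ⟨C', h1, h2⟩ | ⟨h1, h2⟩
    · rw [hw] at h2
      obtain ⟨h3, C'', h4, h5⟩ := ih hj hi (k + 1) C' (by omega) h1 h2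
      rw [orderOf_mul_comm'] at h3 h4 h5
      refine ⟨h3, C'', ?_, ?_⟩
      · have e : wp s (altw i j (orderOf (s i * s j)) ++ C'') = wp s (altw j i (orderOf (s i * s j)) ++ C'') := by
          rw [wp_append, wp_append, wp_altw, wp_altw,
            (altp_eq_iff _ _ (hs.sq i) (hs.sq j) _).2 (pow_orderOf_eq_one _)]
        unfold IsRed at h4 ⊢
        rw [e, h4]
        simp [length_altw]
      · rw [← h5, wp_append, wp_append, wp_altw, wp_altw,
          (altp_eq_iff _ _ (hs.sq i) (hs.sq j) _).2 (pow_orderOf_eq_one _)]
    · exact ⟨h1, C, by rw [← h2]; exact hred, by rw [← h2]; exact hw⟩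

include hs hex in
/-- **Matsumoto's theorem** -/
theorem matsumoto {M : Type*} [Monoid M] (f : ι → M)
    (hf : ∀ i j, i ≠ j → 0 < orderOf (s i * s j) →
      altp (f i) (f j) (orderOf (s i * s j)) = altp (f j) (f i) (orderOf (s i * s j))) :
    ∀ (L L' : List ι), IsRed s L → IsRed s L' → wp s L = wp s L' → (L.map f).prod = (L'.map f).prod := by
  intro L L' hL hL' hw
  obtain ⟨n, hn⟩ : ∃ n, n = L.length := ⟨_, rfl⟩
  have hlen : L'.length = L.length := by
    unfold IsRed at hL hL'
    rw [← hL, ← hL', hw]
  induction n generalizing L L' with
  | zero =>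
    have h1 : L = [] := List.length_eq_zero_iff.1 hn.symm
    subst h1
    have h2 : L' = [] := List.length_eq_zero_iff.1 hlen
    subst h2
    rfl
  | succ n ih =>
    cases L with
    | nil => simp at hn
    | cons i A =>
      cases L' with
      | nil => simp at hlen
      | cons j B =>
        -- helper: equal first letters
        have same : ∀ (a : ι) (A B : List ι), IsRed s (a :: A) → IsRed s (a :: B) → wp s (a :: A) = wp s (a :: B) →
            A.length = n → ((a :: A).map f).prod = ((a :: B).map f).prod := by
          intro a A B hA hB hAB hAn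
          have e1 : wp s A = wp s B := by
            rw [wp_cons, wp_cons] at hAB
            exact mul_left_cancel hAB
          have e2 : B.length = A.length := by
            have h1 := hs.red_tail hA
            have h2 := hs.red_tail hB
            unfold IsRed at h1 h2
            rw [← h1, ← h2, e1]
          rw [List.map_cons, List.map_cons, List.prod_cons, List.prod_cons,
            ih A B (hs.red_tail hA) (hs.red_tail hB) e1 hAn.symm e2]
        by_cases hij : i = j
        · subst hij
          exact same i A B hL hL' hw (by simpa using hn.symm)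
        · set w := wp s (i :: A) with hwdef
          have hi : len s (s i * w) ≤ len s w := (hs.red_lt hL).le
          have hj : len s (s j * w) ≤ len s w := by rw [hw]; exact (hs.red_lt hL').le
          obtain ⟨hm, C, hC1, hC2⟩ := alt_full hs hex hi hj (len s w - 1) 1 A rfl hL rfl
          obtain ⟨m', hm'⟩ : ∃ m', orderOf (s i * s j) = m' + 1 := ⟨orderOf (s i * s j) - 1, by omega⟩
          have hbr : altp (s i) (s j) (orderOf (s i * s j)) = altp (s j) (s i) (orderOf (s i * s j)) :=
            (altp_eq_iff _ _ (hs.sq i) (hs.sq j) _).2 (pow_orderOf_eq_one _)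
          have hD2 : wp s (altw j i (orderOf (s i * s j)) ++ C) = w := by
            rw [← hC2, wp_append, wp_append, wp_altw, wp_altw, hbr]
          have hD1 : IsRed s (altw j i (orderOf (s i * s j)) ++ C) := by
            unfold IsRed at hC1 ⊢
            rw [hD2, ← hC2, hC1]
            simp [length_altw]
          have hbf := hf i j hij hm
          rw [hm'] at hC1 hC2 hD1 hD2 hbf
          have e1 := same i A (altw j i m' ++ C) hL hC1 (by rw [← hwdef, ← hC2]; rfl) (by simpa using hn.symm)
          have e2 := same j B (altw i j m' ++ C) hL' hD1 (by rw [← hw, ← hD2]; rfl) (by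
            simp only [List.length_cons] at hlen hn; omega)
          rw [e1, e2]
          show ((altw i j (m' + 1) ++ C).map f).prod = ((altw j i (m' + 1) ++ C).map f).prod
          rw [List.map_append, List.map_append, List.prod_append, List.prod_append, prod_altw, prod_altw, hbf]

include hs hex in
/-- every word is equivalent to a reduced word in any group with the same braid relations -/
theorem exists_red_word (hne : ∀ i, s i ≠ 1) {M : Type*} [Monoid M] (f : ι → M) (hsq : ∀ i, f i * f i = 1)
    (hf : ∀ i j, i ≠ j → 0 < orderOf (s i * s j) →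
      altp (f i) (f j) (orderOf (s i * s j)) = altp (f j) (f i) (orderOf (s i * s j))) (L : List ι) :
    ∃ L', IsRed s L' ∧ wp s L' = wp s L ∧ (L'.map f).prod = (L.map f).prod := by
  induction L with
  | nil => exact ⟨[], isRed_nil, rfl, rfl⟩
  | cons i L ih =>
    obtain ⟨L', h1, h2, h3⟩ := ih
    by_cases hlt : len s (wp s L') < len s (s i * wp s L')
    · exact ⟨i :: L', red_cons_of_lt hs h1 hlt, by rw [wp_cons, wp_cons, h2], by simp [h3]⟩
    · push Not at hlt
      -- maximal prefix P with i :: P reduced
      have key : ∀ Q P : List ι, IsRed s (i :: P) → IsRed s (P ++ Q) → len s (s i * wp s (P ++ Q)) ≤ len s (wp s (P ++ Q)) →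
          ∃ L'', IsRed s L'' ∧ wp s L'' = wp s (i :: (P ++ Q)) ∧ (L''.map f).prod = ((i :: (P ++ Q)).map f).prod := by
        intro Q
        induction Q with
        | nil =>
          intro P hP1 hP2 hP3
          exfalso
          rw [List.append_nil] at hP2 hP3
          unfold IsRed at hP1 hP2
          rw [wp_cons] at hP1
          rw [hP1, hP2] at hP3
          simp at hP3
        | cons j Q ihQ =>
          intro P hP1 hP2 hP3
          by_cases hPj : IsRed s (i :: (P ++ [j]))
          · have := ihQ (P ++ [j]) hPj (by simpa using hP2) (by simpa using hP3)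
            simpa using this
          · have hPjr : IsRed s (P ++ [j]) := by
              apply hs.red_of_append_left (L' := Q)
              simpa using hP2
            have hle : len s (s i * wp s (P ++ [j])) ≤ len s (wp s (P ++ [j])) := by
              by_contra hcon
              push Not at hcon
              exact hPj (red_cons_of_lt hs hPjr hcon)
            obtain ⟨L₁, L₂, l, e1, e2, e3, e4⟩ := exch_red hs hex hPjr hle
            have hL2 : L₂ = [] := by
              by_contra hne
              obtain ⟨L₂', c, rfl⟩ := List.eq_nil_or_concat L₂ |>.resolve_left hne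
              have e5 : P ++ [j] = (L₁ ++ l :: L₂') ++ [c] := by rw [e1]; simp
              have e6 := List.append_inj' e5 rfl
              have e7 : IsRed s (i :: (L₁ ++ [l])) := by
                apply hs.red_of_append_left (L' := L₂')
                have : (i :: (L₁ ++ [l])) ++ L₂' = i :: P := by rw [e6.1]; simp
                rw [this]; exact hP1
              unfold IsRed at e7
              have e8 : wp s (i :: (L₁ ++ [l])) = wp s L₁ := by
                rw [wp_cons, hs.exchange_iff e2 (L₂ := []), List.append_nil]
              have e9 := len_le (s := s) L₁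
              rw [e8] at e7
              simp at e7
              omega
            subst hL2
            have e5 := List.append_inj' e1 rfl
            obtain ⟨rfl, e6⟩ := e5
            have e7 : j = l := by simpa using e6
            subst e7
            -- i :: P and P ++ [j] are reduced words of the same element
            have e8 : wp s (i :: P) = wp s (P ++ [j]) := by
              rw [wp_cons, e2, wp_append, wp_single]
            have e9 := matsumoto hs hex f hf _ _ hP1 hPjr e8
            refine ⟨P ++ Q, ?_, ?_, ?_⟩
            · have h4 := hs.exchange_iff e2 (L₂ := Q)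
              have h5 := hs.len_le_smul i (wp s (P ++ j :: Q))
              have h6 := len_le (s := s) (P ++ Q)
              rw [h4] at h5
              unfold IsRed at hP2 ⊢
              simp only [List.length_append, List.length_cons] at *
              omega
            · rw [wp_cons, hs.exchange_iff e2]
            · have h4 : ((i :: (P ++ j :: Q)).map f).prod = ((i :: P).map f).prod * (f j * (Q.map f).prod) := by
                simp [mul_assoc]
              rw [h4, e9]
              simp only [List.map_append, List.prod_append, List.map_cons, List.map_nil, List.prod_cons, List.prod_nil, mul_one]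
              rw [mul_assoc, ← mul_assoc (f j), hsq, one_mul]
      have hi : IsRed s (i :: ([] : List ι)) := by
        have h1 : len s (wp s [i]) ≤ 1 := len_le (s := s) [i]
        have h2 : len s (wp s [i]) ≠ 0 := by
          intro h0
          have := hs.len_eq_zero.1 h0
          rw [wp_single] at this
          exact hne i this
        unfold IsRed
        simp only [List.length_singleton]
        omega
      obtain ⟨L'', g1, g2, g3⟩ := key L' [] hi (by simpa using h1) (by simpa using hlt)
      refine ⟨L'', g1, ?_, ?_⟩
      · rw [g2]; simp [h2]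
      · rw [g3]; simp [h3]

end

end Cfsg.Agent.H22
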