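import Cfsg.Agent.H6.Words2

set_option autoImplicit false
set_option linter.unusedSectionVars false

/-!
# Minimal coset representatives from the exchange condition (seat helper22)
-/

namespace Cfsg.Agent.H22

open Cfsg.Agent.H6

section
variable {W ι : Type*} [Group W] {s : ι → W} (hs : GenInv s) (hex : Exchange s)

include hs hex in
/-- if `u` has minimal length in `W_J u` then `len (v u) = len v + len u` for `v ∈ W_J` -/
theorem len_mul_of_min {J : Set ι} {u : W}
    (hu : ∀ v ∈ Subgroup.closure (s '' J), len s u ≤ len s (v * u)) :
    ∀ v ∈ Subgroup.closure (s '' J), len s (v * u) = len s v + len s u := by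
  -- by induction on reduced words
  have key : ∀ L : List ι, (∀ i ∈ L, i ∈ J) → IsRed s L → len s (wp s L * u) = L.length + len s u := by
    intro L
    induction L with
    | nil => intro _ _; simp
    | cons i L ih =>
      intro hL hred
      have ih' := ih (fun j hj => hL j (by simp [hj])) (hs.red_tail hred)
      obtain ⟨Lu, hLu, hwu⟩ := hs.exists_isRed u
      have hLul : Lu.length = len s u := by rw [← hwu]; exact hLu.symm
      have hcat : IsRed s (L ++ Lu) := by
        unfold IsRed
        rw [wp_append, hwu, ih', List.length_append, hLul]
      rw [wp_cons, mul_assoc, List.length_cons]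
      by_contra hne
      have h1 : len s (s i * (wp s L * u)) ≤ len s (wp s L * u) := by
        have h2 := hs.len_smul_le i (wp s L * u)
        omega
      have h3 : wp s (L ++ Lu) = wp s L * u := by rw [wp_append, hwu]
      rw [← h3] at h1
      obtain ⟨L₁, L₂, j, e1, e2, e3, e4⟩ := exch_red hs hex hcat h1
      rcases List.append_eq_append_iff.1 e1 with ⟨C, c1, c2⟩ | ⟨C, c1, c2⟩
      · -- deleted letter in Lu : Lu = C ++ j :: L₂
        have f1 : len s (wp s (C ++ L₂)) < len s u := by
          have := len_le (s := s) (C ++ L₂)
          rw [← hLul, c2]
          simp only [List.length_append, List.length_cons] at *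
          omega
        have f2 : wp s (C ++ L₂) = ((wp s L)⁻¹ * s i * wp s L) * u := by
          have : s i * (wp s L * u) = wp s L * wp s (C ++ L₂) := by
            rw [← h3, e4, c1]
            rw [List.append_assoc, wp_append]
          rw [mul_assoc, mul_assoc, this]; group
        have f3 := hu ((wp s L)⁻¹ * s i * wp s L) (by
          have g1 : wp s L ∈ Subgroup.closure (s '' J) := wp_mem_closure fun j hj => hL j (by simp [hj])
          exact mul_mem (mul_mem (inv_mem g1) (Subgroup.subset_closure ⟨i, hL i (by simp), rfl⟩)) g1)
        rw [← f2] at f3
        omega
      · -- deleted letter in L (or the boundary)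
        cases C with
        | nil =>
          simp only [List.append_nil, List.nil_append] at c1 c2
          have f1 : len s (wp s L₂) < len s u := by
            have := len_le (s := s) L₂
            rw [← hLul, ← c2]
            simp only [List.length_cons]
            omega
          have f2 : wp s L₂ = ((wp s L)⁻¹ * s i * wp s L) * u := by
            have : s i * (wp s L * u) = wp s L * wp s L₂ := by
              rw [← h3, e4, ← c1]
              rw [wp_append]
            rw [mul_assoc, mul_assoc, this]; group
          have f3 := hu ((wp s L)⁻¹ * s i * wp s L) (by
            have g1 : wp s L ∈ Subgroup.closure (s '' J) := wp_mem_closure fun j hj => hL j (by simp [hj])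
            exact mul_mem (mul_mem (inv_mem g1) (Subgroup.subset_closure ⟨i, hL i (by simp), rfl⟩)) g1)
          rw [← f2] at f3
          omega
        | cons c C =>
          rw [List.cons_append, List.cons.injEq] at c2
          obtain ⟨rfl, c2⟩ := c2
          have f1 : s i * wp s L = wp s (L₁ ++ C) := by
            rw [c1]; exact hs.exchange_iff e2
          unfold IsRed at hred
          rw [wp_cons, f1] at hred
          have f2 := len_le (s := s) (L₁ ++ C)
          have f3 := congrArg List.length c1
          simp only [List.length_append, List.length_cons] at *
          omega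
  intro v hv
  obtain ⟨L, h1, h2, rfl⟩ := exists_red_of_mem_closure hs hex hv
  rw [key L h1 h2, h2]

end

end Cfsg.Agent.H22
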