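import Cfsg.Agent.H22.Poincare
import Cfsg.Agent.H6.TabD4

set_option autoImplicit false
set_option maxRecDepth 100000

/-! # Poincaré polynomial of the Weyl group of type D4 (seat helper22, generated) -/

namespace Cfsg.Agent.H22
open Cfsg.Agent.H6 Cfsg.Lie
namespace PD4

def A : List (List ℤ) := [[.ofNat (nat_lit 2), .negSucc (nat_lit 0), .ofNat (nat_lit 0), .ofNat (nat_lit 0)], [.negSucc (nat_lit 0), .ofNat (nat_lit 2), .negSucc (nat_lit 0), .negSucc (nat_lit 0)], [.ofNat (nat_lit 0), .negSucc (nat_lit 0), .ofNat (nat_lit 2), .ofNat (nat_lit 0)], [.ofNat (nat_lit 0), .negSucc (nat_lit 0), .ofNat (nat_lit 0), .ofNat (nat_lit 2)]]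

theorem hA : ∀ i < 4, ∀ j < 4, chevD4.cartan i (chevD4.simple j) = (A.getD i []).getD j 0 := by decide +kernel
theorem hAl : ∀ i < 4, (A.getD i []).length = 4 := by decide +kernel

def T0 : List (List (List ℤ)) := [[[.ofNat (nat_lit 1), .ofNat (nat_lit 0), .ofNat (nat_lit 0), .ofNat (nat_lit 0)]],
  [[.negSucc (nat_lit 0), .ofNat (nat_lit 1), .ofNat (nat_lit 0), .ofNat (nat_lit 0)]],
  [[.ofNat (nat_lit 0), .negSucc (nat_lit 0), .ofNat (nat_lit 1), .ofNat (nat_lit 1)]],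
  [[.ofNat (nat_lit 0), .ofNat (nat_lit 0), .negSucc (nat_lit 0), .ofNat (nat_lit 1)], [.ofNat (nat_lit 0), .ofNat (nat_lit 0), .ofNat (nat_lit 1), .negSucc (nat_lit 0)]],
  [[.ofNat (nat_lit 0), .ofNat (nat_lit 1), .negSucc (nat_lit 0), .negSucc (nat_lit 0)]],
  [[.ofNat (nat_lit 1), .negSucc (nat_lit 0), .ofNat (nat_lit 0), .ofNat (nat_lit 0)]],
  [[.negSucc (nat_lit 0), .ofNat (nat_lit 0), .ofNat (nat_lit 0), .ofNat (nat_lit 0)]]]
theorem c0 : pchk A 4 0 [0, 1, 2, 3] T0 = true := by decide +kernel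
theorem l0 : T0.map List.length = [1, 1, 1, 2, 1, 1, 1] := by decide +kernel
theorem h0 {R : Type*} [CommRing R] (q : R) :
    hor q [1, 1, 1, 2, 1, 1, 1] * (q - 1) * ((q ^ 3 - 1)) = (q ^ 4 - 1) * (q ^ 6 - 1) := by
  simp only [hor]; push_cast; ring
theorem f0 {R : Type*} [CommRing R] (q : R) :
    (∑ᶠ w ∈ (Wn TD4.good [0, 1, 2, 3] : Set TD4.good.W), q ^ len TD4.good.s w) =
      hor q [1, 1, 1, 2, 1, 1, 1] * ∑ᶠ w ∈ (Wn TD4.good [1, 2, 3] : Set TD4.good.W), q ^ len TD4.good.s w := by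
  rw [← l0]
  exact poinc_step TD4.good hA hAl (by decide) (by decide) (by decide) (by first | (simp; done) | (simp; omega)) c0 q
def T1 : List (List (List ℤ)) := [[[.ofNat (nat_lit 0), .ofNat (nat_lit 0), .ofNat (nat_lit 1), .ofNat (nat_lit 0)]],
  [[.ofNat (nat_lit 0), .ofNat (nat_lit 1), .negSucc (nat_lit 0), .ofNat (nat_lit 0)]],
  [[.ofNat (nat_lit 1), .negSucc (nat_lit 0), .ofNat (nat_lit 0), .ofNat (nat_lit 1)]],
  [[.ofNat (nat_lit 1), .ofNat (nat_lit 0), .ofNat (nat_lit 0), .negSucc (nat_lit 0)]]]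
theorem c1 : pchk A 4 2 [1, 2, 3] T1 = true := by decide +kernel
theorem l1 : T1.map List.length = [1, 1, 1, 1] := by decide +kernel
theorem h1 {R : Type*} [CommRing R] (q : R) :
    hor q [1, 1, 1, 1] * (q - 1) * (1) = (q ^ 4 - 1) := by
  simp only [hor]; push_cast; ring
theorem f1 {R : Type*} [CommRing R] (q : R) :
    (∑ᶠ w ∈ (Wn TD4.good [1, 2, 3] : Set TD4.good.W), q ^ len TD4.good.s w) =
      hor q [1, 1, 1, 1] * ∑ᶠ w ∈ (Wn TD4.good [1, 3] : Set TD4.good.W), q ^ len TD4.good.s w := by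
  rw [← l1]
  exact poinc_step TD4.good hA hAl (by decide) (by decide) (by decide) (by first | (simp; done) | (simp; omega)) c1 q
def T2 : List (List (List ℤ)) := [[[.ofNat (nat_lit 0), .ofNat (nat_lit 1), .ofNat (nat_lit 0), .ofNat (nat_lit 0)]],
  [[.ofNat (nat_lit 1), .negSucc (nat_lit 0), .ofNat (nat_lit 1), .ofNat (nat_lit 1)]],
  [[.ofNat (nat_lit 1), .ofNat (nat_lit 0), .ofNat (nat_lit 1), .negSucc (nat_lit 0)]]]
theorem c2 : pchk A 4 1 [1, 3] T2 = true := by decide +kernel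
theorem l2 : T2.map List.length = [1, 1, 1] := by decide +kernel
theorem h2 {R : Type*} [CommRing R] (q : R) :
    hor q [1, 1, 1] * (q - 1) * (1) = (q ^ 3 - 1) := by
  simp only [hor]; push_cast; ring
theorem f2 {R : Type*} [CommRing R] (q : R) :
    (∑ᶠ w ∈ (Wn TD4.good [1, 3] : Set TD4.good.W), q ^ len TD4.good.s w) =
      hor q [1, 1, 1] * ∑ᶠ w ∈ (Wn TD4.good [3] : Set TD4.good.W), q ^ len TD4.good.s w := by
  rw [← l2]
  exact poinc_step TD4.good hA hAl (by decide) (by decide) (by decide) (by first | (simp; done) | (simp; omega)) c2 q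
def T3 : List (List (List ℤ)) := [[[.ofNat (nat_lit 0), .ofNat (nat_lit 0), .ofNat (nat_lit 0), .ofNat (nat_lit 1)]],
  [[.ofNat (nat_lit 0), .ofNat (nat_lit 1), .ofNat (nat_lit 0), .negSucc (nat_lit 0)]]]
theorem c3 : pchk A 4 3 [3] T3 = true := by decide +kernel
theorem l3 : T3.map List.length = [1, 1] := by decide +kernel
theorem h3 {R : Type*} [CommRing R] (q : R) :
    hor q [1, 1] * (q - 1) * (1) = (q ^ 2 - 1) := by
  simp only [hor]; push_cast; ring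
theorem f3 {R : Type*} [CommRing R] (q : R) :
    (∑ᶠ w ∈ (Wn TD4.good [3] : Set TD4.good.W), q ^ len TD4.good.s w) =
      hor q [1, 1] * ∑ᶠ w ∈ (Wn TD4.good [] : Set TD4.good.W), q ^ len TD4.good.s w := by
  rw [← l3]
  exact poinc_step TD4.good hA hAl (by decide) (by decide) (by decide) (by first | (simp; done) | (simp; omega)) c3 q
theorem p4 {R : Type*} [CommRing R] (q : R) :
    (∑ᶠ w ∈ (Wn TD4.good [] : Set TD4.good.W), q ^ len TD4.good.s w) * (q - 1) ^ 0 = 1 := by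
  rw [poinc_nil, pow_zero, mul_one]
theorem p3 {R : Type*} [CommRing R] (q : R) :
    (∑ᶠ w ∈ (Wn TD4.good [3] : Set TD4.good.W), q ^ len TD4.good.s w) * (q - 1) ^ 1 = (q ^ 2 - 1) := by
  rw [f3]
  exact pcomb 0 (p4 q) (Ccom := 1) (by ring) (h3 q) (by ring)
theorem p2 {R : Type*} [CommRing R] (q : R) :
    (∑ᶠ w ∈ (Wn TD4.good [1, 3] : Set TD4.good.W), q ^ len TD4.good.s w) * (q - 1) ^ 2 = (q ^ 2 - 1) * (q ^ 3 - 1) := by
  rw [f2]
  exact pcomb 1 (p3 q) (Ccom := (q ^ 2 - 1)) (by ring) (h2 q) (by ring)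
theorem p1 {R : Type*} [CommRing R] (q : R) :
    (∑ᶠ w ∈ (Wn TD4.good [1, 2, 3] : Set TD4.good.W), q ^ len TD4.good.s w) * (q - 1) ^ 3 = (q ^ 2 - 1) * (q ^ 3 - 1) * (q ^ 4 - 1) := by
  rw [f1]
  exact pcomb 2 (p2 q) (Ccom := (q ^ 2 - 1) * (q ^ 3 - 1)) (by ring) (h1 q) (by ring)
theorem p0 {R : Type*} [CommRing R] (q : R) :
    (∑ᶠ w ∈ (Wn TD4.good [0, 1, 2, 3] : Set TD4.good.W), q ^ len TD4.good.s w) * (q - 1) ^ 4 = (q ^ 2 - 1) * (q ^ 4 - 1) * (q ^ 4 - 1) * (q ^ 6 - 1) := by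
  rw [f0]
  exact pcomb 3 (p1 q) (Ccom := (q ^ 2 - 1) * (q ^ 4 - 1)) (by ring) (h0 q) (by ring)
/-- the Poincaré polynomial of type D4 -/
theorem poincare {R : Type*} [CommRing R] (q : R) :
    (∑ᶠ w : TD4.good.W, q ^ len TD4.good.s w) * (q - 1) ^ 4 = (q ^ 2 - 1) * (q ^ 4 - 1) * (q ^ 4 - 1) * (q ^ 6 - 1) := by
  rw [← poinc_top TD4.good (I := [0, 1, 2, 3]) (by decide) q]
  exact p0 q
end PD4
end Cfsg.Agent.H22
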