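import Cfsg.Agent.H6.ChevWeyl
import Cfsg.Agent.H22.MinCoset

set_option autoImplicit false
set_option linter.unusedSectionVars false

/-!
# Poincaré polynomials of the Weyl groups by certified orbits of coweights (seat helper22)
-/

namespace Cfsg.Agent.H22

open Cfsg.Agent.H6 Cfsg.Lie

/-- the action of a simple reflection on coordinate vectors -/
def pact (A : List (List ℤ)) (i : ℕ) (c : List ℤ) : List ℤ :=
  List.zipWith (fun x a => x - a * c.getD i 0) c (A.getD i [])

/-- unit vector -/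
def punit (r k : ℕ) : List ℤ := (List.range r).map fun j => if j = k then 1 else 0

/-- the check of an orbit certificate -/
def pchk (A : List (List ℤ)) (r k : ℕ) (I : List ℕ) (T : List (List (List ℤ))) : Bool :=
  (T.getD 0 [] == [punit r k]) &&
  ((List.range T.length).all fun n => (T.getD n []).all fun x => I.all fun i =>
    (T.getD (n + 1) []).contains (pact A i x) || (T.getD (n - 1) []).contains (pact A i x) ||
    (T.getD n []).contains (pact A i x)) &&
  ((List.range (T.length - 1)).all fun n => (T.getD (n + 1) []).all fun x => I.any fun i =>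
    (T.getD n []).contains (pact A i x) && (pact A i (pact A i x) == x)) &&
  decide (T.flatten.Nodup)

/-- Horner evaluation of a polynomial with natural coefficients -/
def hor {R : Type*} [CommRing R] (q : R) : List ℕ → R
  | [] => 0
  | (a :: l) => a + q * hor q l

section
variable {D : ChevalleyDatum} {N : ℕ} {η : ℕ → ℕ → ℤ} {rc : ℕ → ℕ → ℤ} (hG : Good D N η rc)

/-- coordinate vector of an element of the Weyl group -/
def pvec (hG : Good D N η rc) (k : ℕ) (w : hG.W) : List ℤ := List.ofFn fun j : Fin D.rank => rc (w.1 (hG.sr j)) k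

/-- the parabolic subgroup of a list of indices -/
def Wn (hG : Good D N η rc) (I : List ℕ) : Subgroup hG.W := Subgroup.closure (hG.s '' {i | (i : ℕ) ∈ I})

theorem Wn_mono {I J : List ℕ} (h : J ⊆ I) : Wn hG J ≤ Wn hG I := by
  apply Subgroup.closure_mono
  rintro _ ⟨i, hi, rfl⟩
  exact ⟨i, h hi, rfl⟩

theorem Wn_top {I : List ℕ} (h : ∀ i < D.rank, i ∈ I) : Wn hG I = ⊤ := by
  rw [Wn, ← hG.s_gen]
  congr 1
  ext x
  constructor
  · rintro ⟨i, _, rfl⟩; exact ⟨i, rfl⟩
  · rintro ⟨i, rfl⟩; exact ⟨i, h i i.2, rfl⟩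

theorem Wn_nil : Wn hG [] = ⊥ := by
  rw [Wn, eq_bot_iff, Subgroup.closure_le]
  rintro _ ⟨i, hi, rfl⟩
  simp at hi

theorem rc_one (k : ℕ) (hk : k < D.rank) (j : Fin D.rank) : rc ((1 : hG.W).1 (hG.sr j)) k = if k = j then 1 else 0 := by
  change rc (D.simple j) k = _
  exact hG.rc_simple j j.2 k hk

theorem pvec_one (k : ℕ) (hk : k < D.rank) : pvec hG k 1 = punit D.rank k := by
  apply List.ext_getElem
  · simp [pvec, punit]
  · intro n h1 h2
    simp only [pvec, punit, List.getElem_ofFn, List.getElem_map, List.getElem_range]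
    rw [rc_one hG k hk]
    simp only [eq_comm]

theorem pvec_eq_iff {k : ℕ} {w w' : hG.W} : pvec hG k w = pvec hG k w' ↔
    ∀ j : Fin D.rank, rc (w.1 (hG.sr j)) k = rc (w'.1 (hG.sr j)) k := by
  unfold pvec
  rw [List.ofFn_inj]
  exact funext_iff

/-- right multiplication acts on the vectors -/
theorem pvec_mul {k : ℕ} (hk : k < D.rank) {w w' : hG.W} (h : pvec hG k w = pvec hG k w') (g : hG.W) :
    pvec hG k (w * g) = pvec hG k (w' * g) := by
  rw [pvec_eq_iff] at h ⊢
  intro j
  change rc (w.1 (g.1 (hG.sr j))) k = rc (w'.1 (g.1 (hG.sr j))) k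
  rw [hG.rc_W w _ k hk, hG.rc_W w' _ k hk]
  exact Finset.sum_congr rfl fun m _ => by rw [h m]

theorem pvec_mul_s {A : List (List ℤ)} (hA : ∀ i < D.rank, ∀ j < D.rank, D.cartan i (D.simple j) = (A.getD i []).getD j 0)
    (hAl : ∀ i < D.rank, (A.getD i []).length = D.rank) {k : ℕ} (hk : k < D.rank) (w : hG.W) (i : Fin D.rank) :
    pvec hG k (w * hG.s i) = pact A i (pvec hG k w) := by
  apply List.ext_getElem
  · simp only [pvec, pact, List.length_ofFn, List.length_zipWith, hAl i i.2, min_self]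
  · intro n h1 h2
    have hn : n < D.rank := by simpa [pvec] using h1
    have hlen : ∀ w : hG.W, (pvec hG k w).length = D.rank := fun w => by simp [pvec]
    have hget : ∀ (w : hG.W) (m : ℕ) (hm : m < (pvec hG k w).length),
        (pvec hG k w)[m] = rc (w.1 (hG.sr ⟨m, by simpa [pvec] using hm⟩)) k := by
      intro w m hm
      simp [pvec]
    have e1 : (pvec hG k w).getD i 0 = rc (w.1 (hG.sr i)) k := by
      rw [List.getD_eq_getElem _ _ (by rw [hlen]; exact i.2), hget]
    have e0 : (pact A i (pvec hG k w))[n] = (pvec hG k w)[n]'(by rw [hlen]; exact hn) -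
        (A.getD i []).getD n 0 * (pvec hG k w).getD i 0 := by
      simp only [pact, List.getElem_zipWith]
      rw [List.getD_eq_getElem (A.getD (↑i) []) 0 (by rw [hAl i i.2]; exact hn)]
    rw [e0, e1, hget, hget, ← hA i i.2 n hn]
    change rc (w.1 ((hG.s i).1 (hG.sr ⟨n, hn⟩))) k = _
    rw [hG.rc_W w _ k hk]
    have e3 : ∀ m : Fin D.rank, rc ((hG.s i).1 (hG.sr ⟨n, hn⟩)) m * rc (w.1 (hG.sr m)) k =
        (if m = (⟨n, hn⟩ : Fin D.rank) then 1 else 0) * rc (w.1 (hG.sr m)) k -
        (if m = i then D.cartan i (D.simple n) else 0) * rc (w.1 (hG.sr m)) k := by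
      intro m
      have := hG.rc_w i i.2 m m.2 (D.simple n) (hG.simple_lt n hn)
      rw [hG.rc_simple n hn m m.2] at this
      rw [← sub_mul]
      congr 1
      change rc (D.reflectRoot i (D.simple n)) m = _
      rw [this]
      simp only [Fin.ext_iff]
    rw [Finset.sum_congr rfl fun m _ => e3 m, Finset.sum_sub_distrib]
    simp [ite_mul]

/-- left multiplication by elements of `W_J`, `k ∉ J`, does not change the `k`-coordinates -/
theorem rc_Wn {J : List ℕ} {k : ℕ} (hk : k < D.rank) (hJ : k ∉ J) {v : hG.W} (hv : v ∈ Wn hG J) :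
    ∀ r : Fin D.nroots, rc (v.1 r) k = rc r k := by
  unfold Wn at hv
  induction hv using Subgroup.closure_induction with
  | mem x hx =>
    obtain ⟨i, hi, rfl⟩ := hx
    intro r
    change rc (D.reflectRoot i r) k = _
    rw [hG.rc_w i i.2 k hk r r.2, if_neg, sub_zero]
    rintro rfl
    exact hJ hi
  | one => intro r; rfl
  | mul x y _ _ hx hy =>
    intro r
    change rc (x.1 (y.1 r)) k = _
    rw [hx, hy]
  | inv x _ hx =>
    intro r
    have := hx (x⁻¹.1 r)
    rw [← this]
    change rc (x.1 (x⁻¹.1 r)) k = _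
    congr 2
    change (x * x⁻¹).1 r = r
    rw [mul_inv_cancel]; rfl

theorem s_ne_one (i : Fin D.rank) : hG.s i ≠ 1 := by
  intro h
  have h1 := hG.s_sr i
  rw [h] at h1
  have h2 : (hG.ngf (hG.sr i) : ℕ) < N := (hG.ngf_lt_iff _).2 (hG.sr_pos i)
  rw [← h1] at h2
  have h3 := hG.sr_pos i
  change ((hG.sr i : Fin D.nroots) : ℕ) < N at h2
  omega

theorem s_inj : Function.Injective hG.s := by
  intro i j h
  by_contra hij
  have h1 := hG.s_sr i
  rw [h] at h1
  have h2 : (hG.ngf (hG.sr i) : ℕ) < N := (hG.ngf_lt_iff _).2 (hG.sr_pos i)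
  rw [← h1] at h2
  have h3 : hG.sr i ≠ hG.sr j := by
    intro h4
    have h5 := congrArg Fin.val h4
    have e1 := hG.rc_simple i i.2 i i.2
    have e2 := hG.rc_simple j j.2 i i.2
    change D.simple i = D.simple j at h5
    rw [h5, e2, if_pos rfl, if_neg (fun h => hij (Fin.ext h))] at e1
    exact absurd e1 (by norm_num)
  have := hG.s_pos (hG.sr_pos i) h3
  omega

/-- the stabilizer of the base point in `W_I` is `W_J`, `J = I ∖ {k}` -/
theorem mem_Wn_of_pvec {I J : List ℕ} {k : ℕ} (hk : k < D.rank) (hIJ : ∀ i, i ∈ J ↔ i ∈ I ∧ i ≠ k) {w : hG.W}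
    (hw : w ∈ Wn hG I) (h : pvec hG k w = pvec hG k 1) : w ∈ Wn hG J := by
  classical
  have hJI : Wn hG J ≤ Wn hG I := Wn_mono hG fun i hi => ((hIJ i).1 hi).1
  have hkJ : k ∉ J := fun h => ((hIJ k).1 h).2 rfl
  -- minimal element of the coset
  obtain ⟨u, ⟨v₀, hv₀, huv⟩, hmin⟩ : ∃ u : hG.W, (∃ v ∈ Wn hG J, u = v * w) ∧
      ∀ v ∈ Wn hG J, len hG.s u ≤ len hG.s (v * u) := by
    obtain ⟨v₀, hv₀, hm⟩ : ∃ v₀ ∈ Wn hG J, ∀ v ∈ Wn hG J, len hG.s (v₀ * w) ≤ len hG.s (v * w) := by
      have := Set.Finite.exists_minimalFor (fun v : hG.W => len hG.s (v * w)) (Wn hG J : Set hG.W) (Set.toFinite _)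
        ⟨1, one_mem _⟩
      obtain ⟨v₀, hv₀, hm⟩ := this
      refine ⟨v₀, hv₀, fun v hv => ?_⟩
      by_contra hcon
      push Not at hcon
      have := hm hv hcon.le
      simp only at this
      omega
    exact ⟨v₀ * w, ⟨v₀, hv₀, rfl⟩, fun v hv => by rw [← mul_assoc]; exact hm _ (mul_mem hv hv₀)⟩
  have huI : u ∈ Wn hG I := by rw [huv]; exact mul_mem (hJI hv₀) hw
  have hur : ∀ r : Fin D.nroots, rc (u.1 r) k = rc r k := by
    intro r
    rw [huv]
    change rc (v₀.1 (w.1 r)) k = _
    rw [rc_Wn hG hk hkJ hv₀, hG.rc_W w r k hk]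
    rw [pvec_eq_iff] at h
    have h1 : (∑ m : Fin D.rank, rc r m * rc (w.1 (hG.sr m)) k) = ∑ m : Fin D.rank, rc r m * (if k = m then 1 else 0) :=
      Finset.sum_congr rfl fun m _ => by rw [h m, rc_one hG k hk]
    rw [h1, Finset.sum_eq_single (⟨k, hk⟩ : Fin D.rank)]
    · simp
    · intro b _ hb
      rw [if_neg, mul_zero]
      rintro rfl
      exact hb rfl
    · simp
  have hu1 : u = 1 := by
    by_contra hu1
    obtain ⟨L, hL1, hL2, hL3⟩ := exists_red_of_mem_closure hG.genInv hG.exchange huI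
    cases L with
    | nil => exact hu1 hL3.symm
    | cons i L =>
      have h1 := hG.genInv.red_lt hL2
      rw [hL3] at h1
      have h2 : (i : ℕ) = k := by
        by_contra hik
        have h3 : hG.s i ∈ Wn hG J := Subgroup.subset_closure ⟨i, (hIJ i).2 ⟨hL1 i (by simp), hik⟩, rfl⟩
        have h4 := hmin _ h3
        omega
      have h3 : ((u⁻¹).1 (hG.sr i) : ℕ) < N := by
        rw [hG.lt_iff_len, ← hG.genInv.len_inv, mul_inv_rev, inv_inv, hG.genInv.inv_eq, hG.genInv.len_inv]
        exact h1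
      have h4 := hG.rc_neg_root ((u⁻¹).1 (hG.sr i)).2 h3 k hk
      have h5 := hur ((u⁻¹).1 (hG.sr i))
      have h6 : u.1 ((u⁻¹).1 (hG.sr i)) = hG.sr i := by
        change (u * u⁻¹).1 (hG.sr i) = _
        rw [mul_inv_cancel]; rfl
      rw [h6] at h5
      have h7 : rc (hG.sr i) k = 1 := by
        have := hG.rc_simple i i.2 k hk
        rw [if_pos h2.symm] at this
        exact this
      omega
  rw [hu1] at huv
  have : w = v₀⁻¹ := (inv_eq_of_mul_eq_one_right huv.symm).symm
  rw [this]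
  exact inv_mem hv₀

theorem flatten_sum {R : Type*} [CommRing R] (q C : R) (g : List ℤ → R) : ∀ (T : List (List (List ℤ))) (n : ℕ),
    (∀ m x, x ∈ T.getD m [] → g x = q ^ (n + m) * C) → (T.flatten.map g).sum = q ^ n * hor q (T.map List.length) * C := by
  intro T
  induction T with
  | nil => intro n _; simp [hor]
  | cons l T ih =>
    intro n h
    have h1 : (l.map g).sum = l.length * (q ^ n * C) := by
      have : l.map g = List.replicate l.length (q ^ n * C) := by
        rw [List.eq_replicate_iff]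
        refine ⟨by simp, ?_⟩
        intro b hb
        obtain ⟨x, hx, rfl⟩ := List.mem_map.1 hb
        have := h 0 x (by simpa using hx)
        simpa using this
      rw [this, List.sum_replicate, nsmul_eq_mul]
    have h2 := ih (n + 1) (fun m x hx => by
      have := h (m + 1) x (by simpa using hx)
      rw [this]; congr 2; omega)
    rw [List.flatten_cons, List.map_append, List.sum_append, h1, h2, List.map_cons, hor, pow_succ]
    ring

/-- **The factorization step for the Poincaré polynomials** -/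
theorem poinc_step {A : List (List ℤ)} (hA : ∀ i < D.rank, ∀ j < D.rank, D.cartan i (D.simple j) = (A.getD i []).getD j 0)
    (hAl : ∀ i < D.rank, (A.getD i []).length = D.rank) {I J : List ℕ} {k : ℕ} (hk : k < D.rank) (_hkI : k ∈ I)
    (hI : ∀ i ∈ I, i < D.rank)
    (hIJ : ∀ i, i ∈ J ↔ i ∈ I ∧ i ≠ k) {T : List (List (List ℤ))} (hT : pchk A D.rank k I T = true)
    {R : Type*} [CommRing R] (q : R) :
    (∑ᶠ w ∈ (Wn hG I : Set hG.W), q ^ len hG.s w) =
      hor q (T.map List.length) * ∑ᶠ w ∈ (Wn hG J : Set hG.W), q ^ len hG.s w := by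
  classical
  have : Fintype hG.W := Fintype.ofFinite _
  simp only [pchk, Bool.and_eq_true, beq_iff_eq, List.all_eq_true, List.mem_range, Bool.or_eq_true,
    List.contains_iff_mem, List.any_eq_true, decide_eq_true_eq] at hT
  obtain ⟨⟨⟨hT0, hT1⟩, hT2⟩, hT3⟩ := hT
  have hJI : Wn hG J ≤ Wn hG I := Wn_mono hG fun i hi => ((hIJ i).1 hi).1
  have hkJ : k ∉ J := fun h => ((hIJ k).1 h).2 rfl
  have hlt : ∀ n x, x ∈ T.getD n [] → n < T.length := by
    intro n x hx
    by_contra hcon
    rw [List.getD_eq_default _ _ (by omega)] at hx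
    simp at hx
  -- uniqueness of the level
  have huniq : ∀ n m x, x ∈ T.getD n [] → x ∈ T.getD m [] → n = m := by
    have h1 := (List.nodup_flatten.1 hT3).2
    rw [List.pairwise_iff_getElem] at h1
    have h2 : ∀ n m x, n < m → x ∈ T.getD n [] → x ∈ T.getD m [] → False := by
      intro n m x hnm hx hy
      have hn := hlt n x hx
      have hm := hlt m x hy
      have := h1 n m hn hm hnm
      rw [List.getD_eq_getElem _ _ hn] at hx
      rw [List.getD_eq_getElem _ _ hm] at hy
      exact this hx hy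
    intro n m x hx hy
    rcases lt_trichotomy n m with h | h | h
    · exact (h2 n m x h hx hy).elim
    · exact h
    · exact (h2 m n x h hy hx).elim
  -- Lemma D
  have hD : ∀ w ∈ Wn hG I, ∃ n ≤ len hG.s w, pvec hG k w ∈ T.getD n [] := by
    intro w hw
    obtain ⟨L, h1, h2, rfl⟩ := exists_red_of_mem_closure hG.genInv hG.exchange hw
    rw [h2]
    clear h2 hw
    induction L using List.reverseRecOn with
    | nil =>
      refine ⟨0, le_refl _, ?_⟩
      rw [wp_nil, pvec_one hG k hk, hT0]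
      simp
    | append_singleton L i ih =>
      obtain ⟨n, hn, hx⟩ := ih fun j hj => h1 j (by simp [hj])
      have hi : (i : ℕ) ∈ I := h1 i (by simp)
      rw [wp_append, wp_single, pvec_mul_s hG hA hAl hk, List.length_append, List.length_singleton]
      rcases hT1 n (hlt n _ hx) _ hx i hi with (h | h) | h
      · exact ⟨n + 1, by omega, h⟩
      · exact ⟨n - 1, by omega, h⟩
      · exact ⟨n, by omega, h⟩
  -- Lemma E
  have hE : ∀ n x, x ∈ T.getD n [] → ∃ w ∈ Wn hG I, pvec hG k w = x ∧ len hG.s w ≤ n := by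
    intro n
    induction n with
    | zero =>
      intro x hx
      rw [hT0] at hx
      refine ⟨1, one_mem _, ?_, by rw [hG.genInv.len_one]⟩
      rw [pvec_one hG k hk]
      exact (List.mem_singleton.1 hx).symm
    | succ n ih =>
      intro x hx
      have hn := hlt _ _ hx
      obtain ⟨i, hi, h1, h2⟩ := hT2 n (by omega) x hx
      obtain ⟨w, hw1, hw2, hw3⟩ := ih _ h1
      have hir := hI i hi
      refine ⟨w * hG.s ⟨i, hir⟩, mul_mem hw1 (Subgroup.subset_closure ⟨⟨i, hir⟩, hi, rfl⟩), ?_, ?_⟩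
      · rw [pvec_mul_s hG hA hAl hk, hw2]
        exact h2
      · have := hG.genInv.len_mul_s_le ⟨i, hir⟩ w
        omega
  -- minimal representatives
  have hF : ∀ n x, x ∈ T.getD n [] →
      (∑ w ∈ Finset.univ.filter (fun w : hG.W => w ∈ Wn hG I ∧ pvec hG k w = x), q ^ len hG.s w) =
      q ^ n * ∑ w ∈ Finset.univ.filter (fun w : hG.W => w ∈ Wn hG J), q ^ len hG.s w := by
    intro n x hx
    obtain ⟨w₀, hw₀, hw₀x, hw₀l⟩ := hE n x hx
    obtain ⟨u, ⟨huI, hux⟩, hum⟩ := Set.Finite.exists_minimalFor (fun v : hG.W => len hG.s v)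
      {w : hG.W | w ∈ Wn hG I ∧ pvec hG k w = x} (Set.toFinite _) ⟨w₀, hw₀, hw₀x⟩
    have hum' : ∀ w ∈ Wn hG I, pvec hG k w = x → len hG.s u ≤ len hG.s w := by
      intro w h1 h2
      by_contra hcon
      push Not at hcon
      have := hum (j := w) ⟨h1, h2⟩ hcon.le
      simp only at this
      omega
    have hun : len hG.s u = n := by
      obtain ⟨m, hm, hmx⟩ := hD u huI
      rw [hux] at hmx
      have h1 := huniq n m x hx hmx
      have h2 := hum' w₀ hw₀ hw₀x
      omega
    have hvu : ∀ v ∈ Wn hG J, pvec hG k (v * u) = x := by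
      intro v hv
      rw [← hux, pvec_eq_iff]
      intro j
      exact rc_Wn hG hk hkJ hv _
    have hadd := len_mul_of_min hG.genInv hG.exchange (J := {i | (i : ℕ) ∈ J}) (u := u) (fun v hv =>
      hum' _ (mul_mem (hJI hv) huI) (hvu v hv))
    rw [Finset.mul_sum]
    symm
    refine Finset.sum_bij (fun v _ => v * u) ?_ ?_ ?_ ?_
    · intro v hv
      rw [Finset.mem_filter] at hv ⊢
      exact ⟨Finset.mem_univ _, mul_mem (hJI hv.2) huI, hvu v hv.2⟩
    · intro a _ b _ hab
      exact mul_right_cancel hab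
    · intro w hw
      rw [Finset.mem_filter] at hw
      refine ⟨w * u⁻¹, ?_, by group⟩
      rw [Finset.mem_filter]
      refine ⟨Finset.mem_univ _, ?_⟩
      apply mem_Wn_of_pvec hG hk hIJ (mul_mem hw.2.1 (inv_mem huI))
      rw [← mul_inv_cancel u]
      apply pvec_mul hG hk
      rw [hux, hw.2.2]
    · intro v hv
      rw [Finset.mem_filter] at hv
      rw [hadd v hv.2, hun, pow_add, mul_comm]
  -- put together
  have e1 : ∀ K : List ℕ, (∑ᶠ w ∈ (Wn hG K : Set hG.W), q ^ len hG.s w) =
      ∑ w ∈ Finset.univ.filter (fun w : hG.W => w ∈ Wn hG K), q ^ len hG.s w := by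
    intro K
    rw [finsum_mem_eq_finite_toFinset_sum _ (Set.toFinite _)]
    apply Finset.sum_congr
    · ext w; simp
    · intros; rfl
  rw [e1, e1]
  have e2 : (∑ w ∈ Finset.univ.filter (fun w : hG.W => w ∈ Wn hG I), q ^ len hG.s w) =
      ∑ x ∈ T.flatten.toFinset, ∑ w ∈ Finset.univ.filter (fun w : hG.W => w ∈ Wn hG I ∧ pvec hG k w = x),
        q ^ len hG.s w := by
    rw [← Finset.sum_fiberwise_of_maps_to (s := Finset.univ.filter (fun w : hG.W => w ∈ Wn hG I))
      (t := T.flatten.toFinset) (g := fun w => pvec hG k w)]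
    · apply Finset.sum_congr rfl
      intro x _
      rw [Finset.filter_filter]
    · intro w hw
      rw [Finset.mem_filter] at hw
      obtain ⟨n, _, hx⟩ := hD w hw.2
      rw [List.mem_toFinset, List.mem_flatten]
      have hn := hlt _ _ hx
      rw [List.getD_eq_getElem _ _ hn] at hx
      exact ⟨_, List.getElem_mem hn, hx⟩
  rw [e2, List.sum_toFinset _ hT3]
  have e3 := flatten_sum q (∑ w ∈ Finset.univ.filter (fun w : hG.W => w ∈ Wn hG J), q ^ len hG.s w)
    (fun x => ∑ w ∈ Finset.univ.filter (fun w : hG.W => w ∈ Wn hG I ∧ pvec hG k w = x), q ^ len hG.s w) T 0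
    (fun m x hx => by rw [zero_add]; exact hF m x hx)
  rw [e3, pow_zero, one_mul]

theorem poinc_nil {R : Type*} [CommRing R] (q : R) :
    (∑ᶠ w ∈ (Wn hG [] : Set hG.W), q ^ len hG.s w) = 1 := by
  rw [Wn_nil]
  simp [hG.genInv.len_one]

theorem poinc_top {I : List ℕ} (h : ∀ i < D.rank, i ∈ I) {R : Type*} [CommRing R] (q : R) :
    (∑ᶠ w ∈ (Wn hG I : Set hG.W), q ^ len hG.s w) = ∑ᶠ w : hG.W, q ^ len hG.s w := by
  rw [Wn_top hG h]
  simp

end

theorem pcomb {R : Type*} [CommRing R] {H S q1 P' Cden Ccom Cnum Pnew : R} (n : ℕ) (ih : S * q1 ^ n = P')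
    (hP' : P' = Cden * Ccom) (hh : H * q1 * Cden = Cnum) (hP : Pnew = Cnum * Ccom) : H * S * q1 ^ (n + 1) = Pnew := by
  rw [hP, ← hh, pow_succ]
  calc H * S * (q1 ^ n * q1) = H * q1 * (S * q1 ^ n) := by ring
    _ = H * q1 * Cden * Ccom := by rw [ih, hP']; ring

end Cfsg.Agent.H22
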