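import Cfsg.Agent.H14.Conj
import Cfsg.Prelude.Def_HallClasses

set_option autoImplicit false
set_option linter.unusedSectionVars false

/-! Pronormality of subgroups of index prime to `p`. -/

namespace Cfsg.Agent.H22.Pron

open Cfsg Cfsg.Agent.H14

variable {G : Type*} [Group G]

/-- relative pronormality -/
def PrIn (H M : Subgroup G) : Prop := ∀ g ∈ M, ∃ x ∈ H ⊔ cj g H, cj g H = cj x H

theorem map_cj {G' : Type*} [Group G'] (f : G →* G') (g : G) (H : Subgroup G) :
    (cj g H).map f = cj (f g) (H.map f) := by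
  ext x
  constructor
  · rintro ⟨_, ⟨h, hh, rfl⟩, rfl⟩
    exact ⟨f h, ⟨h, hh, rfl⟩, by simp⟩
  · rintro ⟨_, ⟨h, hh, rfl⟩, rfl⟩
    exact ⟨_, ⟨h, hh, rfl⟩, by simp⟩

theorem comap_cj {G' : Type*} [Group G'] (f : G →* G') (g : G) (K : Subgroup G') :
    (cj (f g) K).comap f = cj g (K.comap f) := by
  ext x
  rw [Subgroup.mem_comap, mem_cj, mem_cj, Subgroup.mem_comap]
  simp

theorem pronormal_map {G' : Type*} [Group G'] (f : G →* G') (hf : Function.Surjective f)
    {H : Subgroup G} (h : IsPronormal H) : IsPronormal (H.map f) := by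
  intro g'
  obtain ⟨g, rfl⟩ := hf g'
  obtain ⟨x, hx, he⟩ := h g
  refine ⟨f x, ?_, ?_⟩
  · have h1 : f x ∈ (H ⊔ cj g H).map f := ⟨x, hx, rfl⟩
    rw [Subgroup.map_sup, map_cj f] at h1
    exact h1
  · have h1 : (cj g H).map f = (cj x H).map f := congrArg (Subgroup.map f) he
    rw [map_cj f, map_cj f] at h1
    exact h1

theorem exists_lift {G' : Type*} [Group G'] (f : G →* G')
    {H : Subgroup G} {g : G} {x' : G'} (hx : x' ∈ H.map f ⊔ cj (f g) (H.map f)) :
    ∃ x ∈ H ⊔ cj g H, f x = x' := by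
  rw [← map_cj f, ← Subgroup.map_sup] at hx
  obtain ⟨x, hx, he⟩ := hx
  exact ⟨x, hx, he⟩

theorem pronormal_comap {G' : Type*} [Group G'] (f : G →* G') (hf : Function.Surjective f)
    {K : Subgroup G'} (h : IsPronormal K) : IsPronormal (K.comap f) := by
  intro g
  obtain ⟨x', hx', he⟩ := h (f g)
  have hK : (K.comap f).map f = K := Subgroup.map_comap_eq_self_of_surjective hf K
  obtain ⟨x, hx, rfl⟩ := exists_lift f (H := K.comap f) (g := g) (x' := x') (by rw [hK]; exact hx')
  refine ⟨x, hx, ?_⟩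
  show cj g (K.comap f) = cj x (K.comap f)
  rw [← comap_cj, ← comap_cj]
  exact congrArg (Subgroup.comap f) he

theorem prIn_of_subgroupOf {H M : Subgroup G} (hHM : H ≤ M) (h : IsPronormal (H.subgroupOf M)) :
    PrIn H M := by
  intro g hg
  obtain ⟨x, hx, he⟩ := h ⟨g, hg⟩
  have hm : (H.subgroupOf M).map M.subtype = H := Subgroup.map_subgroupOf_eq_of_le hHM
  refine ⟨x, ?_, ?_⟩
  · have h1 : M.subtype x ∈ (H.subgroupOf M ⊔ cj (⟨g, hg⟩ : M) (H.subgroupOf M)).map M.subtype := ⟨x, hx, rfl⟩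
    rw [Subgroup.map_sup, map_cj M.subtype, hm] at h1
    exact h1
  · have h1 : (cj (⟨g, hg⟩ : M) (H.subgroupOf M)).map M.subtype = (cj x (H.subgroupOf M)).map M.subtype :=
      congrArg (Subgroup.map M.subtype) he
    rw [map_cj M.subtype, map_cj M.subtype, hm] at h1
    exact h1

theorem pronormal_of_prIn {M : Subgroup G} {K : Subgroup M} (h : PrIn (K.map M.subtype) M) :
    IsPronormal K := by
  intro g
  obtain ⟨x, hx, he⟩ := h g g.2
  obtain ⟨x', hx', hxx⟩ := exists_lift M.subtype (H := K) (g := g) (x' := x) hx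
  refine ⟨x', hx', ?_⟩
  apply Subgroup.map_injective M.subtype_injective
  show (cj g K).map M.subtype = (cj x' K).map M.subtype
  rw [map_cj M.subtype, map_cj M.subtype, hxx]
  exact he

theorem PrIn.cj {H M : Subgroup G} (h : PrIn H M) (u : G) : PrIn (H14.cj u H) (H14.cj u M) := by
  intro g hg
  obtain ⟨x, hx, he⟩ := h _ (mem_cj.1 hg)
  have e1 : H14.cj g (H14.cj u H) = H14.cj u (H14.cj (u⁻¹ * g * u) H) := by
    rw [cj_cj, cj_cj]; congr 1; group
  refine ⟨u * x * u⁻¹, ?_, ?_⟩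
  · have h1 := (conj_mem_cj (g := u)).2 hx
    rwa [cj_sup, ← e1] at h1
  · rw [e1, he, cj_cj, cj_cj]; congr 1; group

/-- the reduction step -/
theorem red {H : Subgroup G} {g x g' n : G} (hg : g = x * g' * n) (hx : x ∈ H ⊔ cj g H)
    (hn : n ∈ Subgroup.normalizer (H : Set G)) (h : ∃ y ∈ H ⊔ cj g' H, cj g' H = cj y H) :
    ∃ y ∈ H ⊔ cj g H, cj g H = cj y H := by
  obtain ⟨y, hy, he⟩ := h
  have h1 : cj g H = cj x (cj g' H) := by
    rw [hg, ← cj_cj, mem_normalizer_cj.1 hn, cj_cj]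
  have h2 : cj g' H ≤ H ⊔ cj g H := by
    have h3 : cj g' H = cj x⁻¹ (cj g H) := by rw [h1]; simp
    rw [h3]
    exact cj_le_of_mem (inv_mem hx) le_sup_right
  refine ⟨x * y, mul_mem hx ((sup_le le_sup_left h2 : H ⊔ cj g' H ≤ H ⊔ cj g H) hy), ?_⟩
  rw [h1, he, cj_cj]

section fin
variable [Finite G] {p : ℕ} [hp : Fact p.Prime]

theorem sylow_le_iff (K : Subgroup G) : (∃ P : Sylow p G, (P : Subgroup G) ≤ K) ↔ ¬ p ∣ K.index := by
  constructor
  · rintro ⟨P, hP⟩ hd
    exact P.not_dvd_index (hd.trans (Subgroup.index_dvd_of_le hP))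
  · intro hd
    obtain ⟨P, hP⟩ := exists_isSylIn (p := p) K
    have h1 : ¬ p ∣ P.index := by
      rw [← Subgroup.relIndex_mul_index hP.le]
      exact fun h => ((Nat.Prime.dvd_mul hp.out).1 h).elim hP.ndvd hd
    exact ⟨hP.pgroup.toSylow h1, by rw [IsPGroup.toSylow_coe]; exact hP.le⟩

/-- the property of the statements -/
def XP (p : ℕ) (G : Type*) [Group G] : Prop :=
  ∀ K : Subgroup G, (∃ P : Sylow p G, (P : Subgroup G) ≤ K) → IsPronormal K

theorem XP.of_index (h : XP p G) {K : Subgroup G} (hK : ¬ p ∣ K.index) : IsPronormal K :=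
  h K ((sylow_le_iff K).2 hK)

theorem xp_of_index (h : ∀ K : Subgroup G, ¬ p ∣ K.index → IsPronormal K) : XP p G :=
  fun K hK => h K ((sylow_le_iff K).1 hK)

theorem XP.map {G' : Type*} [Group G'] [Finite G'] (h : XP p G) (f : G →* G')
    (hf : Function.Surjective f) : XP p G' := by
  apply xp_of_index
  intro K hK
  rw [← Subgroup.map_comap_eq_self_of_surjective hf K]
  apply pronormal_map f hf
  apply h.of_index
  rwa [Subgroup.index_comap_of_surjective K hf]

theorem XP.of_pker {G' : Type*} [Group G'] [Finite G'] (f : G →* G')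
    (hf : Function.Surjective f) (hk : IsPGroup p f.ker) (h : XP p G') : XP p G := by
  intro K hK
  obtain ⟨P, hP⟩ := hK
  have hle : f.ker ≤ K := by
    have h1 : f.ker ≤ (P : Subgroup G) := by
      obtain ⟨x, hx, h2⟩ := (Sylow.isSylIn_top P).exists_cj_le (le_top : f.ker ≤ ⊤) hk
      intro y hy
      have h3 : cj x f.ker = f.ker := mem_normalizer_cj.1 (by rw [Subgroup.normalizer_eq_top]; trivial)
      rw [h3] at h2
      exact h2 hy
    exact h1.trans hP
  have e : (K.map f).comap f = K := Subgroup.comap_map_eq_self hle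
  rw [← e]
  apply pronormal_comap f hf
  apply h.of_index
  rw [← Subgroup.index_comap_of_surjective _ hf, e]
  exact (sylow_le_iff K).1 ⟨P, hP⟩

theorem XP.prIn {M : Subgroup G} (h : XP p M) {K : Subgroup G} (hKM : K ≤ M)
    (hi : ¬ p ∣ K.relIndex M) : PrIn K M :=
  prIn_of_subgroupOf hKM (h.of_index hi)

theorem XP.subgroup {M : Subgroup G} (h : XP p G) (hM : ¬ p ∣ M.index) : XP p M := by
  apply xp_of_index
  intro K hK
  apply pronormal_of_prIn
  have h1 : ¬ p ∣ (K.map M.subtype).index := by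
    rw [← Subgroup.relIndex_mul_index (Subgroup.map_subtype_le K)]
    have h2 : (K.map M.subtype).relIndex M = K.index := by
      rw [Subgroup.relIndex, ← Subgroup.comap_subtype,
        Subgroup.comap_map_eq_self_of_injective M.subtype_injective]
    rw [h2]
    exact fun h => ((Nat.Prime.dvd_mul hp.out).1 h).elim hK hM
  intro g _
  exact h.of_index h1 g

theorem map_normalizer_of_pronormal (A : Subgroup G) [A.Normal] {K : Subgroup G} (h : IsPronormal K) :
    (Subgroup.normalizer (K : Set G)).map (QuotientGroup.mk' A) =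
      Subgroup.normalizer ((K.map (QuotientGroup.mk' A) : Subgroup (G ⧸ A)) : Set (G ⧸ A)) := by
  apply le_antisymm
  · exact Subgroup.le_normalizer_map _
  · intro x' hx'
    obtain ⟨g, rfl⟩ := QuotientGroup.mk'_surjective A x'
    rw [mem_normalizer_cj, ← map_cj] at hx'
    have h1 : cj g K ≤ K ⊔ A := by
      have h2 : ((cj g K).map (QuotientGroup.mk' A)).comap (QuotientGroup.mk' A) =
        (K.map (QuotientGroup.mk' A)).comap (QuotientGroup.mk' A) := by rw [hx']
      rw [Subgroup.comap_map_eq, Subgroup.comap_map_eq, QuotientGroup.ker_mk'] at h2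
      rw [← h2]; exact le_sup_left
    obtain ⟨x, hx, he⟩ := h g
    have hxA : x ∈ K ⊔ A := (sup_le le_sup_left h1 : K ⊔ cj g K ≤ K ⊔ A) hx
    have h3 : x⁻¹ * g ∈ Subgroup.normalizer (K : Set G) := by
      rw [mem_normalizer_cj, ← cj_cj]
      show cj x⁻¹ (K.map (MulAut.conj g).toMonoidHom) = K
      rw [he]; exact cj_inv_cj x K
    have h4 : QuotientGroup.mk' A x ∈ K.map (QuotientGroup.mk' A) := by
      have h5 : QuotientGroup.mk' A x ∈ (K ⊔ A).map (QuotientGroup.mk' A) := ⟨x, hxA, rfl⟩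
      rw [Subgroup.map_sup] at h5
      have h6 : A.map (QuotientGroup.mk' A) = ⊥ := by
        rw [Subgroup.map_eq_bot_iff, QuotientGroup.ker_mk']
      rwa [h6, sup_bot_eq] at h5
    have e : QuotientGroup.mk' A g = QuotientGroup.mk' A x * QuotientGroup.mk' A (x⁻¹ * g) := by
      rw [← map_mul]; congr 1; group
    rw [e]
    exact mul_mem (Subgroup.map_mono Subgroup.le_normalizer h4) ⟨_, h3, rfl⟩

theorem main (A : Subgroup G) [A.Normal] (hA : XP p A) (hQ : XP p (G ⧸ A)) {T : Subgroup G}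
    (hT : IsSylIn p T A) [(T.subgroupOf (Subgroup.normalizer (T : Set G))).Normal] :
    XP p G ↔ (XP p (↥(Subgroup.normalizer (T : Set G)) ⧸ T.subgroupOf (Subgroup.normalizer (T : Set G))) ∧
      ∀ K : Subgroup G, (∃ P : Sylow p G, (P : Subgroup G) ≤ K) →
          (Subgroup.normalizer (K : Set G)).map (QuotientGroup.mk' A) =
            Subgroup.normalizer ((K.map (QuotientGroup.mk' A) : Subgroup (G ⧸ A)) : Set (G ⧸ A))) := by
  have hAn : ∀ x : G, cj x A = A := fun x => mem_normalizer_cj.1 (by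
    rw [Subgroup.normalizer_eq_top]; trivial)
  have hSyl : ∀ S : Sylow p G, IsSylIn p ((S : Subgroup G) ⊓ A) A := fun S =>
    (Sylow.isSylIn_top S).inf_of_normalizes le_top (by rw [Subgroup.normalizer_eq_top])
  constructor
  · intro h
    refine ⟨?_, fun K hK => map_normalizer_of_pronormal A (h K hK)⟩
    have hN : ¬ p ∣ (Subgroup.normalizer (T : Set G)).index := by
      rw [← sylow_le_iff]
      obtain ⟨S⟩ : Nonempty (Sylow p G) := inferInstance
      obtain ⟨x, hx, he⟩ := hT.exists_cj_eq (hSyl S)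
      rw [cj_inf, hAn] at he
      obtain ⟨S', hS'⟩ := IsSylIn.eq_sylow (by
        have := (Sylow.isSylIn_top S).cj x
        rwa [cj_top] at this)
      refine ⟨S', ?_⟩
      rw [hS']
      intro y hy
      rw [mem_normalizer_cj, ← he, cj_inf, hAn, cj_eq_of_mem hy]
    exact (h.subgroup hN).map (QuotientGroup.mk' _) (QuotientGroup.mk'_surjective _)
  · rintro ⟨h1, h2⟩
    have hN : XP p (Subgroup.normalizer (T : Set G)) := by
      apply XP.of_pker (QuotientGroup.mk' _) (QuotientGroup.mk'_surjective _) _ h1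
      rw [QuotientGroup.ker_mk']
      exact hT.pgroup.comap_subtype
    intro H hH
    obtain ⟨S, hS⟩ := hH
    have hHi : ¬ p ∣ H.index := (sylow_le_iff H).1 ⟨S, hS⟩
    have hT0 := hSyl S
    -- the pronormality in N(T0)
    have hN0 : ∀ K ≤ Subgroup.normalizer (((S : Subgroup G) ⊓ A : Subgroup G) : Set G), ¬ p ∣ K.index →
        PrIn K (Subgroup.normalizer (((S : Subgroup G) ⊓ A : Subgroup G) : Set G)) := by
      intro K hK hi
      obtain ⟨u, hu, he⟩ := hT0.exists_cj_eq hT
      rw [← he, normalizer_cj] at hK ⊢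
      have h3 : PrIn (cj u⁻¹ K) (Subgroup.normalizer (T : Set G)) := by
        have hle : cj u⁻¹ K ≤ Subgroup.normalizer (T : Set G) := by
          have := cj_mono (g := u⁻¹) hK
          rwa [cj_inv_cj] at this
        apply hN.prIn hle
        intro hd
        apply hi
        rw [← index_cj u⁻¹ K, ← Subgroup.relIndex_mul_index hle]
        exact Dvd.dvd.mul_right hd _
      have := h3.cj u
      rwa [cj_cj_inv] at this
    intro g
    -- step 1
    obtain ⟨x', hx', he'⟩ := hQ (H.map (QuotientGroup.mk' A)) ((sylow_le_iff _).2 (by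
      intro hd
      apply hHi
      exact hd.trans (Subgroup.index_map_dvd H (QuotientGroup.mk'_surjective A)))) (QuotientGroup.mk' A g)
    obtain ⟨x, hx, hxx⟩ := exists_lift (QuotientGroup.mk' A) (H := H) (g := g) (x' := x') hx'
    have h3 : QuotientGroup.mk' A (x⁻¹ * g) ∈ (Subgroup.normalizer (H : Set G)).map (QuotientGroup.mk' A) := by
      rw [h2 H ⟨S, hS⟩, mem_normalizer_cj, map_mul, ← cj_cj]
      show cj _ ((H.map (QuotientGroup.mk' A)).map (MulAut.conj (QuotientGroup.mk' A g)).toMonoidHom) = _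
      rw [he', ← hxx, map_inv]
      exact cj_inv_cj _ _
    obtain ⟨n, hn, hne⟩ := h3
    have ha : x⁻¹ * g * n⁻¹ ∈ A := by
      rw [← QuotientGroup.ker_mk' A, MonoidHom.mem_ker, map_mul, map_inv, ← hne, mul_inv_cancel]
    refine red (g := g) (x := x) (g' := x⁻¹ * g * n⁻¹) (n := n) (by group) hx hn ?_
    generalize x⁻¹ * g * n⁻¹ = a at ha
    -- step 2
    have hB : PrIn (H ⊓ A) A := by
      apply hA.prIn inf_le_right
      intro hd
      apply hT0.ndvd
      have h4 : (S : Subgroup G) ⊓ A ≤ H ⊓ A := inf_le_inf_right A hS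
      rw [← Subgroup.relIndex_mul_relIndex _ _ _ h4 inf_le_right]
      exact Dvd.dvd.mul_left hd _
    obtain ⟨x1, hx1, he1⟩ := hB a ha
    have hx1A : x1 ∈ A := by
      have h5 : (H ⊓ A) ⊔ cj a (H ⊓ A) ≤ A := by
        apply sup_le inf_le_right
        calc cj a (H ⊓ A) ≤ cj a A := cj_mono inf_le_right
          _ = A := hAn a
      exact h5 hx1
    have hx1H : x1 ∈ H ⊔ cj a H := (sup_le_sup inf_le_left (cj_mono inf_le_left) :
      (H ⊓ A) ⊔ cj a (H ⊓ A) ≤ H ⊔ cj a H) hx1
    refine red (g := a) (x := x1) (g' := x1⁻¹ * a) (n := 1) (by group) hx1H (one_mem _) ?_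
    have hb : x1⁻¹ * a ∈ A := mul_mem (inv_mem hx1A) ha
    have hbn : x1⁻¹ * a ∈ Subgroup.normalizer ((H ⊓ A : Subgroup G) : Set G) := by
      rw [mem_normalizer_cj, ← cj_cj, he1, cj_inv_cj]
    generalize x1⁻¹ * a = b at hb hbn
    -- step 3
    have hT0B : IsSylIn p ((S : Subgroup G) ⊓ A) (H ⊓ A) := hT0.mono (inf_le_inf_right A hS) inf_le_right
    obtain ⟨n1, hn1, y, hy, rfl⟩ := frattini_arg (H := A ⊓ Subgroup.normalizer ((H ⊓ A : Subgroup G) : Set G))
      hT0B (le_inf inf_le_right Subgroup.le_normalizer) inf_le_right (Subgroup.mem_inf.2 ⟨hb, hbn⟩)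
    refine red (g := n1 * y) (x := n1) (g' := y) (n := 1) (by group)
      (Subgroup.mem_sup_left (Subgroup.mem_inf.1 hn1).1) (one_mem _) ?_
    obtain ⟨⟨-, hyB⟩, hyT⟩ := hy
    -- step 4
    have hL1 : (S : Subgroup G) ≤ H ⊓ Subgroup.normalizer (((S : Subgroup G) ⊓ A : Subgroup G) : Set G) := by
      apply le_inf hS
      intro w hw
      rw [mem_normalizer_cj, cj_inf, hAn, cj_eq_of_mem hw]
    obtain ⟨w, hw, hwe⟩ := hN0 (H ⊓ Subgroup.normalizer (((S : Subgroup G) ⊓ A : Subgroup G) : Set G))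
      inf_le_right ((sylow_le_iff _).1 ⟨S, hL1⟩) y hyT
    have hHB : H ≤ Subgroup.normalizer ((H ⊓ A : Subgroup G) : Set G) := by
      intro u hu
      rw [mem_normalizer_cj, cj_inf, hAn, cj_eq_of_mem hu]
    have hHsup : H = (H ⊓ A) ⊔ (H ⊓ Subgroup.normalizer (((S : Subgroup G) ⊓ A : Subgroup G) : Set G)) := by
      apply le_antisymm
      · intro u hu
        obtain ⟨n2, hn2, y2, hy2, rfl⟩ := frattini_arg hT0B inf_le_left hHB hu
        exact mul_mem (Subgroup.mem_sup_left hn2) (Subgroup.mem_sup_right hy2)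
      · exact sup_le inf_le_left inf_le_left
    have hwB : w ∈ Subgroup.normalizer ((H ⊓ A : Subgroup G) : Set G) := by
      have h5 : (H ⊓ Subgroup.normalizer (((S : Subgroup G) ⊓ A : Subgroup G) : Set G)) ⊔
          cj y (H ⊓ Subgroup.normalizer (((S : Subgroup G) ⊓ A : Subgroup G) : Set G)) ≤
          Subgroup.normalizer ((H ⊓ A : Subgroup G) : Set G) := by
        apply sup_le (inf_le_left.trans hHB)
        calc cj y (H ⊓ Subgroup.normalizer (((S : Subgroup G) ⊓ A : Subgroup G) : Set G)) ≤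
              cj y (Subgroup.normalizer ((H ⊓ A : Subgroup G) : Set G)) := cj_mono (inf_le_left.trans hHB)
          _ = Subgroup.normalizer ((cj y (H ⊓ A) : Subgroup G) : Set G) := (normalizer_cj _ _).symm
          _ = _ := by rw [mem_normalizer_cj.1 hyB]
      exact h5 hw
    refine ⟨w, (sup_le_sup inf_le_left (cj_mono inf_le_left) :
      (H ⊓ Subgroup.normalizer (((S : Subgroup G) ⊓ A : Subgroup G) : Set G)) ⊔
          cj y (H ⊓ Subgroup.normalizer (((S : Subgroup G) ⊓ A : Subgroup G) : Set G)) ≤ H ⊔ cj y H) hw, ?_⟩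
    rw [hHsup, cj_sup, cj_sup, mem_normalizer_cj.1 hyB, mem_normalizer_cj.1 hwB, hwe]

/-- self-normalizing Sylow subgroups -/
theorem selfnorm (hQ : ∀ P : Sylow p G, Subgroup.normalizer ((P : Subgroup G) : Set G) = P)
    {K : Subgroup G} {P : Sylow p G} (hP : (P : Subgroup G) ≤ K) :
    Subgroup.normalizer (K : Set G) = K := by
  apply le_antisymm _ Subgroup.le_normalizer
  intro x hx
  obtain ⟨n, hn, y, hy, rfl⟩ := frattini_arg (Sylow.isSylIn_of_le P hP) Subgroup.le_normalizer le_rfl hx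
  have h1 := (Subgroup.mem_inf.1 hy).2
  rw [hQ P] at h1
  exact mul_mem hn (hP h1)

theorem xp_of_selfnorm (hQ : ∀ P : Sylow p G, Subgroup.normalizer ((P : Subgroup G) : Set G) = P) :
    XP p G := by
  rintro K ⟨P, hP⟩ g
  have h1 : IsSylIn p (P : Subgroup G) (K ⊔ cj g K) := Sylow.isSylIn_of_le P (hP.trans le_sup_left)
  obtain ⟨P', hP'⟩ := IsSylIn.eq_sylow (by
    have := (Sylow.isSylIn_top P).cj g
    rwa [cj_top] at this)
  have h2 : IsSylIn p (cj g (P : Subgroup G)) (K ⊔ cj g K) := by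
    rw [← hP']
    apply Sylow.isSylIn_of_le
    rw [hP']
    exact (cj_mono hP).trans le_sup_right
  obtain ⟨x, hx, he⟩ := h2.exists_cj_eq h1
  refine ⟨x, hx, ?_⟩
  have h3 : x⁻¹ * g ∈ Subgroup.normalizer ((P : Subgroup G) : Set G) := by
    rw [mem_normalizer_cj, ← cj_cj, ← he, cj_inv_cj]
  rw [hQ P] at h3
  have h4 : cj (x⁻¹ * g) K = K := cj_eq_of_mem (hP h3)
  have h5 : cj g K = cj x (cj (x⁻¹ * g) K) := by rw [cj_cj]; congr 1; group
  show cj g K = cj x K
  rw [h5, h4]

end fin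

end Cfsg.Agent.H22.Pron
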