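import Mathlib

set_option autoImplicit false
set_option linter.unusedSectionVars false

/-!
# Homomorphisms out of `SL(2, F)` from root elements (seat helper22)
-/

namespace Cfsg.Agent.H22

section
variable {F : Type*} [Field F] {A : Type*} [Group A]

/-- relations of rank one -/
structure SL2Rel (X Y : F → A) : Prop where
  addX : ∀ t u, X (t + u) = X t * X u
  addY : ∀ t u, Y (t + u) = Y t * Y u
  conj : ∀ t : F, t ≠ 0 → ∀ u, (X t * Y (-t⁻¹) * X t) * X u * (X t * Y (-t⁻¹) * X t)⁻¹ = Y (-(t⁻¹ ^ 2 * u))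
  hmul : ∀ c d : F, c ≠ 0 → d ≠ 0 →
    ((X c * Y (-c⁻¹) * X c) * (X (-1) * Y (- (-1)⁻¹) * X (-1))) * ((X d * Y (-d⁻¹) * X d) * (X (-1) * Y (- (-1)⁻¹) * X (-1))) =
      (X (c * d) * Y (-(c * d)⁻¹) * X (c * d)) * (X (-1) * Y (- (-1)⁻¹) * X (-1))

namespace SL2Rel
variable {X Y : F → A} (h : SL2Rel X Y)

/-- `n(t)` -/
def nn (X Y : F → A) (t : F) : A := X t * Y (-t⁻¹) * X t
/-- `h(t)` -/
def hh (X Y : F → A) (t : F) : A := nn X Y t * nn X Y (-1)

include h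

theorem X_zero : X 0 = 1 := by
  have := h.addX 0 0
  rw [add_zero] at this
  exact (mul_eq_left.1 this.symm)

theorem Y_zero : Y 0 = 1 := by
  have := h.addY 0 0
  rw [add_zero] at this
  exact (mul_eq_left.1 this.symm)

theorem X_neg (t : F) : X (-t) = (X t)⁻¹ := by
  rw [eq_inv_iff_mul_eq_one, ← h.addX, neg_add_cancel, h.X_zero]

theorem Y_neg (t : F) : Y (-t) = (Y t)⁻¹ := by
  rw [eq_inv_iff_mul_eq_one, ← h.addY, neg_add_cancel, h.Y_zero]

theorem nn_inv (t : F) : (nn X Y t)⁻¹ = nn X Y (-t) := by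
  unfold nn
  rw [mul_inv_rev, mul_inv_rev, ← h.X_neg, ← h.Y_neg, inv_neg, mul_assoc]

theorem conjX {t : F} (ht : t ≠ 0) (u : F) : nn X Y t * X u * (nn X Y t)⁻¹ = Y (-(t⁻¹ ^ 2 * u)) := h.conj t ht u

theorem conjY {t : F} (ht : t ≠ 0) (u : F) : nn X Y t * Y u * (nn X Y t)⁻¹ = X (-(t ^ 2 * u)) := by
  have h1 := h.conjX (neg_ne_zero.2 ht) (-(t ^ 2 * u))
  rw [← h.nn_inv, inv_inv] at h1
  have e : -((-t)⁻¹ ^ 2 * -(t ^ 2 * u)) = u := by
    field_simp
  rw [e] at h1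
  rw [← h1]; group

theorem nn_eq {s : F} (hs : s ≠ 0) : nn X Y s = Y (-s⁻¹) * X s * Y (-s⁻¹) := by
  have h1 : nn X Y s = nn X Y s * nn X Y s * (nn X Y s)⁻¹ := by group
  have h2 : nn X Y s * nn X Y s * (nn X Y s)⁻¹ =
      (nn X Y s * X s * (nn X Y s)⁻¹) * (nn X Y s * Y (-s⁻¹) * (nn X Y s)⁻¹) * (nn X Y s * X s * (nn X Y s)⁻¹) := by
    have e : nn X Y s * nn X Y s * (nn X Y s)⁻¹ = nn X Y s * (X s * Y (-s⁻¹) * X s) * (nn X Y s)⁻¹ := rfl
    rw [e]; group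
  rw [h1, h2, h.conjX hs, h.conjY hs]
  have e1 : -(s⁻¹ ^ 2 * s) = -s⁻¹ := by field_simp
  have e2 : -(s ^ 2 * -s⁻¹) = s := by field_simp
  rw [e1, e2]

theorem hh_one : hh X Y 1 = 1 := by
  unfold hh
  rw [← h.nn_inv, mul_inv_cancel]

theorem hh_mul {c d : F} (hc : c ≠ 0) (hd : d ≠ 0) : hh X Y c * hh X Y d = hh X Y (c * d) := h.hmul c d hc hd

theorem hh_inv {c : F} (hc : c ≠ 0) : (hh X Y c)⁻¹ = hh X Y c⁻¹ := by
  rw [inv_eq_iff_mul_eq_one, h.hh_mul hc (inv_ne_zero hc), mul_inv_cancel₀ hc, h.hh_one]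

theorem nn_hh (t : F) : nn X Y t = hh X Y t * nn X Y 1 := by
  unfold hh
  rw [mul_assoc, ← h.nn_inv 1, inv_mul_cancel, mul_one]

theorem hh_conjX {t : F} (ht : t ≠ 0) (u : F) : hh X Y t * X u * (hh X Y t)⁻¹ = X (t ^ 2 * u) := by
  unfold hh
  have e : nn X Y t * nn X Y (-1) * X u * (nn X Y t * nn X Y (-1))⁻¹ =
      nn X Y t * (nn X Y (-1) * X u * (nn X Y (-1))⁻¹) * (nn X Y t)⁻¹ := by group
  rw [e, h.conjX (by norm_num), h.conjY ht]
  congr 1
  norm_num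

theorem X_hh {t : F} (ht : t ≠ 0) (u : F) : X u * hh X Y t = hh X Y t * X (t⁻¹ ^ 2 * u) := by
  have h1 := h.hh_conjX ht (t⁻¹ ^ 2 * u)
  have e : t ^ 2 * (t⁻¹ ^ 2 * u) = u := by field_simp
  rw [e] at h1
  rw [← h1]; group

theorem nn_one_hh {a : F} (ha : a ≠ 0) : nn X Y 1 * hh X Y a = hh X Y a⁻¹ * nn X Y 1 := by
  have h1 : nn X Y 1 * nn X Y a * (nn X Y 1)⁻¹ = nn X Y a⁻¹ := by
    have e : nn X Y 1 * nn X Y a * (nn X Y 1)⁻¹ = (nn X Y 1 * X a * (nn X Y 1)⁻¹) * (nn X Y 1 * Y (-a⁻¹) * (nn X Y 1)⁻¹) *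
        (nn X Y 1 * X a * (nn X Y 1)⁻¹) := by
      have e' : nn X Y 1 * nn X Y a * (nn X Y 1)⁻¹ = nn X Y 1 * (X a * Y (-a⁻¹) * X a) * (nn X Y 1)⁻¹ := rfl
      rw [e']; group
    rw [e, h.conjX one_ne_zero, h.conjY one_ne_zero, h.nn_eq (inv_ne_zero ha)]
    simp
  have h2 : nn X Y 1 * nn X Y (-1) * (nn X Y 1)⁻¹ = nn X Y (-1) := by
    rw [← h.nn_inv 1]; group
  have h3 : nn X Y 1 * hh X Y a * (nn X Y 1)⁻¹ = hh X Y a⁻¹ := by
    have e : nn X Y 1 * hh X Y a * (nn X Y 1)⁻¹ = (nn X Y 1 * nn X Y a * (nn X Y 1)⁻¹) * (nn X Y 1 * nn X Y (-1) * (nn X Y 1)⁻¹) := by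
      unfold hh; group
    rw [e, h1, h2]; rfl
  rw [← h3]; group

theorem nn_one_sq : nn X Y 1 * nn X Y 1 = hh X Y (-1) := by
  have h1 : hh X Y (-1) * hh X Y (-1) = 1 := by
    rw [h.hh_mul (by norm_num) (by norm_num)]
    have : (-1 : F) * -1 = 1 := by norm_num
    rw [this, h.hh_one]
  have h2 : (hh X Y (-1))⁻¹ = nn X Y 1 * nn X Y 1 := by
    unfold hh
    rw [mul_inv_rev, h.nn_inv, neg_neg]
  rw [← h2]
  exact inv_eq_of_mul_eq_one_left h1

/-- `n(1) X(u)` for `u ≠ 0` -/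
theorem nn_X {u : F} (hu : u ≠ 0) : nn X Y 1 * X u = X (-u⁻¹) * nn X Y u⁻¹ * X (-u⁻¹) * nn X Y 1 := by
  have h1 := h.conjX (one_ne_zero (α := F)) u
  have e1 : -((1 : F)⁻¹ ^ 2 * u) = -u := by norm_num
  rw [e1] at h1
  have h2 : Y (-u) = X (-u⁻¹) * nn X Y u⁻¹ * X (-u⁻¹) := by
    unfold nn
    rw [inv_inv, h.X_neg]; group
  rw [h2] at h1
  rw [← h1]; group

end SL2Rel

open Classical in
/-- the map on matrices -/
noncomputable def slMap (X Y : F → A) (g : Matrix.SpecialLinearGroup (Fin 2) F) : A :=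
  if (g : Matrix (Fin 2) (Fin 2) F) 1 0 = 0 then
    SL2Rel.hh X Y ((g : Matrix (Fin 2) (Fin 2) F) 0 0) * X (((g : Matrix (Fin 2) (Fin 2) F) 0 0)⁻¹ * (g : Matrix (Fin 2) (Fin 2) F) 0 1)
  else X ((g : Matrix (Fin 2) (Fin 2) F) 0 0 / (g : Matrix (Fin 2) (Fin 2) F) 1 0) *
    SL2Rel.nn X Y (-((g : Matrix (Fin 2) (Fin 2) F) 1 0)⁻¹) *
    X ((g : Matrix (Fin 2) (Fin 2) F) 1 1 / (g : Matrix (Fin 2) (Fin 2) F) 1 0)

/-- upper unipotent -/
def ux (t : F) : Matrix.SpecialLinearGroup (Fin 2) F := ⟨!![1, t; 0, 1], by simp [Matrix.det_fin_two]⟩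
/-- lower unipotent -/
def uy (t : F) : Matrix.SpecialLinearGroup (Fin 2) F := ⟨!![1, 0; t, 1], by simp [Matrix.det_fin_two]⟩
/-- Weyl element -/
def uw : Matrix.SpecialLinearGroup (Fin 2) F := ⟨!![0, 1; -1, 0], by simp [Matrix.det_fin_two]⟩

theorem sl_det (g : Matrix.SpecialLinearGroup (Fin 2) F) :
    (g : Matrix (Fin 2) (Fin 2) F) 0 0 * (g : Matrix (Fin 2) (Fin 2) F) 1 1 -
      (g : Matrix (Fin 2) (Fin 2) F) 0 1 * (g : Matrix (Fin 2) (Fin 2) F) 1 0 = 1 := by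
  rw [← Matrix.det_fin_two]; exact g.det_coe

theorem slMap_ux {X Y : F → A} (h : SL2Rel X Y) (t : F) (g : Matrix.SpecialLinearGroup (Fin 2) F) :
    slMap X Y (ux t * g) = X t * slMap X Y g := by
  have hd := sl_det g
  set a := (g : Matrix (Fin 2) (Fin 2) F) 0 0 with ha
  set b := (g : Matrix (Fin 2) (Fin 2) F) 0 1 with hb
  set c := (g : Matrix (Fin 2) (Fin 2) F) 1 0 with hc
  set d := (g : Matrix (Fin 2) (Fin 2) F) 1 1 with hdd
  have e00 : ((ux t * g : Matrix.SpecialLinearGroup (Fin 2) F) : Matrix (Fin 2) (Fin 2) F) 0 0 = a + t * c := by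
    rw [Matrix.SpecialLinearGroup.coe_mul, Matrix.mul_apply, Fin.sum_univ_two]
    simp [ux, ha, hc]
  have e01 : ((ux t * g : Matrix.SpecialLinearGroup (Fin 2) F) : Matrix (Fin 2) (Fin 2) F) 0 1 = b + t * d := by
    rw [Matrix.SpecialLinearGroup.coe_mul, Matrix.mul_apply, Fin.sum_univ_two]
    simp [ux, hb, hdd]
  have e10 : ((ux t * g : Matrix.SpecialLinearGroup (Fin 2) F) : Matrix (Fin 2) (Fin 2) F) 1 0 = c := by
    rw [Matrix.SpecialLinearGroup.coe_mul, Matrix.mul_apply, Fin.sum_univ_two]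
    simp [ux, hc]
  have e11 : ((ux t * g : Matrix.SpecialLinearGroup (Fin 2) F) : Matrix (Fin 2) (Fin 2) F) 1 1 = d := by
    rw [Matrix.SpecialLinearGroup.coe_mul, Matrix.mul_apply, Fin.sum_univ_two]
    simp [ux, hdd]
  unfold slMap
  rw [e00, e01, e10, e11, ← ha, ← hb, ← hc, ← hdd]
  by_cases hc0 : c = 0
  · rw [if_pos hc0, if_pos hc0, hc0, mul_zero, add_zero]
    rw [hc0, mul_zero, sub_zero] at hd
    have ha0 : a ≠ 0 := left_ne_zero_of_mul (by rw [hd]; exact one_ne_zero)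
    have hd' : d = a⁻¹ := by field_simp; linear_combination hd
    rw [← mul_assoc, h.X_hh ha0, mul_assoc, ← h.addX]
    congr 2
    rw [hd']; ring
  · rw [if_neg hc0, if_neg hc0, ← mul_assoc, ← mul_assoc, ← h.addX]
    congr 3
    field_simp
    ring

theorem slMap_uw {X Y : F → A} (h : SL2Rel X Y) (g : Matrix.SpecialLinearGroup (Fin 2) F) :
    slMap X Y (uw * g) = SL2Rel.nn X Y 1 * slMap X Y g := by
  have hd := sl_det g
  set a := (g : Matrix (Fin 2) (Fin 2) F) 0 0 with ha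
  set b := (g : Matrix (Fin 2) (Fin 2) F) 0 1 with hb
  set c := (g : Matrix (Fin 2) (Fin 2) F) 1 0 with hc
  set d := (g : Matrix (Fin 2) (Fin 2) F) 1 1 with hdd
  have e00 : ((uw * g : Matrix.SpecialLinearGroup (Fin 2) F) : Matrix (Fin 2) (Fin 2) F) 0 0 = c := by
    rw [Matrix.SpecialLinearGroup.coe_mul, Matrix.mul_apply, Fin.sum_univ_two]
    simp [uw, hc]
  have e01 : ((uw * g : Matrix.SpecialLinearGroup (Fin 2) F) : Matrix (Fin 2) (Fin 2) F) 0 1 = d := by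
    rw [Matrix.SpecialLinearGroup.coe_mul, Matrix.mul_apply, Fin.sum_univ_two]
    simp [uw, hdd]
  have e10 : ((uw * g : Matrix.SpecialLinearGroup (Fin 2) F) : Matrix (Fin 2) (Fin 2) F) 1 0 = -a := by
    rw [Matrix.SpecialLinearGroup.coe_mul, Matrix.mul_apply, Fin.sum_univ_two]
    simp [uw, ha]
  have e11 : ((uw * g : Matrix.SpecialLinearGroup (Fin 2) F) : Matrix (Fin 2) (Fin 2) F) 1 1 = -b := by
    rw [Matrix.SpecialLinearGroup.coe_mul, Matrix.mul_apply, Fin.sum_univ_two]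
    simp [uw, hb]
  unfold slMap
  rw [e00, e01, e10, e11, ← ha, ← hb, ← hc, ← hdd]
  by_cases hc0 : c = 0
  · have ha0 : a ≠ 0 := by
      intro h0
      rw [hc0, h0] at hd
      simp at hd
    rw [if_neg (neg_ne_zero.2 ha0), if_pos hc0, hc0, zero_div, h.X_zero, one_mul, ← mul_assoc, h.nn_one_hh ha0,
      ← h.nn_hh]
    congr 2
    · rw [inv_neg, neg_neg]
    · field_simp
  · by_cases ha0 : a = 0
    · rw [if_pos (by rw [ha0, neg_zero]), if_neg hc0, ha0, zero_div, h.X_zero, one_mul, ← mul_assoc,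
        h.nn_hh (-c⁻¹), ← mul_assoc, h.nn_one_hh (neg_ne_zero.2 (inv_ne_zero hc0)), mul_assoc (SL2Rel.hh X Y _),
        h.nn_one_sq, h.hh_mul (inv_ne_zero (neg_ne_zero.2 (inv_ne_zero hc0))) (by norm_num)]
      congr 2
      · field_simp
      · field_simp
    · rw [if_neg (neg_ne_zero.2 ha0), if_neg hc0]
      have hu : a / c ≠ 0 := div_ne_zero ha0 hc0
      have e1 : SL2Rel.nn X Y 1 * SL2Rel.nn X Y (-c⁻¹) = SL2Rel.hh X Y c := by
        rw [h.nn_hh (-c⁻¹), ← mul_assoc, h.nn_one_hh (neg_ne_zero.2 (inv_ne_zero hc0)), mul_assoc (SL2Rel.hh X Y _),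
          h.nn_one_sq, h.hh_mul (inv_ne_zero (neg_ne_zero.2 (inv_ne_zero hc0))) (by norm_num)]
        congr 1
        field_simp
      have e2 : SL2Rel.nn X Y (a / c)⁻¹ * SL2Rel.hh X Y c = SL2Rel.nn X Y a⁻¹ := by
        rw [h.nn_hh, mul_assoc, h.nn_one_hh hc0, ← mul_assoc, h.hh_mul (inv_ne_zero hu) (inv_ne_zero hc0),
          h.nn_hh a⁻¹]
        congr 2
        field_simp
      calc X (c / -a) * SL2Rel.nn X Y (-(-a)⁻¹) * X (-b / -a)
          = X (-(a / c)⁻¹) * SL2Rel.nn X Y a⁻¹ * (X (c⁻¹ ^ 2 * -(a / c)⁻¹) * X (d / c)) := by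
            have e3 : c / -a = -(a / c)⁻¹ := by field_simp
            have e4 : -(-a)⁻¹ = a⁻¹ := by rw [inv_neg, neg_neg]
            have e5 : -b / -a = c⁻¹ ^ 2 * -(a / c)⁻¹ + d / c := by
              field_simp
              linear_combination -hd
            rw [← h.addX, e3, e4, ← e5]
        _ = X (-(a / c)⁻¹) * (SL2Rel.nn X Y (a / c)⁻¹ * SL2Rel.hh X Y c) * (X (c⁻¹ ^ 2 * -(a / c)⁻¹) * X (d / c)) := by
            rw [e2]
        _ = X (-(a / c)⁻¹) * SL2Rel.nn X Y (a / c)⁻¹ * (SL2Rel.hh X Y c * X (c⁻¹ ^ 2 * -(a / c)⁻¹)) * X (d / c) := by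
            group
        _ = X (-(a / c)⁻¹) * SL2Rel.nn X Y (a / c)⁻¹ * X (-(a / c)⁻¹) * (SL2Rel.nn X Y 1 * SL2Rel.nn X Y (-c⁻¹)) * X (d / c) := by
            rw [← h.X_hh hc0, e1]; group
        _ = (X (-(a / c)⁻¹) * SL2Rel.nn X Y (a / c)⁻¹ * X (-(a / c)⁻¹) * SL2Rel.nn X Y 1) * SL2Rel.nn X Y (-c⁻¹) * X (d / c) := by
            group
        _ = SL2Rel.nn X Y 1 * (X (a / c) * SL2Rel.nn X Y (-c⁻¹) * X (d / c)) := by
            rw [← h.nn_X hu]; group

theorem slMap_one {X Y : F → A} (h : SL2Rel X Y) : slMap X Y 1 = 1 := by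
  unfold slMap
  rw [if_pos (by simp)]
  simp [h.hh_one, h.X_zero]

theorem uy_eq (t : F) : uy t = uw * ux (-t) * uw⁻¹ := by
  rw [eq_mul_inv_iff_mul_eq]
  apply Subtype.ext
  show (uy t).1 * uw.1 = uw.1 * (ux (-t)).1
  simp only [uy, uw, ux]
  rw [Matrix.mul_fin_two, Matrix.mul_fin_two]
  simp

/-- generation of SL2 -/
theorem sl2_gen {K : Subgroup (Matrix.SpecialLinearGroup (Fin 2) F)} (h1 : ∀ t, ux t ∈ K) (h2 : uw ∈ K) : K = ⊤ := by
  have hy : ∀ t, uy t ∈ K := fun t => by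
    rw [uy_eq]; exact mul_mem (mul_mem h2 (h1 _)) (inv_mem h2)
  have key : ∀ g : Matrix.SpecialLinearGroup (Fin 2) F, (g : Matrix (Fin 2) (Fin 2) F) 1 0 ≠ 0 → g ∈ K := by
    intro g hc
    have hd := sl_det g
    have e : g = ux (((g : Matrix (Fin 2) (Fin 2) F) 0 0 - 1) / (g : Matrix (Fin 2) (Fin 2) F) 1 0) *
        uy ((g : Matrix (Fin 2) (Fin 2) F) 1 0) * ux (((g : Matrix (Fin 2) (Fin 2) F) 1 1 - 1) / (g : Matrix (Fin 2) (Fin 2) F) 1 0) := by
      apply Subtype.ext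
      show (g : Matrix (Fin 2) (Fin 2) F) = (ux _).1 * (uy _).1 * (ux _).1
      simp only [uy, ux]
      rw [Matrix.mul_fin_two, Matrix.mul_fin_two]
      nth_rewrite 1 [Matrix.eta_fin_two (g : Matrix (Fin 2) (Fin 2) F)]
      generalize (g : Matrix (Fin 2) (Fin 2) F) 0 0 = a at *
      generalize (g : Matrix (Fin 2) (Fin 2) F) 0 1 = b at *
      generalize (g : Matrix (Fin 2) (Fin 2) F) 1 0 = c at *
      generalize (g : Matrix (Fin 2) (Fin 2) F) 1 1 = d at *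
      ext i j
      fin_cases i <;> fin_cases j
      · simp only [Fin.zero_eta, Fin.mk_one, Matrix.of_apply, Matrix.cons_val', Matrix.cons_val_zero, Matrix.cons_val_one, Matrix.cons_val_fin_one]
        field_simp
        ring
      · simp only [Fin.zero_eta, Fin.mk_one, Matrix.of_apply, Matrix.cons_val', Matrix.cons_val_zero, Matrix.cons_val_one, Matrix.cons_val_fin_one]
        field_simp
        linear_combination -hd
      · simp only [Fin.zero_eta, Fin.mk_one, Matrix.of_apply, Matrix.cons_val', Matrix.cons_val_zero, Matrix.cons_val_one, Matrix.cons_val_fin_one]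
        field_simp
        ring
      · simp only [Fin.zero_eta, Fin.mk_one, Matrix.of_apply, Matrix.cons_val', Matrix.cons_val_zero, Matrix.cons_val_one, Matrix.cons_val_fin_one]
        field_simp
        ring
    rw [e]
    exact mul_mem (mul_mem (h1 _) (hy _)) (h1 _)
  rw [eq_top_iff]
  rintro g -
  by_cases hc : (g : Matrix (Fin 2) (Fin 2) F) 1 0 = 0
  · have hd := sl_det g
    have h3 : uw * g ∈ K := by
      apply key
      rw [Matrix.SpecialLinearGroup.coe_mul, Matrix.mul_apply, Fin.sum_univ_two]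
      simp only [uw]
      intro h0
      rw [hc, mul_zero, sub_zero] at hd
      simp at h0
      rw [h0, zero_mul] at hd
      exact zero_ne_one hd
    have := mul_mem (inv_mem h2) h3
    rwa [inv_mul_cancel_left] at this
  · exact key g hc

/-- the homomorphism -/
theorem exists_sl2_hom {X Y : F → A} (h : SL2Rel X Y) :
    ∃ φ : Matrix.SpecialLinearGroup (Fin 2) F →* A, (∀ t, φ (ux t) = X t) ∧ (∀ t, φ (uy t) = Y t) := by
  have hX : ∀ t, slMap X Y (ux t) = X t := fun t => by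
    have := slMap_ux h t 1
    rwa [mul_one, slMap_one h, mul_one] at this
  have hW : slMap X Y uw = SL2Rel.nn X Y 1 := by
    have := slMap_uw h 1
    rwa [mul_one, slMap_one h, mul_one] at this
  let K : Subgroup (Matrix.SpecialLinearGroup (Fin 2) F) :=
    { carrier := {s | ∀ g, slMap X Y (s * g) = slMap X Y s * slMap X Y g}
      mul_mem' := by
        intro a b ha hb g
        rw [mul_assoc, ha, hb, ha, mul_assoc]
      one_mem' := by
        intro g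
        rw [one_mul, slMap_one h, one_mul]
      inv_mem' := by
        intro a ha g
        have h1 := ha (a⁻¹ * g)
        rw [mul_inv_cancel_left] at h1
        have h2 := ha a⁻¹
        rw [mul_inv_cancel, slMap_one h] at h2
        have h3 : slMap X Y a⁻¹ = (slMap X Y a)⁻¹ := (inv_eq_of_mul_eq_one_right h2.symm).symm
        rw [h3, h1]; group }
  have hK : K = ⊤ := by
    apply sl2_gen
    · intro t g
      rw [slMap_ux h, hX]
    · intro g
      rw [slMap_uw h, hW]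
  let φ : Matrix.SpecialLinearGroup (Fin 2) F →* A :=
    { toFun := slMap X Y
      map_one' := slMap_one h
      map_mul' := fun a b => by
        have : a ∈ K := by rw [hK]; trivial
        exact this b }
  refine ⟨φ, hX, fun t => ?_⟩
  rw [uy_eq, map_mul, map_mul, map_inv]
  show slMap X Y uw * slMap X Y (ux (-t)) * (slMap X Y uw)⁻¹ = Y t
  rw [hW, hX, h.conjX one_ne_zero]
  congr 1
  norm_num

end

end Cfsg.Agent.H22
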