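import Mathlib

set_option autoImplicit false
set_option linter.all false

/-!
# Semidirect products `A ⋊ S` of an abelian group by a group, element orders, prime graphs (seat helper22)
-/

namespace Cfsg.Agent.H22

/-- the semidirect product of the additive group `A` by `S`, with `S` acting through `ρ` -/
@[ext] structure SD {S A : Type*} [Group S] [AddCommGroup A] (ρ : S →* AddMonoid.End A) where
  a : A
  s : S

namespace SD

variable {S A : Type*} [Group S] [AddCommGroup A] (ρ : S →* AddMonoid.End A)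

theorem rho_one (a : A) : ρ 1 a = a := by rw [map_one]; rfl
theorem rho_mul (s t : S) (a : A) : ρ (s * t) a = ρ s (ρ t a) := by rw [map_mul]; rfl
theorem rho_inv_rho (s : S) (a : A) : ρ s⁻¹ (ρ s a) = a := by
  rw [← rho_mul, inv_mul_cancel, rho_one]
theorem rho_rho_inv (s : S) (a : A) : ρ s (ρ s⁻¹ a) = a := by
  rw [← rho_mul, mul_inv_cancel, rho_one]

noncomputable instance instGroupSD : Group (SD ρ) where
  mul x y := ⟨x.a + ρ x.s y.a, x.s * y.s⟩
  one := ⟨0, 1⟩
  inv x := ⟨- ρ x.s⁻¹ x.a, x.s⁻¹⟩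
  mul_assoc x y z := by
    ext
    · show x.a + ρ x.s y.a + ρ (x.s * y.s) z.a = x.a + ρ x.s (y.a + ρ y.s z.a)
      rw [rho_mul, map_add, add_assoc]
    · exact mul_assoc _ _ _
  one_mul x := by
    ext
    · show 0 + ρ 1 x.a = x.a
      rw [rho_one, zero_add]
    · exact one_mul _
  mul_one x := by
    ext
    · show x.a + ρ x.s 0 = x.a
      rw [map_zero, add_zero]
    · exact mul_one _
  inv_mul_cancel x := by
    ext
    · show - ρ x.s⁻¹ x.a + ρ x.s⁻¹ x.a = 0
      exact neg_add_cancel _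
    · exact inv_mul_cancel _

@[simp] theorem mul_a (x y : SD ρ) : (x * y).a = x.a + ρ x.s y.a := rfl
@[simp] theorem mul_s (x y : SD ρ) : (x * y).s = x.s * y.s := rfl
@[simp] theorem one_a : (1 : SD ρ).a = 0 := rfl
@[simp] theorem one_s : (1 : SD ρ).s = 1 := rfl
@[simp] theorem inv_s (x : SD ρ) : (x⁻¹).s = x.s⁻¹ := rfl

/-- the equivalence with the product -/
def equivProd : SD ρ ≃ A × S where
  toFun x := (x.a, x.s)
  invFun x := ⟨x.1, x.2⟩
  left_inv _ := rfl
  right_inv _ := rfl

instance instFiniteSD [Finite A] [Finite S] : Finite (SD ρ) := Finite.of_equiv _ (equivProd ρ).symm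

theorem card_eq [Finite A] [Finite S] : Nat.card (SD ρ) = Nat.card A * Nat.card S := by
  rw [Nat.card_congr (equivProd ρ), Nat.card_prod]

/-- projection on the complement -/
def toS : SD ρ →* S where
  toFun x := x.s
  map_one' := rfl
  map_mul' _ _ := rfl

/-- inclusion of the complement -/
def ofS : S →* SD ρ where
  toFun s := ⟨0, s⟩
  map_one' := rfl
  map_mul' s t := by ext <;> simp

theorem ofS_injective : Function.Injective (ofS ρ) := fun s t h => congrArg SD.s h

theorem orderOf_ofS (s : S) : orderOf (ofS ρ s) = orderOf s :=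
  orderOf_injective (ofS ρ) (ofS_injective ρ) s

theorem pow_s (x : SD ρ) (n : ℕ) : (x ^ n).s = x.s ^ n := map_pow (toS ρ) x n

theorem pow_mk_one (u : A) (n : ℕ) : (⟨u, 1⟩ : SD ρ) ^ n = ⟨n • u, 1⟩ := by
  induction n with
  | zero => rw [pow_zero, zero_smul]; rfl
  | succ n ih =>
    rw [pow_succ, ih]
    ext
    · show n • u + ρ 1 u = (n + 1) • u
      rw [rho_one, succ_nsmul]
    · exact mul_one _

/-- the `A`-part of `x ^ orderOf x.s` is a fixed vector -/
theorem exists_fixed (x : SD ρ) : ∃ u : A, x ^ orderOf x.s = ⟨u, 1⟩ ∧ ρ x.s u = u := by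
  refine ⟨(x ^ orderOf x.s).a, ?_, ?_⟩
  · ext
    · rfl
    · rw [pow_s, pow_orderOf_eq_one]
  · have h : x * x ^ orderOf x.s = x ^ orderOf x.s * x := (pow_succ' x _).symm.trans (pow_succ x _)
    have h1 := congrArg SD.a h
    rw [mul_a, mul_a, pow_s, pow_orderOf_eq_one, rho_one, add_comm] at h1
    exact add_right_cancel h1

/-- orders of elements of `A ⋊ S` when `p` kills `A` -/
theorem orderOf_cases {p : ℕ} (hp : p.Prime) (hA : ∀ a : A, p • a = 0) (x : SD ρ) :
    orderOf x = orderOf x.s ∨ (orderOf x = orderOf x.s * p ∧ ∃ u : A, u ≠ 0 ∧ ρ x.s u = u) := by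
  obtain ⟨u, hu, hf⟩ := exists_fixed ρ x
  have hdvd : orderOf x.s ∣ orderOf x := orderOf_map_dvd (toS ρ) x
  by_cases hu0 : u = 0
  · left
    apply Nat.dvd_antisymm _ hdvd
    apply orderOf_dvd_of_pow_eq_one
    rw [hu, hu0]; rfl
  · right
    refine ⟨?_, u, hu0, hf⟩
    have h1 : orderOf x ∣ orderOf x.s * p := by
      apply orderOf_dvd_of_pow_eq_one
      rw [pow_mul, hu, pow_mk_one, hA]; rfl
    obtain ⟨k, hk⟩ := hdvd
    by_cases hs : orderOf x.s = 0
    · rw [hk, hs, zero_mul, zero_mul]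
    rw [hk] at h1
    have h2 : k ∣ p := Nat.dvd_of_mul_dvd_mul_left (Nat.pos_of_ne_zero hs) h1
    rcases (Nat.dvd_prime hp).1 h2 with h3 | h3
    · exfalso
      apply hu0
      have h4 : x ^ orderOf x.s = 1 := by
        rw [h3, mul_one] at hk
        rw [← hk]; exact pow_orderOf_eq_one x
      rw [hu] at h4
      exact congrArg SD.a h4
    · rw [hk, h3]

/-- elements `(u, g)` with `g u = u` -/
theorem pow_of_fixed (u : A) (g : S) (h : ρ g u = u) (n : ℕ) : (⟨u, g⟩ : SD ρ) ^ n = ⟨n • u, g ^ n⟩ := by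
  induction n with
  | zero => rw [pow_zero, zero_smul, pow_zero]; rfl
  | succ n ih =>
    have hn : ρ (g ^ n) u = u := by
      clear ih
      induction n with
      | zero => rw [pow_zero, rho_one]
      | succ n ih => rw [pow_succ, rho_mul, h, ih]
    rw [pow_succ, ih]
    ext
    · show n • u + ρ (g ^ n) u = (n + 1) • u
      rw [hn, succ_nsmul]
    · exact (pow_succ g n).symm

end SD

/-- the diagonal action on `k` copies of a module -/
def diagHom {S V : Type*} [Group S] [AddCommGroup V] (ρ : S →* AddMonoid.End V) (k : ℕ) :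
    S →* AddMonoid.End (Fin k → V) where
  toFun s :=
    { toFun := fun v i => ρ s (v i)
      map_zero' := by funext i; exact map_zero _
      map_add' := fun v w => by funext i; exact map_add _ _ _ }
  map_one' := by
    ext v i
    show ρ 1 (v i) = v i
    rw [map_one]; rfl
  map_mul' s t := by
    ext v i
    show ρ (s * t) (v i) = ρ s (ρ t (v i))
    rw [map_mul]; rfl

theorem diagHom_apply {S V : Type*} [Group S] [AddCommGroup V] (ρ : S →* AddMonoid.End V) (k : ℕ)
    (s : S) (v : Fin k → V) (i : Fin k) : diagHom ρ k s v i = ρ s (v i) := rfl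

theorem exists_fixed_of_diag {S V : Type*} [Group S] [AddCommGroup V] (ρ : S →* AddMonoid.End V) (k : ℕ)
    (s : S) (v : Fin k → V) (hv : v ≠ 0) (h : diagHom ρ k s v = v) : ∃ w : V, w ≠ 0 ∧ ρ s w = w := by
  obtain ⟨i, hi⟩ := Function.ne_iff.1 hv
  exact ⟨v i, hi, congrFun h i⟩

/-- every finite group has a copy in `Type` -/
theorem exists_type_zero (H : Type*) [Group H] [Finite H] :
    ∃ (H' : Type) (_ : Group H') (_ : Fintype H'), Nonempty (H ≃* H') := by
  haveI : Small.{0} H := inferInstance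
  haveI : Finite (Shrink.{0} H) := Finite.of_equiv H (equivShrink H)
  exact ⟨Shrink.{0} H, inferInstance, Fintype.ofFinite _, ⟨(Shrink.mulEquiv (α := H)).symm⟩⟩

/-- a finite group in any universe can be replaced by one in `Type` with the same card and element orders -/
theorem exists_type_zero' (H : Type*) [Group H] [Finite H] :
    ∃ (H' : Type) (_ : Group H') (_ : Fintype H'), Nonempty (H ≃* H') ∧ Fintype.card H' = Nat.card H ∧
      Set.range (orderOf : H' → ℕ) = Set.range (orderOf : H → ℕ) := by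
  obtain ⟨H', i1, i2, ⟨e⟩⟩ := exists_type_zero H
  refine ⟨H', i1, i2, ⟨e⟩, ?_, ?_⟩
  · rw [← Nat.card_eq_fintype_card]; exact (Nat.card_congr e.toEquiv).symm
  · ext m
    constructor
    · rintro ⟨x, rfl⟩
      exact ⟨e.symm x, MulEquiv.orderOf_eq e.symm x⟩
    · rintro ⟨x, rfl⟩
      exact ⟨e x, MulEquiv.orderOf_eq e x⟩

/-- Unboundedly many groups with the same prime graph: `V^k ⋊ S`, when each element of `S` with a nonzero
fixed vector in `V` has `p`-power order. -/
theorem exists_same_prime_graph {S V : Type*} [Group S] [Finite S] [AddCommGroup V] [Finite V] [Nontrivial V]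
    (ρ : S →* AddMonoid.End V) {p : ℕ} (hp : p.Prime) (hV : ∀ v : V, p • v = 0)
    (hpS : p ∣ Nat.card S) (hfix : ∀ s : S, ∀ v : V, v ≠ 0 → ρ s v = v → ∃ j : ℕ, orderOf s = p ^ j) (N : ℕ) :
    ∃ (H : Type) (_ : Group H) (_ : Fintype H), N < Nat.card H ∧
      (∀ r : ℕ, r.Prime → (r ∣ Nat.card S ↔ r ∣ Nat.card H)) ∧
      (∀ r s : ℕ, r.Prime → s.Prime → r ≠ s →
        ((∃ x : S, orderOf x = r * s) ↔ (∃ y : H, orderOf y = r * s))) := by
  have hA : ∀ v : (Fin N → V), p • v = 0 := fun v => by funext i; exact hV (v i)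
  obtain ⟨H, i1, i2, ⟨e⟩, hc, hr⟩ := exists_type_zero' (SD (diagHom ρ N))
  have hcard : Nat.card H = Nat.card V ^ N * Nat.card S := by
    rw [Nat.card_eq_fintype_card, hc, SD.card_eq, Nat.card_fun, Nat.card_eq_fintype_card (α := Fin N),
      Fintype.card_fin]
  have hV2 : 2 ≤ Nat.card V := Finite.one_lt_card
  have hSpos : 0 < Nat.card S := Nat.card_pos
  refine ⟨H, i1, i2, ?_, ?_, ?_⟩
  · rw [hcard]
    calc N < 2 ^ N := Nat.lt_two_pow_self
      _ ≤ Nat.card V ^ N := Nat.pow_le_pow_left hV2 N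
      _ ≤ Nat.card V ^ N * Nat.card S := Nat.le_mul_of_pos_right _ hSpos
  · intro r hr
    rw [hcard]
    constructor
    · intro h; exact dvd_mul_of_dvd_right h _
    · intro h
      rcases (Nat.Prime.dvd_mul hr).1 h with h | h
      · -- r divides |V|, so r = p
        have h1 : r ∣ Nat.card V := hr.dvd_of_dvd_pow h
        haveI := Fact.mk hr
        obtain ⟨v, hv⟩ := exists_prime_addOrderOf_dvd_card' r h1
        have h2 : addOrderOf v ∣ p := addOrderOf_dvd_of_nsmul_eq_zero (hV v)
        rw [hv] at h2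
        rw [(Nat.prime_dvd_prime_iff_eq hr hp).1 h2]
        exact hpS
      · exact h
  · intro r s hr' hs' hrs
    have hmem : (∃ y : H, orderOf y = r * s) ↔ ∃ y : SD (diagHom ρ N), orderOf y = r * s := by
      constructor
      · rintro ⟨y, hy⟩; exact ⟨e.symm y, by rw [MulEquiv.orderOf_eq, hy]⟩
      · rintro ⟨y, hy⟩; exact ⟨e y, by rw [MulEquiv.orderOf_eq, hy]⟩
    rw [hmem]
    constructor
    · rintro ⟨x, hx⟩
      exact ⟨SD.ofS _ x, by rw [SD.orderOf_ofS, hx]⟩
    · rintro ⟨y, hy⟩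
      rcases SD.orderOf_cases (diagHom ρ N) hp hA y with h | ⟨h, u, hu, hfu⟩
      · exact ⟨y.s, by rw [← h, hy]⟩
      · exfalso
        obtain ⟨w, hw, hwf⟩ := exists_fixed_of_diag ρ N y.s u hu hfu
        obtain ⟨j, hj⟩ := hfix y.s w hw hwf
        rw [hy, hj, ← pow_succ] at h
        have h1 : r ∣ p ^ (j + 1) := ⟨s, h.symm⟩
        have h2 : s ∣ p ^ (j + 1) := ⟨r, by rw [mul_comm]; exact h.symm⟩
        have h3 := (Nat.prime_dvd_prime_iff_eq hr' hp).1 (hr'.dvd_of_dvd_pow h1)
        have h4 := (Nat.prime_dvd_prime_iff_eq hs' hp).1 (hs'.dvd_of_dvd_pow h2)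
        exact hrs (h3.trans h4.symm)

end Cfsg.Agent.H22
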