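import Cfsg.Agent.H22.MinNormal
import Cfsg.Agent.H22.SemiDir
import Cfsg.Agent.H21.Socle

set_option autoImplicit false
set_option linter.all false

/-!
# Internal direct products of commuting centreless subgroups; nonabelian minimal normal subgroups
are powers of a simple group (seat helper22)
-/

namespace Cfsg.Agent.H22

open MulAction Cfsg.Agent.H21

/-- pairwise commuting subgroups with trivial centres generate their direct product -/
theorem nonempty_iSup_mulEquiv_pi {G : Type*} [Group G] {ι : Type*} [Finite ι] (H : ι → Subgroup G)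
    (hcomm : Pairwise fun i j => ∀ x y : G, x ∈ H i → y ∈ H j → Commute x y)
    (hz : ∀ i, ∀ x ∈ H i, (∀ y ∈ H i, Commute x y) → x = 1) :
    Nonempty (↥(⨆ i, H i) ≃* (∀ i, H i)) := by
  classical
  haveI : Fintype ι := Fintype.ofFinite ι
  have hind : iSupIndep H := by
    intro i
    rw [Subgroup.disjoint_def]
    intro x hx hx'
    apply hz i x hx
    intro y hy
    have h1 : (⨆ j, ⨆ (_ : j ≠ i), H j) ≤ Subgroup.centralizer (H i : Set G) := by
      apply iSup_le
      intro j
      apply iSup_le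
      intro hj z hz
      rw [Subgroup.mem_centralizer_iff]
      intro w hw
      exact (hcomm hj z w hz hw).eq.symm
    have h2 := Subgroup.mem_centralizer_iff.1 (h1 hx') y hy
    exact h2.symm
  have hinj := Subgroup.injective_noncommPiCoprod_of_iSupIndep hind (hcomm := hcomm)
  have hr := Subgroup.noncommPiCoprod_range (H := H) (hcomm := hcomm)
  exact ⟨((MonoidHom.ofInjective hinj).trans (MulEquiv.subgroupCongr hr)).symm⟩

/-- pairwise commuting copies of a centreless group -/
theorem nonempty_iSup_mulEquiv_pow {G T : Type*} [Group G] [Group T] {ι : Type*} [Finite ι] (H : ι → Subgroup G)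
    (hcomm : Pairwise fun i j => ∀ x y : G, x ∈ H i → y ∈ H j → Commute x y)
    (hz : ∀ i, ∀ x ∈ H i, (∀ y ∈ H i, Commute x y) → x = 1)
    (hT : ∀ i, Nonempty (H i ≃* T)) :
    Nonempty (↥(⨆ i, H i) ≃* (Fin (Nat.card ι) → T)) := by
  obtain ⟨e⟩ := nonempty_iSup_mulEquiv_pi H hcomm hz
  let f := fun i => (hT i).some
  exact ⟨(e.trans (MulEquiv.piCongrRight f)).trans (MulEquiv.arrowCongr (Finite.equivFin ι) (MulEquiv.refl T))⟩

/-- the conjugates of `T` generate `N` when `T ≤ N` and `N` is minimal normal -/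
theorem iSup_conj_eq {G : Type*} [Group G] {N T : Subgroup G} (hN : IsMinNormalIn ⊤ N) (hTN : T ≤ N) (hT : T ≠ ⊥) :
    (⨆ g : G, T.map (MulAut.conj g).toMonoidHom) = N := by
  have hNn : N.Normal := normal_of_conj_top hN.conj
  set K := ⨆ g : G, T.map (MulAut.conj g).toMonoidHom with hK
  have hKN : K ≤ N := by
    apply iSup_le
    intro g x hx
    obtain ⟨t, ht, rfl⟩ := hx
    exact hNn.conj_mem t (hTN ht) g
  have hTK : T ≤ K := by
    intro t ht
    apply (le_iSup (fun g : G => T.map (MulAut.conj g).toMonoidHom) 1)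
    exact ⟨t, ht, by simp⟩
  have hKn : ∀ n ∈ (⊤ : Subgroup G), ∀ t ∈ K, n * t * n⁻¹ ∈ K := by
    intro n _ t ht
    have h1 : K.map (MulAut.conj n).toMonoidHom ≤ K := by
      rw [hK, Subgroup.map_iSup]
      apply iSup_le
      intro g
      rw [Subgroup.map_map]
      refine le_trans (le_of_eq ?_) (le_iSup (fun g : G => T.map (MulAut.conj g).toMonoidHom) (n * g))
      congr 1
      ext x
      simp [mul_assoc]
    exact h1 ⟨t, ht, rfl⟩
  rcases hN.min K hKn hKN with h | h
  · exfalso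
    apply hT
    rw [eq_bot_iff, ← h]; exact hTK
  · exact h

/-- a finite set of pairwise commuting nonabelian simple subgroups isomorphic to `T` -/
theorem nonempty_sSup_mulEquiv_pow {G T : Type*} [Group G] [Finite G] [Group T] (S : Set (Subgroup G))
    (hcomm : ∀ A ∈ S, ∀ B ∈ S, A ≠ B → ∀ x ∈ A, ∀ y ∈ B, Commute x y)
    (hz : ∀ A ∈ S, ∀ x ∈ A, (∀ y ∈ A, Commute x y) → x = 1)
    (hT : ∀ A ∈ S, Nonempty (A ≃* T)) :
    Nonempty (↥(sSup S) ≃* (Fin (Nat.card S) → T)) := by
  rw [sSup_eq_iSup']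
  exact nonempty_iSup_mulEquiv_pow (fun A : S => (A : Subgroup G))
    (fun A B hAB x y hx hy => hcomm A A.2 B B.2 (fun h => hAB (Subtype.ext h)) x hx y hy)
    (fun A => hz A A.2) (fun A => hT A A.2)

/-- distinct conjugates of `T` commute -/
theorem conj_commute {G : Type*} [Group G] {N T : Subgroup G} (h : IsTSoc N T) (g g' : G)
    (hne : T.map (MulAut.conj g).toMonoidHom ≠ T.map (MulAut.conj g').toMonoidHom) :
    ∀ x ∈ T.map (MulAut.conj g).toMonoidHom, ∀ y ∈ T.map (MulAut.conj g').toMonoidHom, Commute x y := by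
  rcases h.conj_dich (g⁻¹ * g') with h1 | h1
  · exfalso
    apply hne
    ext x
    rw [mem_cj, mem_cj, h1 (g'⁻¹ * x * g')]
    have e : g⁻¹ * g' * (g'⁻¹ * x * g') * (g⁻¹ * g')⁻¹ = g⁻¹ * x * g := by group
    rw [e]
  · intro x hx y hy
    rw [mem_cj] at hx hy
    have h2 := h1 _ hy _ hx
    have e : g⁻¹ * g' * (g'⁻¹ * y * g') * (g⁻¹ * g')⁻¹ = g⁻¹ * y * g := by group
    rw [e] at h2
    show x * y = y * x
    have h3 := congrArg (fun z => g * z * g⁻¹) h2
    have e1 : g * (g⁻¹ * x * g * (g⁻¹ * y * g)) * g⁻¹ = x * y := by group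
    have e2 : g * (g⁻¹ * y * g * (g⁻¹ * x * g)) * g⁻¹ = y * x := by group
    simp only [e1, e2] at h3
    exact h3

theorem conj_equiv {G : Type*} [Group G] (T : Subgroup G) (g : G) :
    Nonempty (T.map (MulAut.conj g).toMonoidHom ≃* T) :=
  ⟨(T.equivMapOfInjective _ (MulAut.conj g).injective).symm⟩

theorem conj_center {G : Type*} [Group G] {N T : Subgroup G} (h : IsTSoc N T) (g : G) :
    ∀ x ∈ T.map (MulAut.conj g).toMonoidHom, (∀ y ∈ T.map (MulAut.conj g).toMonoidHom, Commute x y) → x = 1 := by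
  intro x hx hc
  exact (h.conj g).eq_one hx (fun t ht => (hc t ht).eq.symm)

/-- a nonabelian minimal normal subgroup of a finite group is a power of a nonabelian simple group -/
theorem exists_pow_of_nonabelian {G : Type*} [Group G] [Finite G] {N : Subgroup G} (hN : IsMinNormalIn ⊤ N)
    (hna : ¬ ∀ a ∈ N, ∀ b ∈ N, a * b = b * a) :
    ∃ (T : Type) (_ : Group T) (m : ℕ), 1 ≤ m ∧ IsSimpleGroup T ∧ ¬ IsMulCommutative T ∧ Nonempty (N ≃* (Fin m → T)) := by
  obtain ⟨T, hTN, hT⟩ := exists_isMinNormalIn N N le_rfl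
    (fun n hn t ht => N.mul_mem (N.mul_mem hn ht) (N.inv_mem hn)) hN.ne_bot
  have h : IsTSoc N T := ⟨hN, hT, hna⟩
  obtain ⟨T', i1, i2, ⟨e⟩⟩ := exists_type_zero T
  let S : Set (Subgroup G) := Set.range (fun g : G => T.map (MulAut.conj g).toMonoidHom)
  have h1 : Nonempty (↥(sSup S) ≃* (Fin (Nat.card S) → T')) := by
    apply nonempty_sSup_mulEquiv_pow
    · rintro _ ⟨g, rfl⟩ _ ⟨g', rfl⟩ hne
      exact conj_commute h g g' hne
    · rintro _ ⟨g, rfl⟩
      exact conj_center h g
    · rintro _ ⟨g, rfl⟩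
      obtain ⟨f⟩ := conj_equiv T g
      exact ⟨f.trans e⟩
  have h2 : sSup S = N := by
    rw [sSup_range]; exact iSup_conj_eq hN hTN hT.ne_bot
  rw [h2] at h1
  haveI := h.isSimpleGroup
  refine ⟨T', i1, Nat.card S, ?_, ?_, ?_, h1⟩
  · haveI : Nonempty S := ⟨⟨_, 1, rfl⟩⟩
    exact Nat.card_pos
  · exact e.isSimpleGroup_congr.1 inferInstance
  · intro hc
    apply h.not_comm
    constructor
    constructor
    intro a b
    apply e.injective
    rw [map_mul, map_mul, hc.is_comm.comm]

end Cfsg.Agent.H22
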