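import Mathlib

set_option autoImplicit false
set_option linter.all false

/-!
# Commutators of permutations with supports meeting in one point, seat helper22
-/

namespace Cfsg.Agent.H22

open Equiv Equiv.Perm

/-- The commutator of two permutations whose supports meet in exactly one point is a 3-cycle. -/
theorem isThreeCycle_commutator {α : Type*} [Fintype α] [DecidableEq α] (g h : Perm α) (d : α)
    (hgd : g d ≠ d) (hhd : h d ≠ d) (hsupp : ∀ x, g x ≠ x → h x ≠ x → x = d) :
    IsThreeCycle (g * h * g⁻¹ * h⁻¹) := by
  have hinv : ∀ (f : Perm α) (x : α), f⁻¹ (f x) = x := fun f x => by simp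
  have hinv' : ∀ (f : Perm α) (x : α), f (f⁻¹ x) = x := fun f x => by simp
  -- fixed points
  have hg0 : ∀ x, x ≠ d → h x ≠ x → g x = x := fun x hx hh => by
    by_contra hg; exact hx (hsupp x hg hh)
  have hh0 : ∀ x, x ≠ d → g x ≠ x → h x = x := fun x hx hg => by
    by_contra hh; exact hx (hsupp x hg hh)
  have hgg : g (g d) ≠ g d := fun h' => hgd (g.injective h')
  have hhh : h (h d) ≠ h d := fun h' => hhd (h.injective h')
  have h1 : h (g d) = g d := hh0 _ hgd hgg
  have h2 : g (h d) = h d := hg0 _ hhd hhh
  have hne : g d ≠ h d := by
    intro h'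
    apply hgg
    rw [h', h2]
  have key : g * h * g⁻¹ * h⁻¹ = swap d (h d) * swap d (g d) := by
    have haux : g * h = (swap d (h d) * swap d (g d)) * (h * g) := by
      ext x
      simp only [Perm.mul_apply]
      by_cases hxd : x = d
      · subst hxd
        rw [h1, h2]
        rw [swap_apply_right, swap_apply_left]
      by_cases hgx : g x = x
      · by_cases hhx : h x = x
        · rw [hhx, hgx, hhx]
          by_cases hx2 : x = g d
          · exfalso; rw [hx2] at hgx; exact hgg hgx
          · rw [swap_apply_of_ne_of_ne hxd hx2]
            by_cases hx3 : x = h d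
            · exfalso; rw [hx3] at hhx; exact hhh hhx
            · rw [swap_apply_of_ne_of_ne hxd hx3]
        · rw [hgx]
          -- h x ≠ x; either h x = d or not
          by_cases hhd' : h x = d
          · rw [hhd', swap_apply_left, swap_apply_of_ne_of_ne hgd hne]
          · have : h (h x) ≠ h x := fun h' => hhx (h.injective h')
            rw [hg0 _ hhd' this]
            have h3 : h x ≠ g d := by
              intro h'; rw [h'] at this; exact this h1
            have h4 : h x ≠ h d := fun h' => hxd (h.injective h')
            rw [swap_apply_of_ne_of_ne hhd' h3, swap_apply_of_ne_of_ne hhd' h4]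
      · have hhx := hh0 x hxd hgx
        rw [hhx]
        by_cases hgd' : g x = d
        · rw [hgd']
          have h5 : h d ≠ g d := hne.symm
          rw [swap_apply_of_ne_of_ne hhd h5, swap_apply_right]
        · have : g (g x) ≠ g x := fun h' => hgx (g.injective h')
          rw [hh0 _ hgd' this]
          have h3 : g x ≠ g d := fun h' => hxd (g.injective h')
          have h4 : g x ≠ h d := by
            intro h'; rw [h'] at this; exact this h2
          rw [swap_apply_of_ne_of_ne hgd' h3, swap_apply_of_ne_of_ne hgd' h4]
    calc g * h * g⁻¹ * h⁻¹ = (g * h) * (h * g)⁻¹ := by group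
      _ = _ := by rw [haux]; group
  rw [key]
  exact isThreeCycle_swap_mul_swap_same hhd.symm hgd.symm hne.symm

/-- Jordan's theorem on 3-cycles in the form: a primitive group containing two elements whose
supports meet in exactly one point contains the alternating group. -/
theorem alternatingGroup_le_of_supports {α : Type*} [Fintype α] [DecidableEq α]
    (P : Subgroup (Perm α)) (hP : MulAction.IsPreprimitive P α) {g h : Perm α} (hg : g ∈ P) (hh : h ∈ P)
    (d : α) (hgd : g d ≠ d) (hhd : h d ≠ d) (hsupp : ∀ x, g x ≠ x → h x ≠ x → x = d) :
    alternatingGroup α ≤ P :=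
  alternatingGroup_le_of_isPreprimitive_of_isThreeCycle_mem hP
    (isThreeCycle_commutator g h d hgd hhd hsupp)
    (P.mul_mem (P.mul_mem (P.mul_mem hg hh) (P.inv_mem hg)) (P.inv_mem hh))

/-- primitivity of the image in the symmetric group -/
theorem isPreprimitive_range {G Ω : Type*} [Group G] [MulAction G Ω] (h : MulAction.IsPreprimitive G Ω) :
    MulAction.IsPreprimitive (MulAction.toPermHom G Ω).range Ω := by
  haveI := h
  let f : Ω →ₑ[(MulAction.toPermHom G Ω).rangeRestrict] Ω :=
    { toFun := id
      map_smul' := fun g x => rfl }
  exact MulAction.IsPreprimitive.of_surjective (f := f) Function.surjective_id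

theorem card_range_toPermHom {G Ω : Type*} [Group G] [MulAction G Ω] [FaithfulSMul G Ω] :
    Nat.card (MulAction.toPermHom G Ω).range = Nat.card G := by
  apply Nat.card_congr
  exact (MonoidHom.ofInjective MulAction.toPerm_injective).toEquiv.symm

end Cfsg.Agent.H22
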