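import Cfsg.Agent.H22.WeylOrd
import Cfsg.Agent.H22.PoincG2
import Cfsg.Agent.H22.PoincB2
import Cfsg.Agent.H22.PoincD4
import Cfsg.Agent.H22.PoincF4
import Cfsg.Agent.H22.PoincE8
import Cfsg.Agent.H22.PoincE7
import Cfsg.Agent.H22.PoincE6

set_option autoImplicit false
set_option maxRecDepth 100000

/-! # The Weyl groups of the verified data are the Coxeter groups; orders (seat helper22, generated) -/

namespace Cfsg.Agent.H22
open Cfsg.Agent.H6 Cfsg.Lie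

theorem card_of_sum {D : ChevalleyDatum} {N : ℕ} {η : ℕ → ℕ → ℤ} {rc : ℕ → ℕ → ℤ} (hG : Good D N η rc) {n : ℕ}
    (h : (∑ᶠ w : hG.W, (1 : ℤ) ^ len hG.s w) = n) : Nat.card hG.W = n := by
  classical
  have : Fintype hG.W := Fintype.ofFinite _
  rw [finsum_eq_sum_of_fintype] at h
  simp only [one_pow, Finset.sum_const, Finset.card_univ, nsmul_eq_mul, mul_one] at h
  rw [Nat.card_eq_fintype_card]
  exact_mod_cast h

theorem orderOf_cox {D : ChevalleyDatum} {N : ℕ} {η : ℕ → ℕ → ℤ} {rc : ℕ → ℕ → ℤ} (hG : Good D N η rc)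
    {M : CoxeterMatrix (Fin D.rank)} (φ : M.Group ≃* hG.W) (hφ : ∀ i, φ (M.simple i) = hG.s i) (L : List (Fin D.rank)) :
    orderOf (L.map M.simple).prod = orderOf (wp hG.s L) := by
  rw [← φ.orderOf_eq, map_list_prod, List.map_map]
  unfold wp
  congr 2
  apply List.map_congr_left
  intro i _
  exact hφ i

/-- the Coxeter matrix of type G2 -/
def mmG2 (i j : ℕ) : ℕ := (([[nat_lit 1, nat_lit 6], [nat_lit 6, nat_lit 1]] : List (List ℕ)).getD i []).getD j 0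

theorem mmeqG2 : ∀ i j : Fin 2, CoxeterMatrix.G₂ i j = mmG2 i j := by
  intro i j; fin_cases i <;> fin_cases j <;> rfl

theorem equivG2 : ∃ φ : CoxeterMatrix.G₂.Group ≃* TG2.good.W, ∀ i, φ (CoxeterMatrix.G₂.simple i) = TG2.good.s i :=
  exists_equiv TG2.good PG2.hA CoxeterMatrix.G₂ mmG2 mmeqG2 (by decide +kernel)

theorem cardG2 : Nat.card TG2.good.W = 12 := by
  apply card_of_sum
  rw [← poinc_top TG2.good (I := [0, 1]) (by decide) (1 : ℤ)]
  rw [PG2.f0, PG2.f1, poinc_nil]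
  norm_num [hor]

theorem coxordG2 : orderOf (wp TG2.good.s (List.finRange 2)) = 6 :=
  orderOf_wp TG2.good PG2.hA (List.finRange 2) 5 (by decide +kernel)

/-- the Coxeter matrix of type B2 -/
def mmB2 (i j : ℕ) : ℕ := (([[nat_lit 1, nat_lit 4], [nat_lit 4, nat_lit 1]] : List (List ℕ)).getD i []).getD j 0

theorem mmeqB2 : ∀ i j : Fin 2, (CoxeterMatrix.B 2) i j = mmB2 i j := by
  intro i j; fin_cases i <;> fin_cases j <;> rfl

theorem equivB2 : ∃ φ : (CoxeterMatrix.B 2).Group ≃* TB2.good.W, ∀ i, φ ((CoxeterMatrix.B 2).simple i) = TB2.good.s i :=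
  exists_equiv TB2.good PB2.hA (CoxeterMatrix.B 2) mmB2 mmeqB2 (by decide +kernel)

theorem cardB2 : Nat.card TB2.good.W = 8 := by
  apply card_of_sum
  rw [← poinc_top TB2.good (I := [0, 1]) (by decide) (1 : ℤ)]
  rw [PB2.f0, PB2.f1, poinc_nil]
  norm_num [hor]

theorem coxordB2 : orderOf (wp TB2.good.s (List.finRange 2)) = 4 :=
  orderOf_wp TB2.good PB2.hA (List.finRange 2) 3 (by decide +kernel)

/-- the Coxeter matrix of type D4 -/
def mmD4 (i j : ℕ) : ℕ := (([[nat_lit 1, nat_lit 3, nat_lit 2, nat_lit 2], [nat_lit 3, nat_lit 1, nat_lit 3, nat_lit 3], [nat_lit 2, nat_lit 3, nat_lit 1, nat_lit 2], [nat_lit 2, nat_lit 3, nat_lit 2, nat_lit 1]] : List (List ℕ)).getD i []).getD j 0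

theorem mmeqD4 : ∀ i j : Fin 4, Cfsg.Lie.coxeterD4 i j = mmD4 i j := by
  intro i j; fin_cases i <;> fin_cases j <;> rfl

theorem equivD4 : ∃ φ : Cfsg.Lie.coxeterD4.Group ≃* TD4.good.W, ∀ i, φ (Cfsg.Lie.coxeterD4.simple i) = TD4.good.s i :=
  exists_equiv TD4.good PD4.hA Cfsg.Lie.coxeterD4 mmD4 mmeqD4 (by decide +kernel)

theorem cardD4 : Nat.card TD4.good.W = 192 := by
  apply card_of_sum
  rw [← poinc_top TD4.good (I := [0, 1, 2, 3]) (by decide) (1 : ℤ)]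
  rw [PD4.f0, PD4.f1, PD4.f2, PD4.f3, poinc_nil]
  norm_num [hor]

theorem coxordD4 : orderOf (wp TD4.good.s (List.finRange 4)) = 6 :=
  orderOf_wp TD4.good PD4.hA (List.finRange 4) 5 (by decide +kernel)

/-- the Coxeter matrix of type F4 -/
def mmF4 (i j : ℕ) : ℕ := (([[nat_lit 1, nat_lit 3, nat_lit 2, nat_lit 2], [nat_lit 3, nat_lit 1, nat_lit 4, nat_lit 2], [nat_lit 2, nat_lit 4, nat_lit 1, nat_lit 3], [nat_lit 2, nat_lit 2, nat_lit 3, nat_lit 1]] : List (List ℕ)).getD i []).getD j 0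

theorem mmeqF4 : ∀ i j : Fin 4, CoxeterMatrix.F₄ i j = mmF4 i j := by
  intro i j; fin_cases i <;> fin_cases j <;> rfl

theorem equivF4 : ∃ φ : CoxeterMatrix.F₄.Group ≃* TF4.good.W, ∀ i, φ (CoxeterMatrix.F₄.simple i) = TF4.good.s i :=
  exists_equiv TF4.good PF4.hA CoxeterMatrix.F₄ mmF4 mmeqF4 (by decide +kernel)

theorem cardF4 : Nat.card TF4.good.W = 1152 := by
  apply card_of_sum
  rw [← poinc_top TF4.good (I := [0, 1, 2, 3]) (by decide) (1 : ℤ)]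
  rw [PF4.f0, PF4.f1, PF4.f2, PF4.f3, poinc_nil]
  norm_num [hor]

theorem coxordF4 : orderOf (wp TF4.good.s (List.finRange 4)) = 12 :=
  orderOf_wp TF4.good PF4.hA (List.finRange 4) 11 (by decide +kernel)

/-- the Coxeter matrix of type E8 -/
def mmE8 (i j : ℕ) : ℕ := (([[nat_lit 1, nat_lit 2, nat_lit 3, nat_lit 2, nat_lit 2, nat_lit 2, nat_lit 2, nat_lit 2], [nat_lit 2, nat_lit 1, nat_lit 2, nat_lit 3, nat_lit 2, nat_lit 2, nat_lit 2, nat_lit 2], [nat_lit 3, nat_lit 2, nat_lit 1, nat_lit 3, nat_lit 2, nat_lit 2, nat_lit 2, nat_lit 2], [nat_lit 2, nat_lit 3, nat_lit 3, nat_lit 1, nat_lit 3, nat_lit 2, nat_lit 2, nat_lit 2], [nat_lit 2, nat_lit 2, nat_lit 2, nat_lit 3, nat_lit 1, nat_lit 3, nat_lit 2, nat_lit 2], [nat_lit 2, nat_lit 2, nat_lit 2, nat_lit 2, nat_lit 3, nat_lit 1, nat_lit 3, nat_lit 2], [nat_lit 2, nat_lit 2, nat_lit 2, nat_lit 2, nat_lit 2, nat_lit 3, nat_lit 1, nat_lit 3],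 [nat_lit 2, nat_lit 2, nat_lit 2, nat_lit 2, nat_lit 2, nat_lit 2, nat_lit 3, nat_lit 1]] : List (List ℕ)).getD i []).getD j 0

theorem mmeqE8 : ∀ i j : Fin 8, CoxeterMatrix.E₈ i j = mmE8 i j := by
  intro i j; fin_cases i <;> fin_cases j <;> rfl

theorem equivE8 : ∃ φ : CoxeterMatrix.E₈.Group ≃* TE8.good.W, ∀ i, φ (CoxeterMatrix.E₈.simple i) = TE8.good.s i :=
  exists_equiv TE8.good PE8.hA CoxeterMatrix.E₈ mmE8 mmeqE8 (by decide +kernel)

theorem cardE8 : Nat.card TE8.good.W = 696729600 := by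
  apply card_of_sum
  rw [← poinc_top TE8.good (I := [0, 1, 2, 3, 4, 5, 6, 7]) (by decide) (1 : ℤ)]
  rw [PE8.f0, PE8.f1, PE8.f2, PE8.f3, PE8.f4, PE8.f5, PE8.f6, PE8.f7, poinc_nil]
  norm_num [hor]

theorem coxordE8 : orderOf (wp TE8.good.s (List.finRange 8)) = 30 :=
  orderOf_wp TE8.good PE8.hA (List.finRange 8) 29 (by decide +kernel)

/-- the Coxeter matrix of type E7 -/
def mmE7 (i j : ℕ) : ℕ := (([[nat_lit 1, nat_lit 2, nat_lit 3, nat_lit 2, nat_lit 2, nat_lit 2, nat_lit 2], [nat_lit 2, nat_lit 1, nat_lit 2, nat_lit 3, nat_lit 2, nat_lit 2, nat_lit 2], [nat_lit 3, nat_lit 2, nat_lit 1, nat_lit 3, nat_lit 2, nat_lit 2, nat_lit 2], [nat_lit 2, nat_lit 3, nat_lit 3, nat_lit 1, nat_lit 3, nat_lit 2, nat_lit 2], [nat_lit 2, nat_lit 2, nat_lit 2, nat_lit 3, nat_lit 1, nat_lit 3, nat_lit 2], [nat_lit 2, nat_lit 2, nat_lit 2, nat_lit 2, nat_lit 3, nat_lit 1, nat_lit 3], [nat_lit 2, nat_lit 2,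 nat_lit 2, nat_lit 2, nat_lit 2, nat_lit 3, nat_lit 1]] : List (List ℕ)).getD i []).getD j 0

theorem mmeqE7 : ∀ i j : Fin 7, CoxeterMatrix.E₇ i j = mmE7 i j := by
  intro i j; fin_cases i <;> fin_cases j <;> rfl

theorem equivE7 : ∃ φ : CoxeterMatrix.E₇.Group ≃* TE7.good.W, ∀ i, φ (CoxeterMatrix.E₇.simple i) = TE7.good.s i :=
  exists_equiv TE7.good PE7.hA CoxeterMatrix.E₇ mmE7 mmeqE7 (by decide +kernel)

theorem cardE7 : Nat.card TE7.good.W = 2903040 := by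
  apply card_of_sum
  rw [← poinc_top TE7.good (I := [0, 1, 2, 3, 4, 5, 6]) (by decide) (1 : ℤ)]
  rw [PE7.f0, PE7.f1, PE7.f2, PE7.f3, PE7.f4, PE7.f5, PE7.f6, poinc_nil]
  norm_num [hor]

theorem coxordE7 : orderOf (wp TE7.good.s (List.finRange 7)) = 18 :=
  orderOf_wp TE7.good PE7.hA (List.finRange 7) 17 (by decide +kernel)

/-- the Coxeter matrix of type E6 -/
def mmE6 (i j : ℕ) : ℕ := (([[nat_lit 1, nat_lit 2, nat_lit 3, nat_lit 2, nat_lit 2, nat_lit 2], [nat_lit 2, nat_lit 1, nat_lit 2, nat_lit 3, nat_lit 2, nat_lit 2], [nat_lit 3, nat_lit 2, nat_lit 1, nat_lit 3, nat_lit 2, nat_lit 2], [nat_lit 2, nat_lit 3, nat_lit 3, nat_lit 1, nat_lit 3, nat_lit 2], [nat_lit 2, nat_lit 2, nat_lit 2, nat_lit 3, nat_lit 1, nat_lit 3], [nat_lit 2, nat_lit 2, nat_lit 2, nat_lit 2, nat_lit 3, nat_lit 1]] : List (List ℕ)).getD i []).getD j 0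

theorem mmeqE6 : ∀ i j : Fin 6, CoxeterMatrix.E₆ i j = mmE6 i j := by
  intro i j; fin_cases i <;> fin_cases j <;> rfl

theorem equivE6 : ∃ φ : CoxeterMatrix.E₆.Group ≃* TE6.good.W, ∀ i, φ (CoxeterMatrix.E₆.simple i) = TE6.good.s i :=
  exists_equiv TE6.good PE6.hA CoxeterMatrix.E₆ mmE6 mmeqE6 (by decide +kernel)

theorem cardE6 : Nat.card TE6.good.W = 51840 := by
  apply card_of_sum
  rw [← poinc_top TE6.good (I := [0, 1, 2, 3, 4, 5]) (by decide) (1 : ℤ)]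
  rw [PE6.f0, PE6.f1, PE6.f2, PE6.f3, PE6.f4, PE6.f5, poinc_nil]
  norm_num [hor]

theorem coxordE6 : orderOf (wp TE6.good.s (List.finRange 6)) = 12 :=
  orderOf_wp TE6.good PE6.hA (List.finRange 6) 11 (by decide +kernel)

end Cfsg.Agent.H22
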