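import Cfsg.Agent.H22.Poincare
import Cfsg.Agent.H22.CoxPres

set_option autoImplicit false
set_option linter.unusedSectionVars false

/-!
# Orders of elements of the Weyl groups by integer matrices (seat helper22)
-/

namespace Cfsg.Agent.H22

open Cfsg.Agent.H6 Cfsg.Lie

/-- right multiplication by a simple reflection on coordinate matrices -/
def mstep (A : List (List ℤ)) (r i : ℕ) (R : List (List ℤ)) : List (List ℤ) :=
  (List.range r).map fun j => List.zipWith (fun x y => x - (A.getD i []).getD j 0 * y) (R.getD j []) (R.getD i [])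

/-- identity matrix -/
def mid (r : ℕ) : List (List ℤ) := (List.range r).map fun j => (List.range r).map fun k => if k = j then 1 else 0

/-- right multiplication by a word -/
def mword (A : List (List ℤ)) (r : ℕ) (L : List ℕ) (R : List (List ℤ)) : List (List ℤ) :=
  L.foldl (fun R i => mstep A r i R) R

/-- `R ≠ 1, R·L ≠ 1, …, R·L^(n-1) ≠ 1, R·L^n = 1` -/
def oiter (A : List (List ℤ)) (r : ℕ) (L : List ℕ) : ℕ → List (List ℤ) → Bool
  | 0, R => R == mid r
  | (n + 1), R => !(R == mid r) && oiter A r L n (mword A r L R)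

section
variable {D : ChevalleyDatum} {N : ℕ} {η : ℕ → ℕ → ℤ} {rc : ℕ → ℕ → ℤ} (hG : Good D N η rc)

/-- coordinate matrix -/
def mmat (hG : Good D N η rc) (w : hG.W) : List (List ℤ) :=
  List.ofFn fun j : Fin D.rank => List.ofFn fun k : Fin D.rank => rc (w.1 (hG.sr j)) k

theorem mmat_one : mmat hG 1 = mid D.rank := by
  apply List.ext_getElem
  · simp [mmat, mid]
  · intro n h1 h2
    have hn : n < D.rank := by simpa [mmat] using h1
    simp only [mmat, mid, List.getElem_ofFn, List.getElem_map, List.getElem_range]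
    apply List.ext_getElem
    · simp
    · intro m h3 h4
      have hm : m < D.rank := by simpa using h3
      simp only [List.getElem_ofFn, List.getElem_map, List.getElem_range]
      rw [rc_one hG m hm]

theorem mmat_eq_one_iff {w : hG.W} : mmat hG w = mid D.rank ↔ w = 1 := by
  constructor
  · intro h
    rw [← mmat_one hG] at h
    unfold mmat at h
    rw [List.ofFn_inj] at h
    apply hG.eq_one_of_pos
    intro i
    have h1 := congrFun h i
    rw [List.ofFn_inj] at h1
    have h2 : w.1 (hG.sr i) = hG.sr i := by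
      apply Fin.ext
      apply hG.rc_inj (w.1 (hG.sr i)).2 (hG.sr i).2
      intro j hj
      have h3 := congrFun h1 ⟨j, hj⟩
      exact h3
    rw [h2]
    exact hG.sr_pos i
  · rintro rfl
    exact mmat_one hG

theorem mmat_mul_s {A : List (List ℤ)} (hA : ∀ i < D.rank, ∀ j < D.rank, D.cartan i (D.simple j) = (A.getD i []).getD j 0)
    (w : hG.W) (i : Fin D.rank) : mmat hG (w * hG.s i) = mstep A D.rank i (mmat hG w) := by
  have hget : ∀ (w : hG.W) (m : ℕ) (hm : m < D.rank),
      (mmat hG w).getD m [] = List.ofFn fun k : Fin D.rank => rc (w.1 (hG.sr ⟨m, hm⟩)) k := by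
    intro w m hm
    rw [List.getD_eq_getElem _ _ (by simpa [mmat] using hm)]
    simp [mmat]
  apply List.ext_getElem
  · simp [mmat, mstep]
  · intro n h1 h2
    have hn : n < D.rank := by simpa [mmat] using h1
    have e1 : (mmat hG (w * hG.s i))[n] = (mmat hG (w * hG.s i)).getD n [] := (List.getD_eq_getElem _ _ _).symm
    rw [e1, hget _ n hn]
    simp only [mstep, List.getElem_map, List.getElem_range]
    rw [hget w n hn, hget w i i.2]
    apply List.ext_getElem
    · simp
    · intro k h3 h4
      have hk : k < D.rank := by simpa using h3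
      simp only [List.getElem_ofFn, List.getElem_zipWith]
      rw [← hA i i.2 n hn]
      change rc (w.1 ((hG.s i).1 (hG.sr ⟨n, hn⟩))) k = _
      rw [hG.rc_W w _ k hk]
      have e3 : ∀ m : Fin D.rank, rc ((hG.s i).1 (hG.sr ⟨n, hn⟩)) m * rc (w.1 (hG.sr m)) k =
          (if m = (⟨n, hn⟩ : Fin D.rank) then 1 else 0) * rc (w.1 (hG.sr m)) k -
          (if m = i then D.cartan i (D.simple n) else 0) * rc (w.1 (hG.sr m)) k := by
        intro m
        have := hG.rc_w i i.2 m m.2 (D.simple n) (hG.simple_lt n hn)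
        rw [hG.rc_simple n hn m m.2] at this
        rw [← sub_mul]
        congr 1
        change rc (D.reflectRoot i (D.simple n)) m = _
        rw [this]
        simp only [Fin.ext_iff]
      rw [Finset.sum_congr rfl fun m _ => e3 m, Finset.sum_sub_distrib]
      simp [ite_mul]

theorem mmat_mul_wp {A : List (List ℤ)} (hA : ∀ i < D.rank, ∀ j < D.rank, D.cartan i (D.simple j) = (A.getD i []).getD j 0)
    (L : List (Fin D.rank)) (w : hG.W) : mmat hG (w * wp hG.s L) = mword A D.rank (L.map Fin.val) (mmat hG w) := by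
  induction L generalizing w with
  | nil => simp [mword]
  | cons i L ih =>
    rw [wp_cons, ← mul_assoc, ih, mmat_mul_s hG hA]
    rfl

theorem oiter_spec {A : List (List ℤ)} (hA : ∀ i < D.rank, ∀ j < D.rank, D.cartan i (D.simple j) = (A.getD i []).getD j 0)
    (L : List (Fin D.rank)) : ∀ (n : ℕ) (w : hG.W), oiter A D.rank (L.map Fin.val) n (mmat hG w) = true →
    w * wp hG.s L ^ n = 1 ∧ ∀ m < n, w * wp hG.s L ^ m ≠ 1 := by
  intro n
  induction n with
  | zero =>
    intro w h
    simp only [oiter, beq_iff_eq] at h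
    rw [mmat_eq_one_iff] at h
    subst h
    simp
  | succ n ih =>
    intro w h
    simp only [oiter, Bool.and_eq_true, Bool.not_eq_true', beq_eq_false_iff_ne] at h
    obtain ⟨h1, h2⟩ := h
    rw [← mmat_mul_wp hG hA] at h2
    obtain ⟨h3, h4⟩ := ih _ h2
    refine ⟨by rw [pow_succ', ← mul_assoc, h3], ?_⟩
    intro m hm
    cases m with
    | zero =>
      rw [pow_zero, mul_one]
      intro h5
      exact h1 ((mmat_eq_one_iff hG).2 h5)
    | succ m =>
      rw [pow_succ', ← mul_assoc]
      exact h4 m (by omega)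

/-- orders of words -/
theorem orderOf_wp {A : List (List ℤ)} (hA : ∀ i < D.rank, ∀ j < D.rank, D.cartan i (D.simple j) = (A.getD i []).getD j 0)
    (L : List (Fin D.rank)) (n : ℕ) (h : oiter A D.rank (L.map Fin.val) n (mword A D.rank (L.map Fin.val) (mid D.rank)) = true) :
    orderOf (wp hG.s L) = n + 1 := by
  rw [← mmat_one hG, ← mmat_mul_wp hG hA, one_mul] at h
  obtain ⟨h1, h2⟩ := oiter_spec hG hA L n _ h
  rw [orderOf_eq_iff (by omega)]
  refine ⟨by rw [pow_succ', h1], ?_⟩
  intro m hm hm0 h3
  obtain ⟨m', rfl⟩ : ∃ m', m = m' + 1 := ⟨m - 1, by omega⟩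
  rw [pow_succ'] at h3
  exact h2 m' (by omega) h3

/-- check of the Coxeter matrix -/
def mchk (A : List (List ℤ)) (r : ℕ) (M : ℕ → ℕ → ℕ) : Bool :=
  (List.range r).all fun i => (List.range r).all fun j => i == j ||
    (decide (0 < M i j) && oiter A r [i, j] (M i j - 1) (mword A r [i, j] (mid r)))

/-- the Weyl group is the Coxeter group of its matrix -/
theorem exists_equiv {A : List (List ℤ)} (hA : ∀ i < D.rank, ∀ j < D.rank, D.cartan i (D.simple j) = (A.getD i []).getD j 0)
    (M : CoxeterMatrix (Fin D.rank)) (m : ℕ → ℕ → ℕ) (hm : ∀ i j : Fin D.rank, M i j = m i j)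
    (h : mchk A D.rank m = true) : ∃ φ : M.Group ≃* hG.W, ∀ i, φ (M.simple i) = hG.s i := by
  apply exists_coxeterSystem' hG.genInv hG.exchange (s_ne_one hG)
  intro i j hij
  simp only [mchk, List.all_eq_true, List.mem_range, Bool.or_eq_true, beq_iff_eq, Bool.and_eq_true, decide_eq_true_eq] at h
  rcases h i i.2 j j.2 with h1 | ⟨h1, h2⟩
  · exact absurd (Fin.ext h1) hij
  · have := orderOf_wp hG hA [i, j] (m i j - 1) h2
    rw [wp_cons, wp_single] at this
    rw [hm, this]
    omega

end

end Cfsg.Agent.H22
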